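import Cfsg.Agent.S4006

/-!
# A commutator identity for fixed-point-free automorphisms of order three, and a bound

In a `3'`-group with a fixed-point-free `ρ` of order three, `[a, ρb] = ρ⁻¹[a, b]`.  If moreover an
involution `ν` inverts `ρ` and its fixed points have exponent two, then the group is the product of the
fixed points and their `ρ`-translates.
-/

set_option autoImplicit false

namespace Cfsg.Agent.M12Amal

open Subgroup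
open scoped commutatorElement

variable {Y : Type*} [Group Y] [Finite Y]

/-- Commutators are central in such a group. -/
theorem class_two (B : Subgroup Y) [B.Normal] {ρ : Y} (hρ : ρ ^ 3 = 1)
    (hfix : ∀ c ∈ B, Commute ρ c → c = 1) (h3 : ¬ 3 ∣ Nat.card B) {a b c : Y} (ha : a ∈ B) (hb : b ∈ B)
    (hc : c ∈ B) : Commute ⁅a, b⁆ c := by
  have h := S4006.commutator_central (M := B)
    (fun x g => by
      have := S4006.engel_all B hρ hfix x.2 g.2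
      exact Subtype.ext this.eq)
    (fun x hx => by
      by_contra hne
      exact h3 (orderOf_eq_prime (hp := ⟨Nat.prime_three⟩) hx hne ▸ orderOf_dvd_natCard x))
    ⟨a, ha⟩ ⟨b, hb⟩ ⟨c, hc⟩
  exact congrArg Subtype.val h.eq

/-- The identity `[a, ρb] = ρ⁻¹[a, b]`. -/
theorem comm_shift (B : Subgroup Y) [B.Normal] {ρ : Y} (hρ : ρ ^ 3 = 1)
    (hfix : ∀ c ∈ B, Commute ρ c → c = 1) (h3 : ¬ 3 ∣ Nat.card B) {a b : Y} (ha : a ∈ B) (hb : b ∈ B) :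
    ⁅a, ρ * b * ρ⁻¹⁆ = ρ⁻¹ * ⁅a, b⁆ * ρ := by
  have hcm : ∀ c ∈ B, ∀ g : Y, g * c * g⁻¹ ∈ B := fun c hc g => Subgroup.Normal.conj_mem inferInstance c hc g
  have hcm' : ∀ c ∈ B, ∀ g : Y, g⁻¹ * c * g ∈ B := fun c hc g => by simpa using hcm c hc g⁻¹
  have hbr : ∀ a ∈ B, ∀ b ∈ B, ⁅a, b⁆ ∈ B := fun a ha b hb => by
    rw [commutatorElement_def]
    exact mul_mem (mul_mem (mul_mem ha hb) (inv_mem ha)) (inv_mem hb)
  have hcen := fun {a b c : Y} => class_two B hρ hfix h3 (a := a) (b := b) (c := c)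
  have hr : ∀ x ∈ B, ∀ v ∈ B, ∀ w ∈ B, ⁅x, v * w⁆ = ⁅x, v⁆ * ⁅x, w⁆ := fun x hx v hv w hw => by
    calc ⁅x, v * w⁆ = ⁅x, v⁆ * (v * ⁅x, w⁆ * v⁻¹) := by simp only [commutatorElement_def]; group
      _ = _ := by rw [(hcen hx hw hv).symm.eq, mul_inv_cancel_right]
  have hl : ∀ x ∈ B, ∀ v ∈ B, ∀ w ∈ B, ⁅x * v, w⁆ = ⁅v, w⁆ * ⁅x, w⁆ := fun x hx v hv w hw => by
    calc ⁅x * v, w⁆ = x * ⁅v, w⁆ * x⁻¹ * ⁅x, w⁆ := by simp only [commutatorElement_def]; group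
      _ = _ := by rw [(hcen hv hw hx).symm.eq, mul_inv_cancel_right]
  have hρ2 : ρ ^ 2 = ρ⁻¹ := eq_inv_of_mul_eq_one_left (by rw [← pow_succ, hρ])
  have hρρ : ρ * ρ = ρ⁻¹ := by rw [← pow_two, hρ2]
  have htr : ∀ x ∈ B, x * (ρ * x * ρ⁻¹) * (ρ⁻¹ * x * ρ) = 1 := fun x hx => by
    have := S4006.triple B hρ hfix hx
    rwa [hρ2, inv_inv] at this
  have hmap : ∀ g x v : Y, ⁅g * x * g⁻¹, g * v * g⁻¹⁆ = g * ⁅x, v⁆ * g⁻¹ := fun g x v => by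
    simp only [commutatorElement_def]; group
  obtain ⟨P, hP⟩ : ∃ P, P = ⁅a, ρ * b * ρ⁻¹⁆ := ⟨_, rfl⟩
  obtain ⟨R, hR⟩ : ∃ R, R = ⁅a, ρ⁻¹ * b * ρ⁆ := ⟨_, rfl⟩
  obtain ⟨c, hc⟩ : ∃ c, c = ⁅a, b⁆ := ⟨_, rfl⟩
  have hPB : P ∈ B := hP ▸ hbr a ha _ (hcm b hb ρ)
  have hRB : R ∈ B := hR ▸ hbr a ha _ (hcm' b hb ρ)
  have hcB : c ∈ B := hc ▸ hbr a ha b hb
  have e1 : c * P * R = 1 := by
    have h := hr a ha (b * (ρ * b * ρ⁻¹)) (mul_mem hb (hcm b hb ρ)) (ρ⁻¹ * b * ρ) (hcm' b hb ρ)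
    rw [htr b hb, commutatorElement_one_right, hr a ha b hb _ (hcm b hb ρ)] at h
    rw [hc, hP, hR]; exact h.symm
  have e2 : ρ⁻¹ * R * ρ * (ρ * c * ρ⁻¹) * P = 1 := by
    have h := hl (a * (ρ * a * ρ⁻¹)) (mul_mem ha (hcm a ha ρ)) (ρ⁻¹ * a * ρ) (hcm' a ha ρ) (ρ * b * ρ⁻¹)
      (hcm b hb ρ)
    rw [htr a ha, commutatorElement_one_left, hl a ha _ (hcm a ha ρ) _ (hcm b hb ρ), hmap, ← hc, ← hP] at h
    have e : ⁅ρ⁻¹ * a * ρ, ρ * b * ρ⁻¹⁆ = ρ⁻¹ * R * ρ := by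
      rw [hR]
      have := hmap ρ⁻¹ a (ρ⁻¹ * b * ρ)
      rw [inv_inv, show ρ⁻¹ * (ρ⁻¹ * b * ρ) * ρ = (ρ * ρ)⁻¹ * b * (ρ * ρ) by group, hρρ, inv_inv] at this
      exact this
    rw [e, ← mul_assoc] at h
    exact h.symm
  -- the difference is fixed by `ρ`
  have hcc : ∀ g ∈ B, Commute c g := fun g hg => hc ▸ hcen ha hb hg
  have hPc : ∀ g ∈ B, Commute P g := fun g hg => hP ▸ hcen ha (hcm b hb ρ) hg
  have hconj : ∀ x, (∀ g ∈ B, Commute x g) → ∀ k, ∀ g ∈ B, Commute (k * x * k⁻¹) g := fun x hx k g hg => by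
    have := (hx _ (hcm' g hg k)).map (MulAut.conj k).toMonoidHom
    simp only [MulEquiv.coe_toMonoidHom, MulAut.conj_apply] at this
    rwa [show k * (k⁻¹ * g * k) * k⁻¹ = g by group] at this
  obtain ⟨d, hd⟩ : ∃ d, d = ρ⁻¹ * c⁻¹ * ρ * P := ⟨_, rfl⟩
  have hdB : d ∈ B := hd ▸ mul_mem (hcm' _ (inv_mem hcB) ρ) hPB
  have hR' : R = P⁻¹ * c⁻¹ := by
    rw [← mul_inv_rev]; exact eq_inv_of_mul_eq_one_right e1
  have hd1 : ρ⁻¹ * d * ρ = d := by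
    have hX : ρ * c * ρ⁻¹ * P = (ρ⁻¹ * R * ρ)⁻¹ := by
      rw [mul_assoc] at e2
      exact eq_inv_of_mul_eq_one_right e2
    have h1 : ρ⁻¹ * P * ρ = ρ⁻¹ * c⁻¹ * ρ * (ρ * c * ρ⁻¹ * P) := by rw [hX, hR']; group
    calc ρ⁻¹ * d * ρ = (ρ * ρ)⁻¹ * c⁻¹ * (ρ * ρ) * (ρ⁻¹ * P * ρ) := by rw [hd]; group
      _ = ρ * c⁻¹ * ρ⁻¹ * (ρ⁻¹ * c⁻¹ * ρ * (ρ * c * ρ⁻¹ * P)) := by rw [hρρ, inv_inv, h1]
      _ = ρ⁻¹ * c⁻¹ * ρ * (ρ * c⁻¹ * ρ⁻¹) * (ρ * c * ρ⁻¹ * P) := by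
          rw [← mul_assoc (ρ * c⁻¹ * ρ⁻¹),
            (hconj c⁻¹ (fun g hg => (hcc g hg).inv_left) ρ _ (hcm' _ (inv_mem hcB) ρ)).eq]
      _ = d := by rw [hd]; group
  have hd0 := hfix d hdB (by
    show ρ * d = d * ρ
    calc ρ * d = ρ * (ρ⁻¹ * d * ρ) := by rw [hd1]
      _ = d * ρ := by group)
  rw [hd] at hd0
  rw [← hP, ← hc, eq_inv_of_mul_eq_one_right hd0]
  group

/-- If the fixed points of an inverting involution have exponent two they generate with one translate. -/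
theorem prod_fixed (B : Subgroup Y) [B.Normal] {ρ ν : Y} (hρ : ρ ^ 3 = 1)
    (hfix : ∀ c ∈ B, Commute ρ c → c = 1) (h2 : IsPGroup 2 B) (hν : ν * ν = 1)
    (hνρ : ν * ρ * ν⁻¹ = ρ⁻¹) (hexp : ∀ c ∈ B, Commute ν c → c * c = 1) {n : Y} (hn : n ∈ B) :
    ∃ a b : Y, a ∈ B ∧ b ∈ B ∧ Commute ν a ∧ Commute ν b ∧ n = a * (ρ * b * ρ⁻¹) := by
  have hcm : ∀ c ∈ B, ∀ g : Y, g * c * g⁻¹ ∈ B := fun c hc g => Subgroup.Normal.conj_mem inferInstance c hc g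
  have hcm' : ∀ c ∈ B, ∀ g : Y, g⁻¹ * c * g ∈ B := fun c hc g => by simpa using hcm c hc g⁻¹
  have hνi : ν⁻¹ = ν := inv_eq_of_mul_eq_one_right hν
  have hνc : ∀ c, ν * (ρ * c * ρ⁻¹) * ν⁻¹ = ρ⁻¹ * (ν * c * ν⁻¹) * ρ := fun c => by
    calc ν * (ρ * c * ρ⁻¹) * ν⁻¹ = (ν * ρ * ν⁻¹) * (ν * c * ν⁻¹) * (ν * ρ * ν⁻¹)⁻¹ := by group
      _ = _ := by rw [hνρ, inv_inv]
  have hνc' : ∀ c, ν * (ρ⁻¹ * c * ρ) * ν⁻¹ = ρ * (ν * c * ν⁻¹) * ρ⁻¹ := fun c => by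
    calc ν * (ρ⁻¹ * c * ρ) * ν⁻¹ = (ν * ρ * ν⁻¹)⁻¹ * (ν * c * ν⁻¹) * (ν * ρ * ν⁻¹) := by group
      _ = _ := by rw [hνρ, inv_inv]
  have hρ2 : ρ ^ 2 = ρ⁻¹ := eq_inv_of_mul_eq_one_left (by rw [← pow_succ, hρ])
  have htr : ∀ x ∈ B, x * (ρ * x * ρ⁻¹) * (ρ⁻¹ * x * ρ) = 1 := fun x hx => by
    have := S4006.triple B hρ hfix hx
    rwa [hρ2, inv_inv] at this
  have hcom : ∀ x ∈ B, Commute x (ρ * x * ρ⁻¹) := fun x hx => S4006.comm_image B hρ hfix hx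
  -- inverted elements are involutions
  have hinv : ∀ i ∈ B, ν * i * ν⁻¹ = i⁻¹ → i * i = 1 := by
    intro i hi hiv
    obtain ⟨i', hi'⟩ : ∃ i', i' = ρ * i * ρ⁻¹ := ⟨_, rfl⟩
    obtain ⟨i'', hi''⟩ : ∃ i'', i'' = ρ⁻¹ * i * ρ := ⟨_, rfl⟩
    have hc : Commute i' i'' := by
      have := (hcom i'' (hi'' ▸ hcm' i hi ρ)).symm
      rw [hi'', show ρ * (ρ⁻¹ * i * ρ) * ρ⁻¹ = i by group] at this
      have h2 := this.map (MulAut.conj ρ).toMonoidHom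
      simp only [MulEquiv.coe_toMonoidHom, MulAut.conj_apply] at h2
      rw [show ρ * (ρ⁻¹ * i * ρ) * ρ⁻¹ = i by group] at h2
      have h3 := (hcom i hi).symm
      have e : i'' = (i * i')⁻¹ := by
        rw [hi'', hi']; exact eq_inv_of_mul_eq_one_right (htr i hi)
      rw [e]
      exact ((hi' ▸ h3 : Commute i' i).mul_right (Commute.refl i')).inv_right
    obtain ⟨f, hf⟩ : ∃ f, f = i' * i''⁻¹ := ⟨_, rfl⟩
    have hfν : ν * f * ν⁻¹ = f := by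
      rw [hf]
      calc ν * (i' * i''⁻¹) * ν⁻¹ = (ν * i' * ν⁻¹) * (ν * i'' * ν⁻¹)⁻¹ := by group
        _ = i''⁻¹ * i' := by rw [hi', hi'', hνc, hνc', hiv]; group
        _ = _ := hc.inv_right.symm.eq
    have hff := hexp f (hf ▸ mul_mem (hi' ▸ hcm i hi ρ) (inv_mem (hi'' ▸ hcm' i hi ρ)))
      (show ν * f = f * ν from (mul_inv_eq_iff_eq_mul.1 hfν))
    obtain ⟨j, hj⟩ : ∃ j, j = i * i := ⟨_, rfl⟩
    have hjB : j ∈ B := hj ▸ mul_mem hi hi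
    have hjrel : j = ((ρ * j * ρ⁻¹) * (ρ * j * ρ⁻¹))⁻¹ := by
      have hii' : Commute i i' := hi' ▸ hcom i hi
      have e : i''⁻¹ = i * i' := by
        rw [hi'', hi']; exact (eq_inv_of_mul_eq_one_left (htr i hi)).symm
      rw [hf, e] at hff
      have e2 : i' * (i * i') * (i' * (i * i')) = j * ((ρ * j * ρ⁻¹) * (ρ * j * ρ⁻¹)) := by
        rw [hj, show ρ * (i * i) * ρ⁻¹ = i' * i' by rw [hi']; group]
        calc i' * (i * i') * (i' * (i * i')) = (i' * i) * (i' * i') * (i * i') := by group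
          _ = (i * i') * (i' * i') * (i * i') := by rw [hii'.eq]
          _ = i * ((i' * i' * i') * i) * i' := by group
          _ = i * (i * (i' * i' * i')) * i' := by rw [((hii'.mul_right hii').mul_right hii').eq]
          _ = i * i * (i' * i' * (i' * i')) := by group
      rw [e2] at hff
      exact eq_inv_of_mul_eq_one_left hff
    have hj9 : j ^ 9 = 1 := by
      have s1 : j = (ρ * j * ρ⁻¹) ^ (-2 : ℤ) := by
        rw [zpow_neg, show (2 : ℤ) = 1 + 1 from rfl, zpow_add, zpow_one]; exact hjrel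
      have s2 : ρ * j * ρ⁻¹ = (ρ ^ 2 * j * (ρ ^ 2)⁻¹) ^ (-2 : ℤ) := by
        conv_lhs => rw [s1]
        rw [pow_two, ← conj_zpow]
        congr 1
        group
      have s3 : ρ ^ 2 * j * (ρ ^ 2)⁻¹ = j ^ (-2 : ℤ) := by
        conv_lhs => rw [s1]
        rw [← conj_zpow]
        congr 1
        calc ρ ^ 2 * (ρ * j * ρ⁻¹) * (ρ ^ 2)⁻¹ = ρ ^ 3 * j * (ρ ^ 3)⁻¹ := by
              simp only [pow_succ, pow_zero, one_mul]; group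
          _ = j := by rw [hρ]; group
      have s4 : j = j ^ (-8 : ℤ) := by
        conv_lhs => rw [s1, s2, s3]
        rw [← zpow_mul, ← zpow_mul]
        norm_num
      have h9 : j ^ (9 : ℤ) = 1 := by
        rw [show (9 : ℤ) = 1 + 8 from rfl, zpow_add, zpow_one]
        nth_rw 1 [s4]
        rw [zpow_neg, inv_mul_cancel]
      exact_mod_cast h9
    obtain ⟨k, hk⟩ := h2 ⟨j, hjB⟩
    have hk' : j ^ 2 ^ k = 1 := congrArg Subtype.val hk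
    have hgcd := pow_gcd_eq_one.2 ⟨hj9, hk'⟩
    rw [show Nat.gcd 9 (2 ^ k) = 1 from
      (Nat.Coprime.pow_right k (by norm_num : Nat.Coprime 9 2)), pow_one] at hgcd
    rw [← hj, hgcd]
  obtain ⟨b, hb⟩ : ∃ b, b = n⁻¹ * (ν * n * ν⁻¹) := ⟨_, rfl⟩
  have hbB : b ∈ B := hb ▸ mul_mem (inv_mem hn) (hcm n hn ν)
  have hbv : ν * b * ν⁻¹ = b⁻¹ := by
    rw [hb]
    calc ν * (n⁻¹ * (ν * n * ν⁻¹)) * ν⁻¹ = (ν * n * ν⁻¹)⁻¹ * (ν * ν * n * (ν * ν)⁻¹) := by group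
      _ = _ := by rw [hν]; group
  have hb2 := hinv b hbB hbv
  have hbi : b⁻¹ = b := inv_eq_of_mul_eq_one_right hb2
  rw [hbi] at hbv
  have hρb2 : ρ * b * ρ⁻¹ * (ρ * b * ρ⁻¹) = 1 := by
    calc ρ * b * ρ⁻¹ * (ρ * b * ρ⁻¹) = ρ * (b * b) * ρ⁻¹ := by group
      _ = 1 := by rw [hb2]; group
  refine ⟨n * (ρ * b * ρ⁻¹), b, mul_mem hn (hcm b hbB ρ), hbB,
    mul_inv_eq_iff_eq_mul.1 ?_, mul_inv_eq_iff_eq_mul.1 hbv, by rw [mul_assoc, hρb2, mul_one]⟩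
  have hn' : ν * n * ν⁻¹ = n * b := by rw [hb]; group
  have hbr : b * (ρ⁻¹ * b * ρ) = ρ * b * ρ⁻¹ := by
    have h1 : b * (ρ * b * ρ⁻¹) = (ρ⁻¹ * b * ρ)⁻¹ := eq_inv_of_mul_eq_one_left (htr b hbB)
    have h2 : (ρ⁻¹ * b * ρ)⁻¹ = ρ⁻¹ * b * ρ := by
      calc (ρ⁻¹ * b * ρ)⁻¹ = ρ⁻¹ * b⁻¹ * ρ := by group
        _ = _ := by rw [hbi]
    rw [h2] at h1
    calc b * (ρ⁻¹ * b * ρ) = b * (b * (ρ * b * ρ⁻¹)) := by rw [h1]
      _ = _ := by rw [← mul_assoc, hb2, one_mul]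
  calc ν * (n * (ρ * b * ρ⁻¹)) * ν⁻¹ = (ν * n * ν⁻¹) * (ν * (ρ * b * ρ⁻¹) * ν⁻¹) := by group
    _ = n * (ρ * b * ρ⁻¹) := by rw [hn', hνc, hbv, mul_assoc, hbr]

end Cfsg.Agent.M12Amal
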