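import Cfsg.Agent.M12Amal.Frames
import Cfsg.Agent.M12Amal.Class

/-!
# The fixed points of `u` on `N`

At most two elements of `N` lie in the kernels attached to `u` and `t * u`.
-/

set_option autoImplicit false

namespace Cfsg.Agent.M12Amal

open Subgroup
open scoped commutatorElement
open SelfCentThree (Sc)

universe w

variable {G : Type w} [Group G] [Finite G]

theorem InN.one (a : G) : InN a 1 :=
  ⟨⊥, bot_le, fun g _ => by rw [normalizer_eq_top]; trivial, by rw [card_bot]; norm_num, one_mem _⟩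

theorem InN.inv {a e : G} (h : InN a e) : InN a e⁻¹ := by
  obtain ⟨M, h1, h2, h3, h4⟩ := h
  exact ⟨M, h1, h2, h3, inv_mem h4⟩

theorem InN.pow {a e : G} (h : InN a e) (n : ℕ) : InN a (e ^ n) := by
  obtain ⟨M, h1, h2, h3, h4⟩ := h
  exact ⟨M, h1, h2, h3, pow_mem h4 n⟩

namespace Ctx

variable {z x y t u q : G} {N : Subgroup G} (D : Ctx z x y t u q N)

omit [Finite G] in
include D in
theorem s_u : q * u * u * (q * u)⁻¹ = t * u := by
  have h : u * q⁻¹ = q * u := by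
    rw [← D.H.uq]
    calc u * (u * q * u) = u * u * q * u := by group
      _ = q * u := by rw [D.H.uu, one_mul]
  calc q * u * u * (q * u)⁻¹ = q * (u * q⁻¹) := by group
    _ = t * u := by rw [h, ← mul_assoc, D.H.qq]

omit [Finite G] in
include D in
theorem qu_t : q * u * t = t * (q * u) :=
  ((show Commute q t from D.qt).mul_left (show Commute u t from D.H.ut)).eq

omit [Finite G] in
include D in
theorem s_tu : q * u * (t * u) * (q * u)⁻¹ = u := by
  calc q * u * (t * u) * (q * u)⁻¹ = (q * u * t) * u * (q * u)⁻¹ := by group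
    _ = t * (q * u * u * (q * u)⁻¹) := by rw [D.qu_t]; group
    _ = u := by rw [D.s_u, ← mul_assoc, D.H.tt, one_mul]

omit [Finite G] in
include D in
theorem g_tu : y * q * y⁻¹ * (t * u) * (y * q * y⁻¹)⁻¹ = t * (q * u) := by
  calc y * q * y⁻¹ * (t * u) * (y * q * y⁻¹)⁻¹ = (y * q * y⁻¹ * t) * u * (y * q * y⁻¹)⁻¹ := by group
    _ = t * (y * q * y⁻¹ * u * (y * q * y⁻¹)⁻¹) := by rw [D.gt]; group
    _ = _ := by rw [D.H.gu]

include D in
/-- Squares of elements commuting with an outside involution. -/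
theorem sq_inN {a b w : G} (ha : IsConj t a) (hb2 : b * b = 1) (hba : b * a = a * b) (hb : ¬ InN a b)
    (hwa : w * a = a * w) (hwb : w * b = b * w) : InN a (w * w) := by
  obtain ⟨h, rfl⟩ := isConj_iff.1 ha
  have e : ∀ c, c * (h * t * h⁻¹) = h * t * h⁻¹ * c → h⁻¹ * c * h * t = t * (h⁻¹ * c * h) := fun c hc => by
    calc h⁻¹ * c * h * t = h⁻¹ * (c * (h * t * h⁻¹)) * h := by group
      _ = _ := by rw [hc]; group
  have hbb : h⁻¹ * b * h * (h⁻¹ * b * h) = 1 := by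
    calc h⁻¹ * b * h * (h⁻¹ * b * h) = h⁻¹ * (b * b) * h := by group
      _ = 1 := by rw [hb2]; group
  have hmem := D.K.sqr (h⁻¹ * b * h) (h⁻¹ * w * h) (e b hba) (e w hwa) (by rw [hbb]; exact one_mem N)
    (fun hm => hb (by simpa [mul_assoc] using ((D.K.mem_iff _).2 hm).conj h))
    (by calc h⁻¹ * b * h * (h⁻¹ * w * h) = h⁻¹ * (b * w) * h := by group
          _ = _ := by rw [← hwb]; group)
  have := ((D.K.mem_iff _).2 hmem).conj h
  simpa [mul_assoc] using this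

include D in
theorem card_image_cop {π : centralizer ({t} : Set G) →* Kb t} {Nb : Subgroup (Kb t)}
    (hmem : ∀ g : centralizer ({t} : Set G), π g ∈ Nb ↔ (g : G) ∈ N) (hπs : Function.Surjective π) :
    ¬ 3 ∣ Nat.card Nb := by
  intro hd
  obtain ⟨M, -, -, hM3, -⟩ := (D.K.mem_iff t).2 D.K.tN
  have h3N : ¬ 3 ∣ Nat.card N := by
    intro h
    have : Fact (Nat.Prime 3) := ⟨Nat.prime_three⟩
    obtain ⟨⟨v, hv⟩, hvo⟩ := exists_prime_orderOf_dvd_card' 3 h
    rw [orderOf_mk] at hvo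
    obtain ⟨M', -, -, hM', hvM⟩ := (D.K.mem_iff v).2 hv
    exact hM' (hvo ▸ orderOf_mk v hvM ▸ orderOf_dvd_natCard _)
  refine h3N (hd.trans ?_)
  have e : Nb = (N.subgroupOf (centralizer ({t} : Set G))).map π := by
    ext c
    obtain ⟨g, rfl⟩ := hπs c
    rw [hmem]
    refine ⟨fun h => ⟨g, h, rfl⟩, ?_⟩
    rintro ⟨g', hg', hgg⟩
    exact (hmem g).1 (hgg ▸ (hmem g').2 hg')
  rw [e]
  exact (card_map_dvd ..).trans (by rw [Nat.card_congr (subgroupOfEquivOfLe D.K.le).toEquiv])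

include D in
/-- Commutators are central modulo `t`. -/
theorem central_mod {a b c : G} (ha : a ∈ N) (hb : b ∈ N) (hc : c ∈ N) :
    c * (a * b * a⁻¹ * b⁻¹) * c⁻¹ * (a * b * a⁻¹ * b⁻¹)⁻¹ ∈ zpowers t := by
  obtain ⟨π, Nb, hNb, Y, hY, hπs, hπ1, hsc, hmem, hfix, -⟩ := D.quot_data
  obtain ⟨A, rfl⟩ : ∃ A : centralizer ({t} : Set G), (A : G) = a := ⟨⟨a, D.K.le ha⟩, rfl⟩
  obtain ⟨B, rfl⟩ : ∃ B : centralizer ({t} : Set G), (B : G) = b := ⟨⟨b, D.K.le hb⟩, rfl⟩
  obtain ⟨C, rfl⟩ : ∃ C : centralizer ({t} : Set G), (C : G) = c := ⟨⟨c, D.K.le hc⟩, rfl⟩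
  have h := class_two Nb hsc.cube hfix (D.card_image_cop hmem hπs) ((hmem A).2 ha) ((hmem B).2 hb)
    ((hmem C).2 hc)
  have h' : π (C * ⁅A, B⁆ * C⁻¹ * ⁅A, B⁆⁻¹) = 1 := by
    simp only [map_mul, map_inv, map_commutatorElement]
    rw [h.symm.eq]; group
  simpa [commutatorElement_def, mul_assoc] using (hπ1 _).1 h'

include D in
/-- `[a, y b y⁻¹]` is `y⁻¹ [a, b] y` modulo `t`. -/
theorem shift_mod {a b : G} (ha : a ∈ N) (hb : b ∈ N) :
    a * (y * b * y⁻¹) * a⁻¹ * (y * b * y⁻¹)⁻¹ * (y⁻¹ * (a * b * a⁻¹ * b⁻¹) * y)⁻¹ ∈ zpowers t := by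
  obtain ⟨π, Nb, hNb, Y, hY, hπs, hπ1, hsc, hmem, hfix, -⟩ := D.quot_data
  obtain ⟨A, rfl⟩ : ∃ A : centralizer ({t} : Set G), (A : G) = a := ⟨⟨a, D.K.le ha⟩, rfl⟩
  obtain ⟨B, rfl⟩ : ∃ B : centralizer ({t} : Set G), (B : G) = b := ⟨⟨b, D.K.le hb⟩, rfl⟩
  have h := comm_shift Nb hsc.cube hfix (D.card_image_cop hmem hπs) ((hmem A).2 ha) ((hmem B).2 hb)
  have h' : π (⁅A, Y * B * Y⁻¹⁆ * (Y⁻¹ * ⁅A, B⁆ * Y)⁻¹) = 1 := by
    simp only [map_mul, map_inv, map_commutatorElement]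
    rw [h]; group
  simpa [commutatorElement_def, mul_assoc, hY] using (hπ1 _).1 h'

include D in
/-- The commutator with `q` of a `u`-fixed element of `N` is an involution commuting with
`g = y q y⁻¹`. -/
theorem comm_q {n : G} (hn : n ∈ N) (hnu : n * u = u * n) :
    n * q * n⁻¹ * q⁻¹ ∈ N ∧ n * q * n⁻¹ * q⁻¹ * u = u * (n * q * n⁻¹ * q⁻¹) ∧
      n * q * n⁻¹ * q⁻¹ * (n * q * n⁻¹ * q⁻¹) = 1 ∧ Commute (n * q * n⁻¹ * q⁻¹) (y * q * y⁻¹) := by
  have hnt := D.cent_of_mem hn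
  obtain ⟨c, hc⟩ : ∃ c, c = n * q * n⁻¹ * q⁻¹ := ⟨_, rfl⟩
  rw [← hc]
  have hcN : c ∈ N := hc ▸ mul_mem (mul_mem (mul_mem hn D.K.qN) (inv_mem hn)) (inv_mem D.K.qN)
  have hct := D.cent_of_mem hcN
  have hqi : q⁻¹ = q * t := by
    refine inv_eq_of_mul_eq_one_right ?_
    rw [← mul_assoc, D.H.qq, D.H.tt]
  have huq : u * q * u⁻¹ = q * t := by rw [D.ui, D.H.uq, hqi]
  have hun : u * n * u⁻¹ = n := by rw [← hnu, mul_inv_cancel_right]
  have huc : u * c * u⁻¹ = c := by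
    rw [hc]
    calc u * (n * q * n⁻¹ * q⁻¹) * u⁻¹ = (u * n * u⁻¹) * (u * q * u⁻¹) * (u * n * u⁻¹)⁻¹ * (u * q * u⁻¹)⁻¹ := by
          group
      _ = n * q * (t * n⁻¹) * t⁻¹ * q⁻¹ := by rw [hun, huq]; group
      _ = n * q * n⁻¹ * q⁻¹ := by
          rw [((show Commute t n from hnt.symm).inv_right).eq]; group
  have hcu : c * u = u * c := (mul_inv_eq_iff_eq_mul.1 huc).symm
  have hinv : q * c * q⁻¹ = c⁻¹ := by
    refine eq_inv_of_mul_eq_one_right ?_
    rw [hc]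
    calc n * q * n⁻¹ * q⁻¹ * (q * (n * q * n⁻¹ * q⁻¹) * q⁻¹) = n * (q * q) * n⁻¹ * (q * q)⁻¹ := by group
      _ = 1 := by rw [D.H.qq, hnt]; group
  have hc2t : c * c ∈ zpowers t := by
    have h := D.central_mod hn D.K.qN D.K.qN
    rw [← hc, hinv, ← mul_inv_rev] at h
    exact inv_mem_iff.1 h
  have hc2 : c * c = 1 := by
    rcases mem_zpowers_invol D.H.tt hc2t with h | h
    · exact h
    · exfalso
      refine D.t_not_inN_u ?_
      rw [← h]
      exact D.sq_inN D.u_conj D.H.tt D.H.ut.symm D.t_not_inN_u hcu hct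
  refine ⟨hcN, hcu, hc2, ?_⟩
  -- the translate
  obtain ⟨g, hg⟩ : ∃ g, g = y * q * y⁻¹ := ⟨_, rfl⟩
  rw [← hg]
  have hgN : g ∈ N := hg ▸ D.conj_mem D.K.qN D.H.yt
  have hgg : g * g = t := by
    rw [hg]
    calc y * q * y⁻¹ * (y * q * y⁻¹) = y * (q * q) * y⁻¹ := by group
      _ = t := by rw [D.H.qq, D.H.yt, mul_inv_cancel_right]
  obtain ⟨d, hd⟩ : ∃ d, d = n * g * n⁻¹ * g⁻¹ := ⟨_, rfl⟩
  obtain ⟨E, hE⟩ : ∃ E, E = y⁻¹ * c * y := ⟨_, rfl⟩
  have hdE : d * E⁻¹ ∈ zpowers t := by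
    have := D.shift_mod hn D.K.qN
    rwa [← hg, ← hc, ← hd, ← hE] at this
  have hyit : y⁻¹ * t = t * y⁻¹ := (Commute.inv_left (show Commute y t from D.H.yt)).eq
  have hEt : E * t = t * E := by
    rw [hE]
    exact ((show Commute y⁻¹ t from hyit).mul_left (show Commute c t from hct)).mul_left
      (show Commute y t from D.H.yt)
  have hE2 : E * E = 1 := by
    rw [hE]
    calc y⁻¹ * c * y * (y⁻¹ * c * y) = y⁻¹ * (c * c) * y := by group
      _ = 1 := by rw [hc2]; group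
  have hd2 : d * d = 1 := by
    have e : d = d * E⁻¹ * E := by group
    rcases mem_zpowers_invol D.H.tt hdE with h | h <;> rw [h] at e <;> rw [e]
    · rw [one_mul, hE2]
    · calc t * E * (t * E) = t * (E * t) * E := by group
        _ = t * t * (E * E) := by rw [hEt]; group
        _ = 1 := by rw [D.H.tt, hE2, one_mul]
  have hgd : Commute g d := by
    have e2 : g * d * g⁻¹ = d⁻¹ := by
      refine eq_inv_of_mul_eq_one_right ?_
      rw [hd]
      calc n * g * n⁻¹ * g⁻¹ * (g * (n * g * n⁻¹ * g⁻¹) * g⁻¹) = n * (g * g) * n⁻¹ * (g * g)⁻¹ := by group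
        _ = 1 := by rw [hgg, hnt]; group
    rw [inv_eq_of_mul_eq_one_right hd2] at e2
    exact mul_inv_eq_iff_eq_mul.1 e2
  have hgE : Commute g E := by
    have e : E = (d * E⁻¹)⁻¹ * d := by group
    rcases mem_zpowers_invol D.H.tt hdE with h | h <;> rw [h] at e <;> rw [e]
    · rwa [inv_one, one_mul]
    · exact ((show Commute g t from D.cent_of_mem hgN).inv_right).mul_right hgd
  -- move back
  have h1 : Commute (y⁻¹ * q * y) c := by
    have := hgE.map (MulAut.conj y).toMonoidHom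
    simp only [MulEquiv.coe_toMonoidHom, MulAut.conj_apply, hE, hg] at this
    have hyy : y * y = y⁻¹ := eq_inv_of_mul_eq_one_left (by rw [← D.H.y3, pow_succ, pow_two])
    rwa [show y * (y * q * y⁻¹) * y⁻¹ = y * y * q * (y * y)⁻¹ by group, hyy, inv_inv,
      show y * (y⁻¹ * c * y) * y⁻¹ = c by group] at this
  have h2 := h1.map (MulAut.conj u).toMonoidHom
  simp only [MulEquiv.coe_toMonoidHom, MulAut.conj_apply, huc] at h2
  have h3 : u * (y⁻¹ * q * y) * u⁻¹ = g * t := by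
    calc u * (y⁻¹ * q * y) * u⁻¹ = (u * y * u⁻¹)⁻¹ * (u * q * u⁻¹) * (u * y * u⁻¹) := by group
      _ = y * q * (t * y⁻¹) := by rw [D.H.uy, huq]; group
      _ = g * t := by rw [← hyit, hg]; group
  rw [h3] at h2
  have h4 := h2.mul_left (show Commute t c from hct.symm)
  rw [mul_assoc, D.H.tt, mul_one] at h4
  exact h4.symm

/-- Membership in the three kernels attached to `t`, `u` and `t * u`. -/
def W0 (N : Subgroup G) (t u e : G) : Prop := e ∈ N ∧ InN u e ∧ InN (t * u) e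

include D in
/-- The only element of odd order or order two commuting with `g` in the three kernels is trivial. -/
theorem w0_kill {e : G} (he : W0 N t u e) (ho : e * e = 1 ∨ Odd (orderOf e))
    (hg : Commute e (y * q * y⁻¹)) : e = 1 := by
  have h1 := he.2.1.conj (y * q * y⁻¹)
  have h2 := he.2.2.conj (y * q * y⁻¹)
  rw [hg.symm.eq, mul_inv_cancel_right, D.H.gu] at h1
  rw [hg.symm.eq, mul_inv_cancel_right, D.g_tu] at h2
  exact D.noFix ho he.2.2 he.2.1 h1 h2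

include D in
theorem w0_mul {a b : G} (ha : W0 N t u a) (hb : W0 N t u b) : W0 N t u (a * b) :=
  ⟨mul_mem ha.1 hb.1, D.inN_mul D.u_conj ha.2.1 hb.2.1, D.inN_mul D.tu_conj ha.2.2 hb.2.2⟩

omit [Finite G] in
theorem w0_inv [Finite G] {a : G} (ha : W0 N t u a) : W0 N t u a⁻¹ :=
  ⟨inv_mem ha.1, ha.2.1.inv, ha.2.2.inv⟩

include D in
/-- `q` centralises the three kernels. -/
theorem w0_q {e : G} (he : W0 N t u e) : Commute e q := by
  have heu := he.2.1.mem_cent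
  obtain ⟨c, hc⟩ : ∃ c, c = e * q * e⁻¹ * q⁻¹ := ⟨_, rfl⟩
  have hq : q * e⁻¹ * q⁻¹ = q * u * e⁻¹ * (q * u)⁻¹ := by
    calc q * e⁻¹ * q⁻¹ = q * (e⁻¹ * u) * u⁻¹ * q⁻¹ := by group
      _ = _ := by rw [(Commute.inv_left (show Commute e u from heu)).eq]; group
  have h1 := (w0_inv he).2.1.conj (q * u)
  have h2 := (w0_inv he).2.2.conj (q * u)
  rw [D.s_u, ← hq] at h1
  rw [D.s_tu, ← hq] at h2
  obtain ⟨hcN, -, hc2, hcg⟩ := D.comm_q he.1 heu
  rw [← hc] at hcN hc2 hcg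
  have hce : c = e * (q * e⁻¹ * q⁻¹) := by rw [hc]; group
  have hcW : W0 N t u c :=
    ⟨hcN, hce ▸ D.inN_mul D.u_conj he.2.1 h2, hce ▸ D.inN_mul D.tu_conj he.2.2 h1⟩
  have := D.w0_kill hcW (Or.inl hc2) hcg
  rw [hc, mul_inv_eq_one, mul_inv_eq_iff_eq_mul] at this
  exact this

include D in
/-- A nontrivial element of the three kernels is moved to its product with `t` by `g`. -/
theorem w0_g {e : G} (he : W0 N t u e) (h1 : e ≠ 1) :
    e * (y * q * y⁻¹) * e⁻¹ * (y * q * y⁻¹)⁻¹ = t := by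
  have hsh := D.shift_mod he.1 D.K.qN
  have hc : e * q * e⁻¹ * q⁻¹ = 1 := by rw [(D.w0_q he).eq]; group
  rw [hc, mul_one, inv_mul_cancel, inv_one, mul_one] at hsh
  refine (mem_zpowers_invol D.H.tt hsh).resolve_left fun h => h1 ?_
  rw [mul_inv_eq_one, mul_inv_eq_iff_eq_mul] at h
  have hcom : Commute e (y * q * y⁻¹) := h
  by_contra hne
  obtain ⟨p, hp, hdvd⟩ := Nat.exists_prime_and_dvd (fun e' => hne (orderOf_eq_one_iff.1 e'))
  have : Fact p.Prime := ⟨hp⟩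
  obtain ⟨k, hk⟩ := hdvd
  have ho : orderOf (e ^ k) = p := by
    have hk0 : k ≠ 0 := fun e' => by
      rw [e', mul_zero] at hk; exact absurd hk (orderOf_pos e).ne'
    rw [orderOf_pow_of_dvd hk0 (hk ▸ Dvd.intro_left p rfl), hk, Nat.mul_div_cancel _ (Nat.pos_of_ne_zero hk0)]
  have hW : W0 N t u (e ^ k) := ⟨pow_mem he.1 k, he.2.1.pow k, he.2.2.pow k⟩
  have := D.w0_kill hW (by
    rcases hp.eq_two_or_odd' with rfl | hodd
    · left; rw [← pow_two]; exact orderOf_dvd_iff_pow_eq_one.1 ho.dvd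
    · right; rw [ho]; exact hodd) (hcom.pow_left k)
  rw [this, orderOf_one] at ho
  exact hp.one_lt.ne ho

include D in
/-- The three kernels share at most two elements. -/
theorem w0_unique {a b : G} (ha : W0 N t u a) (hb : W0 N t u b) (ha1 : a ≠ 1) (hb1 : b ≠ 1) : a = b := by
  by_contra hne
  obtain ⟨g, hg⟩ : ∃ g, g = y * q * y⁻¹ := ⟨_, rfl⟩
  have e1 := D.w0_g ha ha1
  have e2 := D.w0_g hb hb1
  have e3 := D.w0_g (D.w0_mul (w0_inv ha) hb) (fun h => hne (inv_mul_eq_one.1 h))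
  rw [← hg] at e1 e2 e3
  rw [mul_inv_eq_iff_eq_mul] at e1 e2 e3
  have e4 : a⁻¹ * (t * g) * a = t * g := by
    calc a⁻¹ * (t * g) * a = a⁻¹ * (b * g * b⁻¹) * a := by rw [e2]
      _ = a⁻¹ * b * g * (a⁻¹ * b)⁻¹ := by group
      _ = t * g := e3
  have hat : a⁻¹ * t = t * a⁻¹ := (Commute.inv_left (show Commute a t from D.cent_of_mem ha.1)).eq
  have e5 : a⁻¹ * (t * g) * a = g := by rw [← e1]; group
  rw [e5] at e4
  exact D.H.t1 (right_eq_mul.1 e4)

include D in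
theorem w0_sq {e : G} (he : W0 N t u e) : e * e = 1 := by
  by_contra h
  have hne : e ≠ 1 := fun h1 => h (by rw [h1, one_mul])
  exact hne (mul_eq_left.1 (D.w0_unique (D.w0_mul he he) he h hne))

end Ctx

end Cfsg.Agent.M12Amal
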