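import Cfsg.Agent.M12Amal.Bound
import Mathlib.GroupTheory.PGroup

/-!
# The quotient `A₅` does not occur

The image of `N` would have order sixteen with all involutions fused, but `q` has order four while
some element fixed by `u` is an involution.
-/

set_option autoImplicit false
set_option synthInstance.maxSize 2000
set_option synthInstance.maxHeartbeats 200000

namespace Cfsg.Agent.M12Amal

open Subgroup
open SelfCentThree (Sc Inv card_alt_five)

universe w

/-- A second three-cycle. -/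
def cycB : alternatingGroup (Fin 5) :=
  ⟨Equiv.swap 2 3 * Equiv.swap 3 4, Equiv.Perm.mem_alternatingGroup.2 (by decide)⟩

theorem cyc_facts : cycB * cycB * cycB = 1 ∧ cycB ≠ 1 ∧
    (cycA * cycB) * (cycA * cycB) * (cycA * cycB) * (cycA * cycB) * (cycA * cycB) = 1 ∧
    cycA = cycB * cycA * (cycB * cycA) * (cycA * cycB * (cycA * cycB)) := by decide +kernel

theorem alt_five_conj : ∀ f : alternatingGroup (Fin 5), f * f * f * f * f = 1 → f ≠ 1 →
    ∃ k, k * f * k⁻¹ = cycA * cycB ∨ k * (f * f) * k⁻¹ = cycA * cycB := by decide +kernel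

theorem alt_cent_card : Nat.card {b : alternatingGroup (Fin 5) // b * invA = invA * b} = 4 := by
  rw [Nat.card_eq_fintype_card]; decide +kernel

variable {G : Type w} [Group G] [Finite G]

namespace Ctx

variable {z x y t u q : G} {N : Subgroup G} (D : Ctx z x y t u q N)

variable (hsq : ∀ e ∈ N, e * e ∈ zpowers t)

include D hsq in
theorem five_x {n : G} (hn : n ∈ N) (hnu : n * u = u * n) :
    n * n = 1 ∧ (InN u n → W0 N t u n) := by
  have h2 : n * n = 1 := by
    rcases mem_zpowers_invol D.H.tt (hsq n hn) with h | h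
    · exact h
    · exact absurd (h ▸ D.sq_inN D.u_conj D.H.tt D.H.ut.symm D.t_not_inN_u hnu (D.cent_of_mem hn))
        D.t_not_inN_u
  exact ⟨h2, fun h1 => ⟨hn, h1, D.par (IsConj.refl t) D.u_conj D.tu_conj h2 ((D.K.mem_iff n).2 hn) h1⟩⟩

include D hsq in
theorem five_card_x (φ : centralizer ({t} : Set G) →* alternatingGroup (Fin 5))
    (hφ : ∀ g, φ g = 1 ↔ (g : G) ∈ N) :
    Nat.card (N ⊓ centralizer ({u} : Set G) : Subgroup G) ≤ 8 := by
  obtain ⟨b, -, hb⟩ := D.H.zy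
  obtain ⟨X, hX⟩ : ∃ X : Subgroup G, X = N ⊓ centralizer ({u} : Set G) := ⟨_, rfl⟩
  rw [← hX]
  have hmemX : ∀ n : X, (n : G) ∈ N ∧ (n : G) * u = u * n := fun n => by
    have hn := n.2
    simp only [hX, mem_inf] at hn
    exact ⟨hn.1, mem_centralizer_singleton_iff.1 hn.2⟩
  have hcent : ∀ n : G, n * u = u * n → b * n * b⁻¹ ∈ centralizer ({t} : Set G) := fun n hn => by
    rw [mem_centralizer_singleton_iff, ← hb]
    calc b * n * b⁻¹ * (b * u * b⁻¹) = b * (n * u) * b⁻¹ := by group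
      _ = _ := by rw [hn]; group
  obtain ⟨β, hβ⟩ : ∃ β : X →* centralizer ({t} : Set G), ∀ n : X, (β n : G) = b * (n : G) * b⁻¹ :=
    ⟨((MulAut.conj b).toMonoidHom.comp X.subtype).codRestrict _ (fun n => hcent n (hmemX n).2), fun n => rfl⟩
  have hinN : ∀ n : G, b * n * b⁻¹ ∈ N → InN u n := fun n h => by
    have h1 := ((D.K.mem_iff _).2 h).conj b⁻¹
    rwa [show b⁻¹ * t * b⁻¹⁻¹ = u by rw [← hb]; group,
      show b⁻¹ * (b * n * b⁻¹) * b⁻¹⁻¹ = n by group] at h1
  obtain ⟨T, hT⟩ : ∃ T : centralizer ({t} : Set G), (T : G) = b * t * b⁻¹ :=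
    ⟨⟨_, hcent t D.H.ut.symm⟩, rfl⟩
  have hT2 : φ T * φ T = 1 := by
    rw [← map_mul, show T * T = 1 from Subtype.ext (by
      rw [coe_mul, hT, show b * t * b⁻¹ * (b * t * b⁻¹) = b * (t * t) * b⁻¹ by group, D.H.tt, mul_one,
        mul_inv_cancel]; rfl), map_one]
  have hT1 : φ T ≠ 1 := fun h => D.t_not_inN_u (hinN t (hT ▸ (hφ T).1 h))
  obtain ⟨k, hk⟩ := alt_inv_conj _ hT2 hT1
  obtain ⟨ψ, hψ⟩ : ∃ ψ : X →* alternatingGroup (Fin 5), ∀ n, ψ n = k * φ (β n) * k⁻¹ :=
    ⟨(MulAut.conj k).toMonoidHom.comp (φ.comp β), fun n => rfl⟩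
  have hker : Nat.card ψ.ker ≤ 2 := by
    classical
    refine (Nat.card_le_card_of_injective (fun n : ψ.ker => if n = 1 then (0 : Fin 2) else 1) ?_).trans
      (by simp)
    intro n m h
    have hW : ∀ n : ψ.ker, W0 N t u ((n : X) : G) := fun n => by
      have h1 : φ (β n) = 1 := by
        have := n.2
        rw [MonoidHom.mem_ker, hψ, conj_eq_one_iff] at this
        exact this
      rw [hφ, hβ] at h1
      exact (D.five_x hsq (hmemX n).1 (hmemX n).2).2 (hinN _ h1)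
    by_cases h1 : n = 1 <;> by_cases h2 : m = 1
    · rw [h1, h2]
    · simp [h1, h2] at h
    · simp [h1, h2] at h
    · refine Subtype.ext (Subtype.ext (D.w0_unique (hW n) (hW m) ?_ ?_))
      · exact fun e => h1 (Subtype.ext (Subtype.ext e))
      · exact fun e => h2 (Subtype.ext (Subtype.ext e))
  have hrange : Nat.card ψ.range ≤ 4 := by
    rw [← alt_cent_card]
    refine Nat.card_le_card_of_injective (fun a : ψ.range => ⟨(a : alternatingGroup (Fin 5)), ?_⟩)
      fun a c h => Subtype.ext (Subtype.mk.inj h)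
    obtain ⟨n, hn⟩ := a.2
    have hc : β n * T = T * β n := Subtype.ext (by
      rw [coe_mul, coe_mul, hβ, hT]
      calc b * (n : G) * b⁻¹ * (b * t * b⁻¹) = b * ((n : G) * t) * b⁻¹ := by group
        _ = _ := by rw [D.cent_of_mem (hmemX n).1]; group)
    rw [← hn, hψ, ← hk]
    calc k * φ (β n) * k⁻¹ * (k * φ T * k⁻¹) = k * (φ (β n) * φ T) * k⁻¹ := by group
      _ = _ := by rw [← map_mul, hc, map_mul]; group
  rw [← ψ.ker.card_mul_index, index_ker]
  exact le_trans (Nat.mul_le_mul hker hrange) le_rfl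

set_option maxHeartbeats 3200000 in
include D hsq in
/-- The quotient `A₅` is impossible. -/
theorem five (hcomm : ∀ e ∈ N, ∀ f ∈ N, e * f * e⁻¹ * f⁻¹ ∈ zpowers t)
    (φ : centralizer ({t} : Set G) →* alternatingGroup (Fin 5)) (hφs : Function.Surjective φ)
    (hφ : ∀ g, φ g = 1 ↔ (g : G) ∈ N) : False := by
  have hX8 := D.five_card_x hsq φ hφ
  obtain ⟨π, Nb, hNb, Y, hY, hπs, hπ1, hsc, hmem, hfix, -⟩ := D.quot_data
  have h3 := D.card_image_cop hmem hπs
  have hexp : ∀ c ∈ Nb, c * c = 1 := by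
    intro c hc
    obtain ⟨M, rfl⟩ := hπs c
    rw [← map_mul, hπ1]
    exact hsq _ ((hmem M).1 hc)
  have habel : ∀ c ∈ Nb, ∀ d ∈ Nb, c * d = d * c := by
    intro c hc d hd
    obtain ⟨M, rfl⟩ := hπs c
    obtain ⟨K, rfl⟩ := hπs d
    have h1 : π (M * K * M⁻¹ * K⁻¹) = 1 := (hπ1 _).2 (by
      simpa only [coe_mul, coe_inv] using hcomm _ ((hmem M).1 hc) _ ((hmem K).1 hd))
    rw [map_mul, map_mul, map_mul, map_inv, map_inv, mul_inv_eq_one, mul_inv_eq_iff_eq_mul] at h1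
    exact h1
  have hact : ∀ M M' : centralizer ({t} : Set G), φ M = φ M' → ∀ c ∈ Nb,
      π M * c * (π M)⁻¹ = π M' * c * (π M')⁻¹ := by
    intro M M' h c hc
    obtain ⟨d, hd⟩ : ∃ d, d = π (M'⁻¹ * M) := ⟨_, rfl⟩
    have hdN : d ∈ Nb := hd ▸ (hmem _).2 ((hφ _).1 (by rw [map_mul, map_inv, h, inv_mul_cancel]))
    have hM : π M = π M' * d := by rw [hd, map_mul, map_inv, mul_inv_cancel_left]
    calc π M * c * (π M)⁻¹ = π M' * (d * c) * d⁻¹ * (π M')⁻¹ := by rw [hM]; group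
      _ = π M' * c * (π M')⁻¹ := by rw [habel d hdN c hc]; group
  -- lifts of three-cycles
  have hY3 : φ Y * φ Y * φ Y = 1 := by
    rw [← map_mul, ← map_mul, show Y * Y * Y = 1 from Subtype.ext (by
      rw [coe_mul, coe_mul, hY, OneMemClass.coe_one, ← D.H.y3, pow_succ, pow_two]), map_one]
  have hY1 : φ Y ≠ 1 := fun h => (D.K.fix y (hY ▸ (hφ Y).1 h) rfl).elim D.H.y1 D.H.y_ne
  have hlift : ∀ c : alternatingGroup (Fin 5), c * c * c = 1 → c ≠ 1 →
      ∃ R : centralizer ({t} : Set G), φ R = c ∧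
        ∀ w ∈ Nb, (π R)⁻¹ * w * π R = w * (π R * w * (π R)⁻¹) ∧ (π R * w * (π R)⁻¹ = w → w = 1) := by
    intro c hc hc1
    obtain ⟨k, hk⟩ := alt_three_conj c hc hc1
    obtain ⟨l, hl⟩ := alt_three_conj (φ Y) hY3 hY1
    obtain ⟨K, hK⟩ := hφs (k⁻¹ * l)
    refine ⟨K * Y * K⁻¹, ?_, ?_⟩
    · rw [map_mul, map_mul, map_inv, hK]
      calc k⁻¹ * l * φ Y * (k⁻¹ * l)⁻¹ = k⁻¹ * (l * φ Y * l⁻¹) * k := by group
        _ = c := by rw [hl, ← hk]; group
    · obtain ⟨ρ, hρ⟩ : ∃ ρ, ρ = π (K * Y * K⁻¹) := ⟨_, rfl⟩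
      rw [← hρ]
      have hρ' : ρ = π K * π Y * (π K)⁻¹ := by rw [hρ, map_mul, map_mul, map_inv]
      have hfix' : ∀ v ∈ Nb, Commute ρ v → v = 1 := by
        intro v hv hcv
        have h1 := hfix ((π K)⁻¹ * v * π K) (by simpa using hNb.conj_mem v hv (π K)⁻¹) (by
          have := hcv.map (MulAut.conj (π K)⁻¹).toMonoidHom
          simpa [hρ', mul_assoc] using this)
        calc v = π K * ((π K)⁻¹ * v * π K) * (π K)⁻¹ := by group
          _ = 1 := by rw [h1, mul_one, mul_inv_cancel]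
      have hcube : ρ ^ 3 = 1 := by rw [hρ', conj_pow, hsc.cube, mul_one, mul_inv_cancel]
      intro v hv
      refine ⟨?_, fun h => hfix' v hv (mul_inv_eq_iff_eq_mul.1 h)⟩
      have htr := S4006.triple Nb hcube hfix' hv
      rw [show ρ ^ 2 = ρ⁻¹ from eq_inv_of_mul_eq_one_left (by rw [← pow_succ, hcube]), inv_inv] at htr
      rw [eq_inv_of_mul_eq_one_right htr]
      exact inv_eq_of_mul_eq_one_right (hexp _ (mul_mem hv (hNb.conj_mem v hv ρ)))
  obtain ⟨hB3, hB1, hd5, hA⟩ := cyc_facts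
  obtain ⟨R1, hR1, hr1⟩ := hlift cycA (by decide +kernel) (by decide +kernel)
  obtain ⟨R2, hR2, hr2⟩ := hlift cycB hB3 hB1
  have hfive : ∀ M, φ M = cycA * cycB → ∀ v ∈ Nb, π M * v * (π M)⁻¹ = v → v = 1 := by
    intro M hM v hv hMv
    obtain ⟨a, ha⟩ : ∃ a, a = π R1 := ⟨_, rfl⟩
    obtain ⟨c, hc⟩ : ∃ c, c = π R2 := ⟨_, rfl⟩
    obtain ⟨t1, f1⟩ := hr1 v hv
    obtain ⟨t2, -⟩ := hr2 v hv
    rw [← ha] at t1 f1
    rw [← hc] at t2
    have h1 : a * c * v * (a * c)⁻¹ = v := by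
      rw [ha, hc, ← map_mul, hact _ M (by rw [map_mul, hR1, hR2, hM]) v hv]; exact hMv
    have h2 : c * v * c⁻¹ = v * (a * v * a⁻¹) := by
      rw [← t1]
      calc c * v * c⁻¹ = a⁻¹ * (a * c * v * (a * c)⁻¹) * a := by group
        _ = _ := by rw [h1]
    have h3' : a * v * a⁻¹ = c⁻¹ * v * c := by
      rw [t2, h2, ← mul_assoc, hexp v hv, one_mul]
    have h4 : c * a * v * (c * a)⁻¹ = v := by
      calc c * a * v * (c * a)⁻¹ = c * (a * v * a⁻¹) * c⁻¹ := by group
        _ = v := by rw [h3']; group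
    refine f1 ?_
    rw [ha, hact R1 (R2 * R1 * (R2 * R1) * (R1 * R2 * (R1 * R2)))
      (by simp only [map_mul, hR1, hR2]; exact hA) v hv]
    simp only [map_mul, ← ha, ← hc]
    calc c * a * (c * a) * (a * c * (a * c)) * v * (c * a * (c * a) * (a * c * (a * c)))⁻¹
        = c * a * (c * a * (a * c * (a * c * v * (a * c)⁻¹) * (a * c)⁻¹) * (c * a)⁻¹) * (c * a)⁻¹ := by group
      _ = v := by rw [h1, h1, h4, h4]
  -- fixed points of `u`
  obtain ⟨U, hU⟩ : ∃ U : centralizer ({t} : Set G), (U : G) = u :=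
    ⟨⟨u, mem_centralizer_singleton_iff.2 D.H.ut⟩, rfl⟩
  obtain ⟨Q, hQ⟩ : ∃ Q : centralizer ({t} : Set G), (Q : G) = q := ⟨⟨q, D.K.le D.K.qN⟩, rfl⟩
  obtain ⟨κ, hκ⟩ : ∃ κ, κ = π Q := ⟨_, rfl⟩
  have hκN : κ ∈ Nb := by rw [hκ]; exact (hmem Q).2 (by rw [hQ]; exact D.K.qN)
  have hκ1 : κ ≠ 1 := fun h => by
    rw [hκ, hπ1, hQ] at h
    rcases mem_zpowers_invol D.H.tt h with e' | e'
    · exact D.H.t1 (by rw [← D.H.qq, e', one_mul])
    · exact D.H.t1 (by have := D.H.qq; rw [e', D.H.tt] at this; exact this.symm)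
  obtain ⟨XB, hXB⟩ : ∃ XB : Set (Kb t), XB =
      {c | ∃ M : centralizer ({t} : Set G), (M : G) ∈ N ∧ (M : G) * u = u * M ∧ π M = c} := ⟨_, rfl⟩
  have hXBN : ∀ c ∈ XB, c ∈ Nb := by
    rw [hXB]; rintro _ ⟨M, hM, -, rfl⟩; exact (hmem M).2 hM
  have hXB1 : (1 : Kb t) ∈ XB := by rw [hXB]; exact ⟨1, one_mem N, by simp, map_one π⟩
  have hXB4 : Nat.card XB ≤ 4 := by
    have hsel : ∀ c : XB, ∃ M : centralizer ({t} : Set G), (M : G) ∈ N ∧ (M : G) * u = u * M ∧ π M = c := by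
      intro c; have := c.2; simp only [hXB] at this; exact this
    choose f hf1 hf2 hf3 using hsel
    have hmemf : ∀ p : XB × Fin 2, (f p.1 : G) * t ^ (p.2 : ℕ) ∈ N ⊓ centralizer ({u} : Set G) := fun p =>
      ⟨mul_mem (hf1 p.1) (pow_mem D.K.tN _), mem_centralizer_singleton_iff.2
        (((show Commute (f p.1 : G) u from hf2 p.1).mul_left
          ((show Commute t u from D.H.ut.symm).pow_left _)).eq)⟩
    have hle := Nat.card_le_card_of_injective
      (fun p : XB × Fin 2 => (⟨_, hmemf p⟩ : (N ⊓ centralizer ({u} : Set G) : Subgroup G))) (by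
      intro p r h
      have h' : (f p.1 : G) * t ^ (p.2 : ℕ) = (f r.1 : G) * t ^ (r.2 : ℕ) := congrArg Subtype.val h
      have hp : p.1 = r.1 := by
        refine Subtype.ext ?_
        rw [← hf3 p.1, ← hf3 r.1, ← mul_inv_eq_one, ← map_inv, ← map_mul, hπ1, coe_mul, coe_inv]
        have e : (f p.1 : G) * (f r.1 : G)⁻¹ = t ^ (r.2 : ℕ) * (t ^ (p.2 : ℕ))⁻¹ := by
          have hc : Commute (f r.1 : G) (t ^ (p.2 : ℕ)) :=
            (show Commute (f r.1 : G) t from D.cent_of_mem (hf1 r.1)).pow_right _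
          have hc' : Commute (f r.1 : G) (t ^ (r.2 : ℕ)) :=
            (show Commute (f r.1 : G) t from D.cent_of_mem (hf1 r.1)).pow_right _
          rw [eq_mul_inv_iff_mul_eq, mul_assoc, hc.inv_left.eq, ← mul_assoc, h', hc'.eq, mul_inv_cancel_right]
        rw [e]
        exact mul_mem (pow_mem (mem_zpowers t) _) (inv_mem (pow_mem (mem_zpowers t) _))
      rw [hp] at h'
      refine Prod.ext hp ?_
      have key : ∀ i j : Fin 2, t ^ (i : ℕ) = t ^ (j : ℕ) → i = j := by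
        intro i j h
        fin_cases i <;> fin_cases j <;> simp at h ⊢ <;> first
          | exact D.H.t1 h
          | exact D.H.t1 h.symm
      exact key _ _ (mul_left_cancel h'))
    rw [Nat.card_prod, Nat.card_fin] at hle
    omega
  obtain ⟨ν, hν⟩ : ∃ ν, ν = π U := ⟨_, rfl⟩
  have hν2 : ν * ν = 1 := by
    rw [hν, ← map_mul, show U * U = 1 from Subtype.ext (by rw [coe_mul, hU]; exact D.H.uu), map_one]
  have hνρ : ν * π Y * ν⁻¹ = (π Y)⁻¹ := by
    rw [hν, ← map_inv, ← map_inv, ← map_mul, ← map_mul]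
    congr 1
    exact Subtype.ext (by simp only [coe_mul, coe_inv, hU, hY]; exact D.H.uy)
  have hform : ∀ c ∈ Nb, Commute ν c → ∃ d ∈ XB, ∃ i : Fin 2, c = d * κ ^ (i : ℕ) := by
    intro c hc hcν
    obtain ⟨M, rfl⟩ := hπs c
    have hl : u * (M : G) * u⁻¹ * (M : G)⁻¹ ∈ zpowers t := by
      have h1 : π (U * M * U⁻¹ * M⁻¹) = 1 := by
        simp only [map_mul, map_inv, ← hν, hcν.eq, mul_inv_cancel_right, mul_inv_cancel]
      simpa only [coe_mul, coe_inv, hU] using (hπ1 _).1 h1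
    have hfl : ∃ k ∈ N, k * u = u * k ∧ ((M : G) = k ∨ (M : G) = k * q⁻¹) := by
      have hm := (hmem M).1 hc
      rcases mem_zpowers_invol D.H.tt hl with e | e <;> rw [mul_inv_eq_iff_eq_mul] at e
      · rw [one_mul, mul_inv_eq_iff_eq_mul] at e
        exact ⟨M, hm, e.symm, Or.inl rfl⟩
      · refine ⟨(M : G) * q, mul_mem hm D.K.qN, ?_, Or.inr (mul_inv_cancel_right (M : G) q).symm⟩
        have hq : u * q * u⁻¹ = q⁻¹ := by rw [D.ui, D.H.uq]
        have hqi : t * q⁻¹ = q := by rw [← D.H.qq, mul_inv_cancel_right]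
        refine (mul_inv_eq_iff_eq_mul.1 ?_).symm
        calc u * ((M : G) * q) * u⁻¹ = (u * M * u⁻¹) * (u * q * u⁻¹) := by group
          _ = ((M : G) * t) * q⁻¹ := by rw [e, hq, D.cent_of_mem hm]
          _ = (M : G) * q := by rw [mul_assoc, hqi]
    obtain ⟨k, hk, hku, hmk⟩ := hfl
    obtain ⟨K, hK⟩ : ∃ K : centralizer ({t} : Set G), (K : G) = k := ⟨⟨k, D.K.le hk⟩, rfl⟩
    have hKX : π K ∈ XB := by rw [hXB]; exact ⟨K, hK ▸ hk, hK ▸ hku, rfl⟩
    rcases hmk with h | h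
    · exact ⟨π K, hKX, 0, by rw [show M = K from Subtype.ext (h.trans hK.symm)]; simp⟩
    · refine ⟨π K, hKX, 1, ?_⟩
      rw [show M = K * Q⁻¹ from Subtype.ext (by rw [coe_mul, coe_inv, hK, hQ]; exact h), map_mul, map_inv,
        ← hκ, inv_eq_of_mul_eq_one_right (hexp κ hκN)]
      simp
  have hp2 : IsPGroup 2 Nb := fun c => ⟨1, by rw [pow_one, pow_two]; exact Subtype.ext (hexp c c.2)⟩
  obtain ⟨n, hn⟩ := (IsPGroup.iff_card (p := 2)).1 hp2
  have hkn : Nat.card Nb ≤ (Nat.card XB * 2) * (Nat.card XB * 2) := by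
    refine (Nat.card_le_card_of_surjective (fun p : (XB × Fin 2) × (XB × Fin 2) =>
      (⟨(p.1.1 : Kb t) * κ ^ (p.1.2 : ℕ) * (π Y * ((p.2.1 : Kb t) * κ ^ (p.2.2 : ℕ)) * (π Y)⁻¹),
        mul_mem (mul_mem (hXBN _ p.1.1.2) (pow_mem hκN _))
          (hNb.conj_mem _ (mul_mem (hXBN _ p.2.1.2) (pow_mem hκN _)) _)⟩ : Nb)) ?_).trans
        (by simp [Nat.card_prod])
    rintro ⟨c, hc⟩
    obtain ⟨a, b, ha, hb, h1, h2, rfl⟩ :=
      prod_fixed Nb hsc.cube hfix hp2 hν2 hνρ (fun c hc _ => hexp c hc) hc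
    obtain ⟨a', ha', i, rfl⟩ := hform a ha h1
    obtain ⟨b', hb', j, rfl⟩ := hform b hb h2
    exact ⟨((⟨a', ha'⟩, i), (⟨b', hb'⟩, j)), rfl⟩
  have h64 : 2 ^ n ≤ 2 ^ 6 := by
    rw [← hn]; exact hkn.trans (by nlinarith [hXB4, Nat.zero_le (Nat.card XB)])
  have hn6 : n ≤ 6 := (Nat.pow_le_pow_iff_right (by norm_num : 1 < 2)).1 h64
  have hn0 : n ≠ 0 := fun h0 => hκ1 (by
    rw [h0, pow_zero, card_eq_one] at hn
    rwa [hn, mem_bot] at hκN)
  have hmod : Nat.card Nb % 3 = 1 := Inv.card_mod hsc ⟨by rw [normalizer_eq_top]; trivial, h3⟩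
  -- the fifth root
  obtain ⟨D5, hD5⟩ := hφs (cycA * cycB)
  have hmod5 : Nat.card Nb % 5 = 1 := by
    haveI : Fact (Nat.Prime 5) := ⟨by norm_num⟩
    obtain ⟨σ, hσ⟩ : ∃ σ : MulAut Nb, σ = MulAut.conjNormal (π D5) := ⟨_, rfl⟩
    have hσ5 : σ ^ 5 = 1 := by
      refine MulEquiv.ext fun v => Subtype.ext ?_
      rw [hσ, ← map_pow, MulAut.conjNormal_apply, ← map_pow,
        hact (D5 ^ 5) 1 (by rw [map_pow, hD5, map_one]; simpa [pow_succ] using hd5) v v.2, map_one,
        one_mul, inv_one, mul_one]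
      rfl
    have hP : IsPGroup 5 (zpowers σ) := fun a => ⟨1, Subtype.ext (by
      obtain ⟨i, hi⟩ := mem_zpowers_iff.1 a.2
      rw [SubmonoidClass.coe_pow, pow_one, ← hi, ← zpow_natCast, ← zpow_mul, mul_comm, zpow_mul,
        zpow_natCast, hσ5, one_zpow]; rfl)⟩
    have h := hP.card_modEq_card_fixedPoints Nb
    have hone : Nat.card (MulAction.fixedPoints (zpowers σ) Nb) = 1 := by
      rw [Nat.card_eq_one_iff_unique]
      refine ⟨⟨fun a b => ?_⟩, ⟨⟨1, fun g => map_one (g : MulAut Nb)⟩⟩⟩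
      have key : ∀ a : MulAction.fixedPoints (zpowers σ) Nb, (a : Nb) = 1 := fun a => Subtype.ext (by
        refine hfive D5 hD5 _ (a : Nb).2 ?_
        have h2 : (σ (a : Nb) : Kb t) = (a : Nb) := congrArg Subtype.val (a.2 ⟨σ, mem_zpowers σ⟩)
        rw [congrArg (fun f : MulAut Nb => (f (a : Nb) : Kb t)) hσ, MulAut.conjNormal_apply] at h2
        exact h2)
      exact Subtype.ext ((key a).trans (key b).symm)
    rw [hone] at h
    exact h
  have hn4 : n = 4 := by
    rw [hn] at hmod hmod5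
    interval_cases n <;> first | rfl | exact absurd rfl hn0 | (norm_num at hmod; done) | (norm_num at hmod5; done)
  subst hn4
  -- all elements are fused
  have hfuse : ∀ c ∈ Nb, c ≠ 1 → ∃ g, g * κ * g⁻¹ = c := by
    obtain ⟨S, hS⟩ : ∃ S : Subgroup (Kb t), S = centralizer ({κ} : Set (Kb t)) := ⟨_, rfl⟩
    have hK : Nat.card (Kb t) = 960 := by
      have hk : φ.ker = Nb.comap π := by
        ext g; rw [MonoidHom.mem_ker, hφ, mem_comap, hmem]
      have hi : (Nb.comap π).index = 60 := by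
        rw [← hk, index_ker, MonoidHom.range_eq_top.2 hφs, card_top, card_alt_five]
      rw [index_comap_of_surjective Nb hπs] at hi
      rw [← Nb.card_mul_index, hn, hi]; norm_num
    have hSdiv : Nat.card S ∣ 64 := by
      have hd : Nat.card S ∣ 64 * 15 := by
        have := card_subgroup_dvd_card S
        rwa [hK] at this
      refine Nat.Coprime.dvd_of_dvd_mul_right ?_ hd
      rw [show (15 : ℕ) = 3 * 5 from rfl]
      have hmS : ∀ s ∈ S, s * κ * s⁻¹ = κ := fun s hs => by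
        rw [hS, mem_centralizer_singleton_iff] at hs
        rw [hs, mul_inv_cancel_right]
      refine Nat.Coprime.mul_right ((Nat.prime_three.coprime_iff_not_dvd.2 fun hd3 => ?_).symm)
        (((by norm_num : Nat.Prime 5).coprime_iff_not_dvd.2 fun hd5' => ?_).symm)
      · haveI : Fact (Nat.Prime 3) := ⟨Nat.prime_three⟩
        obtain ⟨⟨s, hs⟩, hso⟩ := exists_prime_orderOf_dvd_card' 3 hd3
        rw [orderOf_mk] at hso
        obtain ⟨k, hk⟩ := hsc.cover (by rw [← hso, pow_orderOf_eq_one])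
          (fun e => by rw [e, orderOf_one] at hso; norm_num at hso)
        have h2 : Commute (k * s * k⁻¹) (k * κ * k⁻¹) := by
          refine mul_inv_eq_iff_eq_mul.1 ?_
          calc k * s * k⁻¹ * (k * κ * k⁻¹) * (k * s * k⁻¹)⁻¹ = k * (s * κ * s⁻¹) * k⁻¹ := by group
            _ = _ := by rw [hmS s hs]
        have hk1 := hfix _ (hNb.conj_mem κ hκN k) (by
          rcases hk with e | e <;> rw [e] at h2
          · exact h2
          · simpa using h2.inv_left)
        exact hκ1 (conj_eq_one_iff.1 hk1)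
      · haveI : Fact (Nat.Prime 5) := ⟨by norm_num⟩
        obtain ⟨⟨s, hs⟩, hso⟩ := exists_prime_orderOf_dvd_card' 5 hd5'
        rw [orderOf_mk] at hso
        obtain ⟨M, rfl⟩ := hπs s
        have hM5 : φ M * φ M * φ M * φ M * φ M = 1 := by
          simp only [← map_mul]
          rw [hφ, ← hmem]
          have : π (M * M * M * M * M) = 1 := by
            simp only [map_mul]
            rw [← pow_two, ← pow_succ, ← pow_succ, ← pow_succ]
            exact orderOf_dvd_iff_pow_eq_one.1 (dvd_of_eq hso)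
          rw [this]; exact one_mem _
        have hM1 : φ M ≠ 1 := fun e => by
          have := orderOf_dvd_of_pow_eq_one (show π M ^ 2 = 1 by
            rw [pow_two]; exact hexp _ ((hmem M).2 ((hφ M).1 e)))
          rw [hso] at this; norm_num at this
        obtain ⟨k, hk⟩ := alt_five_conj _ hM5 hM1
        obtain ⟨K, rfl⟩ := hφs k
        have hfixK : ∀ M' : centralizer ({t} : Set G), π M' * κ * (π M')⁻¹ = κ →
            φ K * φ M' * (φ K)⁻¹ = cycA * cycB → False := by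
          intro M' hM' hk'
          have := hfive (K * M' * K⁻¹) (by rw [map_mul, map_mul, map_inv, hk']) (π K * κ * (π K)⁻¹)
            (hNb.conj_mem κ hκN _) (by
              simp only [map_mul, map_inv]
              calc π K * π M' * (π K)⁻¹ * (π K * κ * (π K)⁻¹) * (π K * π M' * (π K)⁻¹)⁻¹
                  = π K * (π M' * κ * (π M')⁻¹) * (π K)⁻¹ := by group
                _ = _ := by rw [hM'])
          exact hκ1 (conj_eq_one_iff.1 this)
        rcases hk with e | e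
        · exact hfixK M (hmS _ hs) e
        · refine hfixK (M * M) ?_ (by rw [map_mul]; exact e)
          rw [map_mul]; exact hmS _ (mul_mem hs hs)
    obtain ⟨F, hF⟩ : ∃ F : Kb t ⧸ S → {c : Kb t // c ∈ Nb ∧ c ≠ 1},
        Function.Injective F ∧ ∀ c, ∃ g : Kb t, (F c : Kb t) = g * κ * g⁻¹ :=
      ⟨fun c => ⟨c.out * κ * c.out⁻¹, hNb.conj_mem κ hκN _, fun e => hκ1 (conj_eq_one_iff.1 e)⟩,
        fun a b h => by
          rw [← QuotientGroup.out_eq' a, ← QuotientGroup.out_eq' b, QuotientGroup.eq]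
          refine hS.ge ?_
          rw [mem_centralizer_singleton_iff]
          have h' : a.out * κ * a.out⁻¹ = b.out * κ * b.out⁻¹ := congrArg Subtype.val h
          calc a.out⁻¹ * b.out * κ = a.out⁻¹ * (b.out * κ * b.out⁻¹) * b.out := by group
            _ = κ * (a.out⁻¹ * b.out) := by rw [← h']; group,
        fun c => ⟨c.out, rfl⟩⟩
    have h15 : Nat.card {c : Kb t // c ∈ Nb ∧ c ≠ 1} = 15 := by
      classical
      haveI : Fintype Nb := Fintype.ofFinite _
      rw [Nat.card_congr ((Equiv.subtypeSubtypeEquivSubtypeInter (· ∈ Nb) (· ≠ 1)).symm),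
        Nat.card_congr (Equiv.subtypeEquivRight (q := fun c : Nb => ¬ c = 1) fun c =>
          not_congr (OneMemClass.coe_eq_one)), Nat.card_eq_fintype_card, Fintype.card_subtype_compl,
        Fintype.card_subtype_eq, ← Nat.card_eq_fintype_card, hn]
      norm_num
    have hbij : Function.Bijective F := by
      refine hF.1.bijective_of_nat_card_le ?_
      rw [h15, ← index_eq_card]
      have hmul := S.card_mul_index
      rw [hK] at hmul
      have := Nat.le_of_dvd (by norm_num) hSdiv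
      nlinarith
    intro c hc hc1
    obtain ⟨d, hd⟩ := hbij.2 ⟨c, hc, hc1⟩
    obtain ⟨g, hg⟩ := hF.2 d
    exact ⟨g, by rw [← hg, hd]⟩
  obtain ⟨c, hcX, hc1⟩ : ∃ c ∈ XB, c ≠ 1 := by
    by_contra hne
    push Not at hne
    have : Nat.card XB ≤ 1 := Finite.card_le_one_iff_subsingleton.2
      ⟨fun a b => Subtype.ext ((hne a a.2).trans (hne b b.2).symm)⟩
    rw [hn] at hkn
    nlinarith
  obtain ⟨g, hg⟩ := hfuse c (hXBN c hcX) hc1
  rw [hXB] at hcX
  obtain ⟨M, hMN, hMu, rfl⟩ := hcX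
  obtain ⟨K, rfl⟩ := hπs g
  have hM2 := (D.five_x hsq hMN hMu).1
  rw [hκ, ← map_inv, ← map_mul, ← map_mul, ← mul_inv_eq_one, ← map_inv, ← map_mul, hπ1] at hg
  simp only [coe_mul, coe_inv, hQ] at hg
  obtain ⟨v, hv, hMeq⟩ : ∃ v, (v = 1 ∨ v = t) ∧ (K : G) * q * (K : G)⁻¹ = v * M :=
    ⟨_, mem_zpowers_invol D.H.tt hg, (inv_mul_cancel_right _ _).symm⟩
  have hKt : Commute (K : G) t := mem_centralizer_singleton_iff.1 K.2
  have h1 : (K : G) * q * (K : G)⁻¹ * ((K : G) * q * (K : G)⁻¹) = t := by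
    calc (K : G) * q * (K : G)⁻¹ * ((K : G) * q * (K : G)⁻¹) = (K : G) * (q * q) * (K : G)⁻¹ := by group
      _ = t := by rw [D.H.qq, hKt.eq, mul_inv_cancel_right]
  have h2 : v * (M : G) * (v * M) = 1 := by
    rcases hv with e | e <;> rw [e]
    · rw [one_mul, hM2]
    · calc t * (M : G) * (t * M) = t * ((M : G) * t) * M := by group
        _ = t * t * ((M : G) * M) := by rw [D.cent_of_mem hMN]; group
        _ = 1 := by rw [D.H.tt, hM2, one_mul]
  rw [hMeq, h2] at h1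
  exact D.H.t1 h1.symm

end Ctx

end Cfsg.Agent.M12Amal
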