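import Cfsg.Agent.M12Amal.Kn
import Cfsg.Agent.PSp43Amalgam.Fixed

/-!
# Frames: the key lemma

An involution or an element of odd order lying in the kernels of the four centralisers attached to
the lines of `Q` is trivial, as it generates an abelian `3'`-group normalised by `Q`.
-/

set_option autoImplicit false

namespace Cfsg.Agent.M12Amal

open Subgroup
open SelfCentThree (Sc)

universe w

variable {G : Type w} [Group G] [Finite G]

/-- The hypotheses used below. -/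
structure Ctx (z x y t u q : G) (N : Subgroup G) : Prop where
  H : Cfg z x y t u q
  K : Kn y t q N

namespace Ctx

variable {z x y t u q : G} {N : Subgroup G} (D : Ctx z x y t u q N)

omit [Finite G] in
include D in
theorem ui : u⁻¹ = u := inv_eq_of_mul_eq_one_right D.H.uu

omit [Finite G] in
include D in
theorem ti : t⁻¹ = t := inv_eq_of_mul_eq_one_right D.H.tt

omit [Finite G] in
include D in
theorem qt : q * t = t * q := by rw [← D.H.qq, mul_assoc]

omit [Finite G] in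
include D in
theorem gt : y * q * y⁻¹ * t = t * (y * q * y⁻¹) :=
  ((show Commute y t from D.H.yt).mul_left (show Commute q t from D.qt)).mul_left
    (show Commute y t from D.H.yt).inv_left

omit [Finite G] in
include D in
theorem u_conj : IsConj t u := by
  obtain ⟨b, -, hb⟩ := D.H.zy
  exact isConj_iff.2 ⟨b⁻¹, by rw [← hb]; group⟩

omit [Finite G] in
include D in
theorem qu_conj : IsConj t (q * u) := D.u_conj.trans (isConj_iff.2 ⟨_, D.H.gu⟩)

omit [Finite G] in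
include D in
theorem tu_conj : IsConj t (t * u) := by
  refine D.u_conj.trans (isConj_iff.2 ⟨q, ?_⟩)
  have h : u * q⁻¹ = q * u := by
    rw [← D.H.uq]
    calc u * (u * q * u) = u * u * q * u := by group
      _ = q * u := by rw [D.H.uu, one_mul]
  rw [mul_assoc, h, ← mul_assoc, D.H.qq]

omit [Finite G] in
include D in
theorem tqu_conj : IsConj t (t * (q * u)) := by
  refine D.tu_conj.trans (isConj_iff.2 ⟨y * q * y⁻¹, ?_⟩)
  rw [← D.H.gu]
  calc y * q * y⁻¹ * (t * u) * (y * q * y⁻¹)⁻¹ = (y * q * y⁻¹ * t) * u * (y * q * y⁻¹)⁻¹ := by group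
    _ = _ := by rw [D.gt]; group

omit [Finite G] in
/-- An element inverting an element of order three of the centraliser is outside the kernel. -/
theorem not_inN_of_inverts [Finite G] {a b c : G} (hb : b ^ 3 = 1) (hb1 : b ≠ 1) (hba : b * a = a * b)
    (hc : c * b * c⁻¹ = b⁻¹) : ¬ InN a c := by
  rintro ⟨M, hM1, hM2, hM3, hcM⟩
  have hbn := hM2 (mem_centralizer_singleton_iff.2 hba)
  have h1 : b * b ∈ M := by
    have h := mul_mem ((mem_normalizer_iff.1 hbn c).1 hcM) (inv_mem hcM)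
    rwa [show b * c * b⁻¹ * c⁻¹ = b * (c * b * c⁻¹)⁻¹ by group, hc, inv_inv] at h
  have h2 : b ∈ M := by
    have := mul_mem h1 h1
    rwa [show b * b * (b * b) = b ^ 3 * b by simp only [pow_succ, pow_zero, one_mul, mul_assoc], hb,
      one_mul] at this
  have : Fact (Nat.Prime 3) := ⟨Nat.prime_three⟩
  exact hM3 (orderOf_eq_prime hb hb1 ▸ orderOf_mk b h2 ▸ orderOf_dvd_natCard _)

include D in
theorem t_not_inN_u : ¬ InN u t :=
  not_inN_of_inverts D.H.z3 D.H.z1 D.H.uz.symm D.H.tz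

include D in
theorem t_not_inN_tu : ¬ InN (t * u) t := by
  refine not_inN_of_inverts D.H.x3 D.H.x1 ?_ D.H.tx
  calc x * (t * u) = t * (t⁻¹ * x * t) * u := by group
    _ = t * (t * x * t⁻¹) * u := by rw [D.ti]
    _ = t * (u * x * u⁻¹) * u := by rw [D.H.tx, D.H.ux]
    _ = t * u * x := by group

include D in
theorem u_not_mem : u ∉ N := fun h =>
  not_inN_of_inverts D.H.y3 D.H.y1 D.H.yt D.H.uy ((D.K.mem_iff u).2 h)

omit [Finite G] in
include D in
theorem cent_of_mem {n : G} (hn : n ∈ N) : n * t = t * n := mem_centralizer_singleton_iff.1 (D.K.le hn)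

omit [Finite G] in
include D in
theorem conj_mem {n g : G} (hn : n ∈ N) (hg : g * t = t * g) : g * n * g⁻¹ ∈ N :=
  (mem_normalizer_iff.1 (D.K.norm (mem_centralizer_singleton_iff.2 hg)) n).1 hn

include D in
/-- The image of `N` in `C(t)/⟨t⟩` with its automorphism of order three. -/
theorem quot_data : ∃ (π : centralizer ({t} : Set G) →* Kb t) (Nb : Subgroup (Kb t)) (_ : Nb.Normal)
    (Y : centralizer ({t} : Set G)), (Y : G) = y ∧ Function.Surjective π ∧
      (∀ g, π g = 1 ↔ (g : G) ∈ zpowers t) ∧ Sc (π Y) ∧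
      (∀ g : centralizer ({t} : Set G), π g ∈ Nb ↔ (g : G) ∈ N) ∧
      (∀ c ∈ Nb, Commute (π Y) c → c = 1) ∧
      Nb = (N.subgroupOf (centralizer ({t} : Set G))).map
        (QuotientGroup.mk' ((zpowers t).subgroupOf (centralizer ({t} : Set G)))) := by
  have hy : y ∈ centralizer ({t} : Set G) := mem_centralizer_singleton_iff.2 D.H.yt
  obtain ⟨π, hπ⟩ : ∃ π, π = QuotientGroup.mk' ((zpowers t).subgroupOf (centralizer ({t} : Set G))) :=
    ⟨_, rfl⟩
  have hπs : Function.Surjective π := hπ ▸ QuotientGroup.mk'_surjective _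
  have hπ1 : ∀ g, π g = 1 ↔ (g : G) ∈ zpowers t := fun g => by
    rw [hπ, QuotientGroup.mk'_apply, QuotientGroup.eq_one_iff, mem_subgroupOf]
  have hn : ((N.subgroupOf (centralizer ({t} : Set G))).map π).Normal :=
    (normal_subgroupOf_of_le_normalizer D.K.norm).map _ hπs
  have hmem : ∀ g : centralizer ({t} : Set G),
      π g ∈ (N.subgroupOf (centralizer ({t} : Set G))).map π ↔ (g : G) ∈ N := by
    intro g
    refine ⟨?_, fun h => ⟨g, h, rfl⟩⟩
    rintro ⟨m, hm, hmg⟩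
    have h1 : π (m⁻¹ * g) = 1 := by rw [map_mul, map_inv, hmg, inv_mul_cancel]
    have := mul_mem (mem_subgroupOf.1 hm) ((zpowers_le.2 D.K.tN) ((hπ1 _).1 h1))
    simpa using this
  refine ⟨π, _, hn, ⟨y, hy⟩, rfl, hπs, hπ1, hπ ▸ D.H.sc hy, hmem, ?_, by rw [hπ]⟩
  intro c hc hcomm
  obtain ⟨g, rfl⟩ := hπs c
  have hgN := (hmem g).1 hc
  have h1 : π (g * ⟨y, hy⟩ * g⁻¹ * (⟨y, hy⟩ : centralizer ({t} : Set G))⁻¹) = 1 := by
    rw [map_mul, map_mul, map_mul, ← hcomm.eq, map_inv, map_inv]; group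
  have h2 := D.H.comm_y_of_mod (D.cent_of_mem hgN) ((hπ1 _).1 h1)
  rw [hπ1]
  rcases D.K.fix _ hgN h2 with e | e <;> rw [e]
  · exact one_mem _
  · exact mem_zpowers t

include D in
/-- `n * n^y * n^(y²) ∈ ⟨t⟩` and `n` commutes with `n^y` modulo `t`. -/
theorem triple_mod {n : G} (hn : n ∈ N) :
    n * (y * n * y⁻¹) * (y⁻¹ * n * y) ∈ zpowers t ∧
      n * (y * n * y⁻¹) * n⁻¹ * (y * n * y⁻¹)⁻¹ ∈ zpowers t := by
  obtain ⟨π, Nb, hNb, Y, hY, hπs, hπ1, hsc, hmem, hfix, -⟩ := D.quot_data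
  obtain ⟨m, hm⟩ : ∃ m : centralizer ({t} : Set G), (m : G) = n := ⟨⟨n, D.K.le hn⟩, rfl⟩
  have hmN : π m ∈ Nb := (hmem m).2 (hm ▸ hn)
  constructor
  · have h := S4006.triple Nb hsc.cube hfix hmN
    have e : (π Y) ^ 2 = (π Y)⁻¹ := eq_inv_of_mul_eq_one_left (by rw [← pow_succ, hsc.cube])
    rw [e, inv_inv] at h
    simp only [← map_inv, ← map_mul] at h
    simpa [hY, hm] using (hπ1 _).1 h
  · have h := S4006.comm_image Nb hsc.cube hfix hmN
    have h' : π (m * (Y * m * Y⁻¹) * m⁻¹ * (Y * m * Y⁻¹)⁻¹) = 1 := by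
      simp only [map_mul, map_inv]
      rw [mul_inv_eq_one, mul_inv_eq_iff_eq_mul]
      exact h.eq
    simpa [hY, hm] using (hπ1 _).1 h'

include D in
/-- Involutions of `C(t)` outside `N` are conjugate to `u` or `t * u`. -/
theorem out {a : G} (hat : a * t = t * a) (ha2 : a * a = 1) (ha : a ∉ N) :
    ∃ k : G, k * t = t * k ∧ (k * a * k⁻¹ = u ∨ k * a * k⁻¹ = t * u) := by
  obtain ⟨k, hk, hm⟩ := D.K.invol a u hat D.H.ut (by rw [ha2]; exact one_mem N) ha
    (by rw [D.H.uu]; exact one_mem N) D.u_not_mem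
  obtain ⟨m, hmdef⟩ : ∃ m, m = k * a * k⁻¹ * u⁻¹ := ⟨_, rfl⟩
  rw [← hmdef] at hm
  have hka : k * a * k⁻¹ = m * u := by rw [hmdef]; group
  have hinv : u * m * u = m⁻¹ := by
    refine eq_inv_of_mul_eq_one_left ?_
    calc u * m * u * m = m⁻¹ * (m * u * (m * u)) * m := by group
      _ = m⁻¹ * (k * (a * a) * k⁻¹) * m := by rw [← hka]; group
      _ = 1 := by rw [ha2]; group
  obtain ⟨htri, hcom⟩ := D.triple_mod hm
  obtain ⟨l, hl⟩ : ∃ l, l = y * m * y⁻¹ := ⟨_, rfl⟩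
  have hlt : l * t = t * l := D.cent_of_mem (hl ▸ D.conj_mem hm D.H.yt)
  refine ⟨l * k, (show Commute l t from hlt).mul_left (show Commute k t from hk), ?_⟩
  have h1 : u * y⁻¹ * u = y := by
    have := D.H.uy
    rw [D.ui] at this
    calc u * y⁻¹ * u = (u⁻¹ * y * u⁻¹)⁻¹ := by group
      _ = y := by rw [D.ui, this, inv_inv]
  have h2 : u * l⁻¹ * u = y⁻¹ * m * y := by
    have h3 : u * y * u = y⁻¹ := by
      have := D.H.uy
      rwa [D.ui] at this
    have h4 : u * m⁻¹ * u = m := by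
      calc u * m⁻¹ * u = (u⁻¹ * m * u⁻¹)⁻¹ := by group
        _ = m := by rw [D.ui, hinv, inv_inv]
    calc u * l⁻¹ * u = u * y * (u * u) * m⁻¹ * (u * u) * y⁻¹ * u := by rw [hl, D.H.uu]; group
      _ = (u * y * u) * (u * m⁻¹ * u) * (u * y⁻¹ * u) := by group
      _ = y⁻¹ * m * y := by rw [h3, h4, h1]
  have key : l * k * a * (l * k)⁻¹ = l * m * (y⁻¹ * m * y) * u := by
    rw [← h2]
    calc l * k * a * (l * k)⁻¹ = l * (k * a * k⁻¹) * l⁻¹ := by group
      _ = l * m * u * l⁻¹ * (u * u) := by rw [hka, D.H.uu]; group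
      _ = l * m * (u * l⁻¹ * u) * u := by group
  have hmem : l * m * (y⁻¹ * m * y) ∈ zpowers t := by
    rw [← hl] at htri hcom
    have := mul_mem (inv_mem hcom) htri
    rwa [show (m * l * m⁻¹ * l⁻¹)⁻¹ * (m * l * (y⁻¹ * m * y)) = l * m * (y⁻¹ * m * y) by group] at this
  rw [key]
  rcases mem_zpowers_invol D.H.tt hmem with e | e <;> rw [e]
  · exact Or.inl (one_mul u)
  · exact Or.inr rfl

include D in
/-- An involution outside the kernel of a conjugate of `t` is a conjugate of `t`. -/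
theorem out_conj {a e : G} (ha : IsConj t a) (he2 : e * e = 1) (hc : e * a = a * e) (hn : ¬ InN a e) :
    IsConj t e := by
  obtain ⟨h, rfl⟩ := isConj_iff.1 ha
  obtain ⟨k, -, hk⟩ := D.out (a := h⁻¹ * e * h)
    (by calc h⁻¹ * e * h * t = h⁻¹ * (e * (h * t * h⁻¹)) * h := by group
          _ = t * (h⁻¹ * e * h) := by rw [hc]; group)
    (by calc h⁻¹ * e * h * (h⁻¹ * e * h) = h⁻¹ * (e * e) * h := by group
          _ = 1 := by rw [he2]; group)
    (fun hm => hn (by simpa [mul_assoc] using ((D.K.mem_iff _).2 hm).conj h))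
  have hke : IsConj e (k * (h⁻¹ * e * h) * k⁻¹) := isConj_iff.2 ⟨k * h⁻¹, by group⟩
  rcases hk with hk | hk <;> rw [hk] at hke
  · exact D.u_conj.trans hke.symm
  · exact D.tu_conj.trans hke.symm

omit [Finite G] in
theorem sq_of_isConj [Finite G] {a e : G} (ha : IsConj a e) (h : a * a = 1) : e * e = 1 := by
  obtain ⟨c, rfl⟩ := isConj_iff.1 ha
  calc c * a * c⁻¹ * (c * a * c⁻¹) = c * (a * a) * c⁻¹ := by group
    _ = 1 := by rw [h]; group

include D in
/-- Lying outside the kernel is symmetric on conjugates of `t`. -/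
theorem symm {a e : G} (ha : IsConj t a) (he : IsConj t e) (hc : e * a = a * e) (hn : InN e a) :
    InN a e := by
  by_contra hne
  obtain ⟨h, hh⟩ := isConj_iff.1 ha
  subst hh
  have he2 := sq_of_isConj he D.H.tt
  obtain ⟨k, hk, hk'⟩ := D.out (a := h⁻¹ * e * h)
    (by calc h⁻¹ * e * h * t = h⁻¹ * (e * (h * t * h⁻¹)) * h := by group
          _ = t * (h⁻¹ * e * h) := by rw [hc]; group)
    (by calc h⁻¹ * e * h * (h⁻¹ * e * h) = h⁻¹ * (e * e) * h := by group
          _ = 1 := by rw [he2]; group)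
    (fun hm => hne (by simpa [mul_assoc] using ((D.K.mem_iff _).2 hm).conj h))
  have h1 := hn.conj (k * h⁻¹)
  rw [show k * h⁻¹ * e * (k * h⁻¹)⁻¹ = k * (h⁻¹ * e * h) * k⁻¹ by group,
    show k * h⁻¹ * (h * t * h⁻¹) * (k * h⁻¹)⁻¹ = k * t * k⁻¹ by group, hk, mul_inv_cancel_right] at h1
  rcases hk' with e' | e' <;> rw [e'] at h1
  · exact D.t_not_inN_u h1
  · exact D.t_not_inN_tu h1

include D in
theorem inN_mul {a b c : G} (ha : IsConj t a) (hb : InN a b) (hc : InN a c) : InN a (b * c) := by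
  obtain ⟨h, rfl⟩ := isConj_iff.1 ha
  have h1 := hb.conj h⁻¹
  have h2 := hc.conj h⁻¹
  rw [show h⁻¹ * (h * t * h⁻¹) * h⁻¹⁻¹ = t by group, D.K.mem_iff] at h1 h2
  have := ((D.K.mem_iff _).2 (mul_mem h1 h2)).conj h
  simpa [mul_assoc] using this

include D in
/-- An involution in two kernels of a commuting triple lies in the third. -/
theorem par {a b e : G} (ha : IsConj t a) (hb : IsConj t b) (hab : IsConj t (a * b))
    (he2 : e * e = 1) (h1 : InN a e) (h2 : InN b e) : InN (a * b) e := by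
  by_contra hn
  have hea := h1.mem_cent
  have heb := h2.mem_cent
  have hc : e * (a * b) = a * b * e := ((show Commute e a from hea).mul_right (show Commute e b from heb)).eq
  have he := D.out_conj hab he2 hc hn
  exact hn (D.symm hab he hc (D.inN_mul he (D.symm he ha hea.symm h1) (D.symm he hb heb.symm h2)))

include D in
/-- Elements of order three of `C(t)` are conjugate to `y` or its inverse. -/
theorem three_conj {c : G} (hc : c * t = t * c) (h3 : c ^ 3 = 1) (h1 : c ≠ 1) :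
    ∃ k : G, k * t = t * k ∧ (k * c * k⁻¹ = y ∨ k * c * k⁻¹ = y⁻¹) := by
  obtain ⟨π, Nb, hNb, Y, hY, hπs, hπ1, hsc, hmem, hfix, -⟩ := D.quot_data
  obtain ⟨C, hC⟩ : ∃ C : centralizer ({t} : Set G), (C : G) = c :=
    ⟨⟨c, mem_centralizer_singleton_iff.2 hc⟩, rfl⟩
  have hC3 : C ^ 3 = 1 := Subtype.ext (by rw [SubmonoidClass.coe_pow, hC, h3]; rfl)
  have hne : π C ≠ 1 := fun h => by
    rcases mem_zpowers_invol D.H.tt (hC ▸ (hπ1 C).1 h) with e | e
    · exact h1 e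
    · rw [e, pow_succ, pow_two, D.H.tt, one_mul] at h3
      exact D.H.t1 h3
  obtain ⟨k, hk⟩ := hsc.cover (by rw [← map_pow, hC3, map_one]) hne
  obtain ⟨k, rfl⟩ := hπs k
  refine ⟨k, mem_centralizer_singleton_iff.1 k.2, ?_⟩
  have key : ∀ W : centralizer ({t} : Set G), (W : G) ^ 3 = 1 → π k * π C * (π k)⁻¹ = π W →
      (k : G) * c * (k : G)⁻¹ = W := by
    intro W hW h
    rw [← map_inv, ← map_mul, ← map_mul, ← mul_inv_eq_one, ← map_inv, ← map_mul, hπ1] at h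
    simp only [coe_mul, coe_inv, hC] at h
    rcases mem_zpowers_invol D.H.tt h with e | e
    · exact mul_inv_eq_one.1 e
    · exfalso
      rw [mul_inv_eq_iff_eq_mul] at e
      have h4 : ((k : G) * c * (k : G)⁻¹) ^ 3 = 1 := by rw [conj_pow, h3]; group
      have hWt : Commute t (W : G) := (mem_centralizer_singleton_iff.1 W.2).symm
      rw [e, hWt.mul_pow, hW, mul_one, pow_succ, pow_two, D.H.tt, one_mul] at h4
      exact D.H.t1 h4
  rcases hk with hk | hk
  · exact Or.inl (hY ▸ key Y (hY ▸ D.H.y3) hk)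
  · refine Or.inr ?_
    have := key Y⁻¹ (by rw [coe_inv, hY, inv_pow, D.H.y3, inv_one]) (by rw [map_inv]; exact hk)
    simpa [hY] using this

include D in
/-- Such elements commute with their translates. -/
theorem comm_y {e : G} (he : e ∈ N) (ho : e * e = 1 ∨ Odd (orderOf e)) :
    Commute e (y * e * y⁻¹) := by
  obtain ⟨htri, hcom⟩ := D.triple_mod he
  obtain ⟨f, hf⟩ : ∃ f, f = y * e * y⁻¹ := ⟨_, rfl⟩
  rw [← hf] at htri hcom ⊢
  have hfN : f ∈ N := hf ▸ D.conj_mem he D.H.yt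
  rcases ho with h2 | ho
  · obtain ⟨d, hd⟩ : ∃ d, d = y⁻¹ * e * y := ⟨_, rfl⟩
    rw [← hd] at htri
    have hf2 : f * f = 1 := by
      rw [hf]
      calc y * e * y⁻¹ * (y * e * y⁻¹) = y * (e * e) * y⁻¹ := by group
        _ = 1 := by rw [h2]; group
    have hd2 : d * d = 1 := by
      rw [hd]
      calc y⁻¹ * e * y * (y⁻¹ * e * y) = y⁻¹ * (e * e) * y := by group
        _ = 1 := by rw [h2]; group
    have hdN : d ∈ N := by
      have := D.conj_mem he (g := y⁻¹) (Commute.inv_left (show Commute y t from D.H.yt)).eq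
      rwa [inv_inv, ← hd] at this
    have hsq : e * f * (e * f) = 1 := by
      have hdi : d⁻¹ = d := inv_eq_of_mul_eq_one_right hd2
      rcases mem_zpowers_invol D.H.tt htri with h | h
      · rw [eq_inv_of_mul_eq_one_left h, hdi, hd2]
      · have hef : e * f = t * d := by
          calc e * f = e * f * d * d⁻¹ := by group
            _ = t * d := by rw [h, hdi]
        rw [hef]
        calc t * d * (t * d) = t * (d * t) * d := by group
          _ = t * t * (d * d) := by rw [D.cent_of_mem hdN]; group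
          _ = 1 := by rw [D.H.tt, hd2, one_mul]
    show e * f = f * e
    calc e * f = (e * f)⁻¹ := eq_inv_of_mul_eq_one_left hsq
      _ = f * e := by rw [mul_inv_rev, inv_eq_of_mul_eq_one_right hf2, inv_eq_of_mul_eq_one_right h2]
  · rcases mem_zpowers_invol D.H.tt hcom with h | h
    · rw [mul_inv_eq_one, mul_inv_eq_iff_eq_mul] at h
      exact h
    · exfalso
      rw [mul_inv_eq_iff_eq_mul] at h
      have key : ∀ n : ℕ, e ^ n * f * (e ^ n)⁻¹ = t ^ n * f := by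
        intro n
        induction n with
        | zero => simp
        | succ n ih =>
          have hte : Commute e (t ^ n) := (show Commute e t from D.cent_of_mem he).pow_right n
          calc e ^ (n + 1) * f * (e ^ (n + 1))⁻¹ = e * (e ^ n * f * (e ^ n)⁻¹) * e⁻¹ := by
                rw [pow_succ']; group
            _ = t ^ n * (e * f * e⁻¹) := by rw [ih, ← mul_assoc e, hte.eq]; group
            _ = t ^ (n + 1) * f := by rw [h, pow_succ, mul_assoc]
      have h1 := key (orderOf e)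
      rw [pow_orderOf_eq_one, one_mul, inv_one, mul_one, ← mul_inv_eq_iff_eq_mul, mul_inv_cancel] at h1
      obtain ⟨k, hk⟩ := ho
      rw [hk, pow_succ, pow_mul, pow_two, D.H.tt, one_pow, one_mul] at h1
      exact D.H.t1 h1.symm

include D in
/-- The translate lemma in every frame. -/
theorem comm_line {a b e : G} (ha : IsConj t a) (hb : b ^ 3 = 1) (hb1 : b ≠ 1) (hba : b * a = a * b)
    (he : InN a e) (ho : e * e = 1 ∨ Odd (orderOf e)) :
    Commute e (b * e * b⁻¹) ∧ Commute e (b⁻¹ * e * b) := by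
  obtain ⟨h, rfl⟩ := isConj_iff.1 ha
  obtain ⟨k, hk, hk'⟩ := D.three_conj (c := h⁻¹ * b * h)
    (by calc h⁻¹ * b * h * t = h⁻¹ * (b * (h * t * h⁻¹)) * h := by group
          _ = t * (h⁻¹ * b * h) := by rw [hba]; group)
    (by calc (h⁻¹ * b * h) ^ 3 = h⁻¹ * b ^ 3 * h := by
              simp only [pow_succ, pow_zero, one_mul]; group
          _ = 1 := by rw [hb]; group)
    (fun e1 => hb1 (by rw [show b = h * (h⁻¹ * b * h) * h⁻¹ by group, e1]; group))
  obtain ⟨c, hcdef⟩ : ∃ c, c = k * h⁻¹ := ⟨_, rfl⟩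
  have hcN : c * e * c⁻¹ ∈ N := by
    have h1 := he.conj c
    rw [hcdef, show k * h⁻¹ * (h * t * h⁻¹) * (k * h⁻¹)⁻¹ = k * t * k⁻¹ by group, hk,
      mul_inv_cancel_right, ← hcdef] at h1
    exact (D.K.mem_iff _).1 h1
  have hcy := D.comm_y hcN (ho.imp (fun h2 => by
      calc c * e * c⁻¹ * (c * e * c⁻¹) = c * (e * e) * c⁻¹ := by group
        _ = 1 := by rw [h2]; group)
    (fun h2 => by rwa [show c * e * c⁻¹ = MulAut.conj c e from rfl, MulEquiv.orderOf_eq]))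
  have hb' : k * (h⁻¹ * b * h) * k⁻¹ = c * b * c⁻¹ := by rw [hcdef]; group
  rw [hb'] at hk'
  have main : Commute e (b * e * b⁻¹) := by
    rcases hk' with h1 | h1
    · rw [← h1] at hcy
      have := hcy.map (MulAut.conj c⁻¹).toMonoidHom
      simp only [MulEquiv.coe_toMonoidHom, MulAut.conj_apply] at this
      convert this using 1 <;> group
    · have h1' : y = c * b⁻¹ * c⁻¹ := by
        rw [show c * b⁻¹ * c⁻¹ = (c * b * c⁻¹)⁻¹ by group, h1, inv_inv]
      rw [h1'] at hcy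
      have := hcy.map (MulAut.conj (b * c⁻¹)).toMonoidHom
      simp only [MulEquiv.coe_toMonoidHom, MulAut.conj_apply] at this
      refine Commute.symm ?_
      convert this using 1 <;> group
  refine ⟨main, ?_⟩
  have := main.map (MulAut.conj b⁻¹).toMonoidHom
  simp only [MulEquiv.coe_toMonoidHom, MulAut.conj_apply] at this
  refine Commute.symm ?_
  convert this using 1 <;> group

include D in
/-- An element of an abelian `Q`-invariant `3'`-group commuting with `z` is trivial. -/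
theorem noQ_z {V : Subgroup G} (hV : ∀ a ∈ V, ∀ b ∈ V, a * b = b * a) (h3 : ¬ 3 ∣ Nat.card V)
    (hx : ∀ a ∈ V, x * a * x⁻¹ ∈ V) {v : G} (hv : v ∈ V) (hvz : v * z = z * v) : v = 1 := by
  have h18 := D.H.cent_z v hvz
  have hn : ¬ 3 ∣ orderOf v := fun h => h3 (h.trans (orderOf_mk v hv ▸ orderOf_dvd_natCard _))
  have hd : orderOf v ∣ 2 := by
    have h1 : orderOf v ∣ 2 * 3 ^ 2 := by have := orderOf_dvd_of_pow_eq_one h18; simpa using this
    exact (Nat.Coprime.pow_right 2 (Nat.prime_three.coprime_iff_not_dvd.2 hn).symm).dvd_of_dvd_mul_right h1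
  have h2 : v * v = 1 := by rw [← pow_two, ← orderOf_dvd_iff_pow_eq_one]; exact hd
  exact D.H.invol_x v h2 hvz (hV v hv _ (hx v hv))

include D in
/-- `Q` normalises no nontrivial abelian `3'`-group. -/
theorem noQ {V : Subgroup G} (hV : ∀ a ∈ V, ∀ b ∈ V, a * b = b * a) (h3 : ¬ 3 ∣ Nat.card V)
    (hz : ∀ a ∈ V, z * a * z⁻¹ ∈ V) (hx : ∀ a ∈ V, x * a * x⁻¹ ∈ V) : V = ⊥ := by
  have hpow : ∀ (k : G), (∀ a ∈ V, k * a * k⁻¹ ∈ V) → k ^ 3 = 1 → ∀ a ∈ V, k⁻¹ * a * k ∈ V := by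
    intro k hk hk3 a ha
    have h := hk _ (hk a ha)
    rwa [show k * (k * a * k⁻¹) * k⁻¹ = k ^ 3 * (k⁻¹ * a * k) * (k ^ 3)⁻¹ by
      simp only [pow_succ, pow_zero, one_mul]; group, hk3, one_mul, inv_one, mul_one] at h
  have hxi := hpow x hx D.H.x3
  have hzi := hpow z hz D.H.z3
  -- transport along an element moving the lines
  have trans : ∀ (h : G) (k₁ k₂ : G), (∀ a ∈ V, k₁ * a * k₁⁻¹ ∈ V) → (∀ a ∈ V, k₂ * a * k₂⁻¹ ∈ V) →
      h * k₁ * h⁻¹ = x → h * k₂ * h⁻¹ = z ∨ h * k₂ * h⁻¹ = z⁻¹ → ∀ v ∈ V, v * k₂ = k₂ * v → v = 1 := by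
    intro h k₁ k₂ hk₁ hk₂ e₁ e₂ v hv hc
    obtain ⟨V', hV'⟩ : ∃ V', V' = V.map (MulAut.conj h).toMonoidHom := ⟨_, rfl⟩
    have hmem : ∀ a, a ∈ V' ↔ h⁻¹ * a * h ∈ V := fun a => by
      rw [hV']; constructor
      · rintro ⟨b, hb, rfl⟩; simpa [mul_assoc] using hb
      · intro ha; exact ⟨_, ha, by simp [mul_assoc]⟩
    have hc' : h * v * h⁻¹ * (h * k₂ * h⁻¹) = h * k₂ * h⁻¹ * (h * v * h⁻¹) := by
      calc h * v * h⁻¹ * (h * k₂ * h⁻¹) = h * (v * k₂) * h⁻¹ := by group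
        _ = _ := by rw [hc]; group
    have hcz : h * v * h⁻¹ * z = z * (h * v * h⁻¹) := by
      rcases e₂ with e | e <;> rw [e] at hc'
      · exact hc'
      · have := (show Commute (h * v * h⁻¹) z⁻¹ from hc').inv_right
        rw [inv_inv] at this
        exact this.eq
    have := D.noQ_z (V := V') (fun a ha b hb => by
        have := hV _ ((hmem a).1 ha) _ ((hmem b).1 hb)
        calc a * b = h * (h⁻¹ * a * h * (h⁻¹ * b * h)) * h⁻¹ := by group
          _ = b * a := by rw [this]; group)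
      (by rw [hV', card_map_of_injective (MulAut.conj h).injective]; exact h3)
      (fun a ha => (hmem _).2 (by
        rw [← e₁, show h⁻¹ * (h * k₁ * h⁻¹ * a * (h * k₁ * h⁻¹)⁻¹) * h = k₁ * (h⁻¹ * a * h) * k₁⁻¹ by group]
        exact hk₁ _ ((hmem a).1 ha)))
      ((hmem _).2 (by rw [show h⁻¹ * (h * v * h⁻¹) * h = v by group]; exact hv)) hcz
    calc v = h⁻¹ * (h * v * h⁻¹) * h := by group
      _ = 1 := by rw [this]; group
  have lz : ∀ v ∈ V, v * z = z * v → v = 1 := fun v hv => D.noQ_z hV h3 hx hv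
  have lx : ∀ v ∈ V, v * x = x * v → v = 1 := trans (q * u) z x hz hx D.H.sz (Or.inl D.H.sx)
  obtain ⟨g, hg⟩ : ∃ g, g = y * q * y⁻¹ := ⟨_, rfl⟩
  have gz := D.H.gz
  have gx := D.H.gx
  rw [← hg] at gz gx
  have hzx : Commute z x := D.H.zx
  have gzx : g * (z * x) * g⁻¹ = z⁻¹ := by
    have h3' : z * z = z⁻¹ := eq_inv_of_mul_eq_one_left (by rw [← D.H.z3]; simp [pow_succ, mul_assoc])
    calc g * (z * x) * g⁻¹ = (g * z * g⁻¹) * (g * x * g⁻¹) := by group
      _ = z * (x * z) * x⁻¹ := by rw [gz, gx]; group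
      _ = z⁻¹ := by rw [← hzx.eq, ← h3']; group
  have gzxi : g * (z * x⁻¹) * g⁻¹ = x⁻¹ := by
    have h3' : x * x = x⁻¹ := eq_inv_of_mul_eq_one_left (by rw [← D.H.x3]; simp [pow_succ, mul_assoc])
    calc g * (z * x⁻¹) * g⁻¹ = (g * z * g⁻¹) * (g * x * g⁻¹)⁻¹ := by group
      _ = z * (x * x) * z⁻¹ := by rw [gz, gx]; group
      _ = x⁻¹ := by rw [h3', (hzx.inv_right).eq]; group
  have hzx' : ∀ a ∈ V, z * x * a * (z * x)⁻¹ ∈ V := fun a ha => by
    have := hz _ (hx a ha)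
    rwa [show z * (x * a * x⁻¹) * z⁻¹ = z * x * a * (z * x)⁻¹ by group] at this
  have hzxi : ∀ a ∈ V, z * x⁻¹ * a * (z * x⁻¹)⁻¹ ∈ V := fun a ha => by
    have := hz _ (hxi a ha)
    rwa [show z * (x⁻¹ * a * x) * z⁻¹ = z * x⁻¹ * a * (z * x⁻¹)⁻¹ by group] at this
  have hinvset : ∀ a ∈ V, (z * x⁻¹)⁻¹ * a * ((z * x⁻¹)⁻¹)⁻¹ ∈ V := fun a ha => by
    have := hx _ (hzi a ha)
    rwa [show x * (z⁻¹ * a * z) * x⁻¹ = (z * x⁻¹)⁻¹ * a * ((z * x⁻¹)⁻¹)⁻¹ by group] at this
  have l1 : ∀ v ∈ V, v * (z * x) = z * x * v → v = 1 :=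
    trans g _ (z * x) hinvset hzx' (by rw [show g * (z * x⁻¹)⁻¹ * g⁻¹ = (g * (z * x⁻¹) * g⁻¹)⁻¹ by group,
      gzxi, inv_inv]) (Or.inr gzx)
  have l2 : ∀ v ∈ V, v * (z * x⁻¹) = z * x⁻¹ * v → v = 1 := by
    intro v hv hc
    obtain ⟨V', hV'⟩ : ∃ V', V' = V.map (MulAut.conj g).toMonoidHom := ⟨_, rfl⟩
    refine trans (q * u * g) ((z * x)⁻¹) (z * x⁻¹) ?_ hzxi ?_ (Or.inr ?_) v hv hc
    · intro a ha
      have := hxi _ (hzi a ha)
      rwa [show x⁻¹ * (z⁻¹ * a * z) * x = (z * x)⁻¹ * a * ((z * x)⁻¹)⁻¹ by group] at this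
    · calc q * u * g * (z * x)⁻¹ * (q * u * g)⁻¹ = q * u * (g * (z * x) * g⁻¹)⁻¹ * (q * u)⁻¹ := by group
        _ = x := by rw [gzx, inv_inv, D.H.sz]
    · calc q * u * g * (z * x⁻¹) * (q * u * g)⁻¹ = q * u * (g * (z * x⁻¹) * g⁻¹) * (q * u)⁻¹ := by group
        _ = (q * u * x * (q * u)⁻¹)⁻¹ := by rw [gzxi]; group
        _ = z⁻¹ := by rw [D.H.sx]
  refine eq_bot_iff.2 fun a ha => mem_bot.2 ?_
  have hfz : ∀ b ∈ V, z * b * z⁻¹ = b → b = 1 := fun b hb h =>
    lz b hb (mul_inv_eq_iff_eq_mul.1 h).symm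
  have hfx : ∀ b ∈ V, x * b * x⁻¹ = b → b = 1 := fun b hb h =>
    lx b hb (mul_inv_eq_iff_eq_mul.1 h).symm
  have hcube := PSp43Amalgam.cube_eq_norms hV D.H.z3 D.H.x3 D.H.zx hz hx hfz hfx ha
  have hxx : x * x = x⁻¹ := eq_inv_of_mul_eq_one_left (by rw [← D.H.x3]; simp [pow_succ, mul_assoc])
  have hw1 : (z * x) ^ 3 = 1 := by rw [hzx.mul_pow, D.H.z3, D.H.x3, one_mul]
  have hw2 : (z * (x * x)) ^ 3 = 1 := by
    rw [hxx, hzx.inv_right.mul_pow, D.H.z3, inv_pow, D.H.x3, inv_one, one_mul]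
  have hn2 : ∀ b ∈ V, z * (x * x) * b * (z * (x * x))⁻¹ ∈ V := by rw [hxx]; exact hzxi
  obtain ⟨m1, f1⟩ := PSp43Amalgam.nrm_fixed hw1 hV hzx' ha
  obtain ⟨m2, f2⟩ := PSp43Amalgam.nrm_fixed hw2 hV hn2 ha
  have e2 : PSp43Amalgam.nrm (z * (x * x)) a = 1 := by
    refine l2 _ m2 ?_
    rw [← hxx]
    exact (mul_inv_eq_iff_eq_mul.1 f2).symm
  rw [l1 _ m1 (mul_inv_eq_iff_eq_mul.1 f1).symm, e2, one_mul] at hcube
  have hd := orderOf_dvd_of_pow_eq_one hcube
  rcases (Nat.dvd_prime Nat.prime_three).1 hd with e | e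
  · exact orderOf_eq_one_iff.1 e
  · exact absurd (e ▸ orderOf_mk a ha ▸ orderOf_dvd_natCard _) h3

theorem pair_cases : ∀ i j : Fin 3, (i = 0 ∧ j = 0) ∨ (i ≠ 0 ∧ j = 0) ∨ (i = 0 ∧ j ≠ 0) ∨
    (i = 1 ∧ j = 1) ∨ (i = 2 ∧ j = 2) ∨ (i = 1 ∧ j = 2) ∨ (i = 2 ∧ j = 1) := by decide

include D in
/-- The key lemma. -/
theorem noFix {e : G} (ho : e * e = 1 ∨ Odd (orderOf e)) (h1 : InN (t * u) e) (h2 : InN u e)
    (h3 : InN (q * u) e) (h4 : InN (t * (q * u)) e) : e = 1 := by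
  have hzx : Commute z x := D.H.zx
  have hsc : z * x * (q * u) = q * u * (z * x) := by
    have : q * u * (z * x) * (q * u)⁻¹ = z * x := by
      calc q * u * (z * x) * (q * u)⁻¹ = q * u * z * (q * u)⁻¹ * (q * u * x * (q * u)⁻¹) := by group
        _ = z * x := by rw [D.H.sz, D.H.sx, hzx.eq]
    exact (mul_inv_eq_iff_eq_mul.1 this).symm
  have hsi : z * x⁻¹ * (t * (q * u)) = t * (q * u) * (z * x⁻¹) := by
    have : t * (q * u) * (z * x⁻¹) * (t * (q * u))⁻¹ = z * x⁻¹ := by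
      calc t * (q * u) * (z * x⁻¹) * (t * (q * u))⁻¹
          = (t * (q * u * z * (q * u)⁻¹) * t⁻¹) * (t * (q * u * x * (q * u)⁻¹) * t⁻¹)⁻¹ := by group
        _ = x⁻¹ * z := by rw [D.H.sz, D.H.sx, D.H.tx, D.H.tz, inv_inv]
        _ = z * x⁻¹ := hzx.inv_right.eq.symm
    exact (mul_inv_eq_iff_eq_mul.1 this).symm
  have hxt : x * (t * u) = t * u * x := by
    calc x * (t * u) = t * (t⁻¹ * x * t) * u := by group
      _ = t * (t * x * t⁻¹) * u := by rw [D.ti]
      _ = t * (u * x * u⁻¹) * u := by rw [D.H.tx, D.H.ux]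
      _ = t * u * x := by group
  have hne1 : z * x ≠ 1 := fun h => by
    have h' : q * u * z * (q * u)⁻¹ = z⁻¹ := by rw [D.H.sz]; exact eq_inv_of_mul_eq_one_right h
    have hx' : x = z⁻¹ := eq_inv_of_mul_eq_one_right h
    have h2' := D.H.tx
    have hux := D.H.ux
    rw [hx'] at hux
    have : u * z * u⁻¹ = z := by rw [D.H.uz, mul_inv_cancel_right]
    rw [show u * z⁻¹ * u⁻¹ = (u * z * u⁻¹)⁻¹ by group, this, inv_inv] at hux
    refine D.H.z1 ?_
    have h3z := D.H.z3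
    rwa [pow_succ, pow_two, show z * z = 1 by nth_rw 1 [← hux]; exact inv_mul_cancel z, one_mul] at h3z
  have hne2 : z * x⁻¹ ≠ 1 := fun h => by
    rw [mul_inv_eq_one] at h
    have hux := D.H.ux
    rw [← h] at hux
    rw [D.H.uz, mul_inv_cancel_right] at hux
    refine D.H.z1 ?_
    have h3z := D.H.z3
    rwa [pow_succ, pow_two, show z * z = 1 by nth_rw 2 [hux]; exact mul_inv_cancel z, one_mul] at h3z
  have c1 := D.comm_line D.tu_conj D.H.x3 D.H.x1 hxt h1 ho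
  have c2 := D.comm_line D.u_conj D.H.z3 D.H.z1 D.H.uz.symm h2 ho
  have c3 := D.comm_line D.qu_conj (by rw [hzx.mul_pow, D.H.z3, D.H.x3, one_mul]) hne1 hsc h3 ho
  have c4 := D.comm_line D.tqu_conj
    (by rw [hzx.inv_right.mul_pow, D.H.z3, inv_pow, D.H.x3, inv_one, one_mul]) hne2 hsi h4 ho
  have hz2 : z⁻¹ = z ^ 2 := inv_eq_of_mul_eq_one_right (by rw [← pow_succ', D.H.z3])
  have hx2 : x⁻¹ = x ^ 2 := inv_eq_of_mul_eq_one_right (by rw [← pow_succ', D.H.x3])
  have hall : ∀ i j : ℕ, Commute e (z ^ i * x ^ j * e * (z ^ i * x ^ j)⁻¹) := by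
    intro i j
    rw [← pow_mod_orderOf z, ← pow_mod_orderOf x, orderOf_eq_prime (hp := ⟨Nat.prime_three⟩) D.H.z3 D.H.z1,
      orderOf_eq_prime (hp := ⟨Nat.prime_three⟩) D.H.x3 D.H.x1]
    obtain ⟨a, ha⟩ : ∃ a : Fin 3, (a : ℕ) = i % 3 := ⟨⟨i % 3, Nat.mod_lt _ (by norm_num)⟩, rfl⟩
    obtain ⟨b, hb⟩ : ∃ b : Fin 3, (b : ℕ) = j % 3 := ⟨⟨j % 3, Nat.mod_lt _ (by norm_num)⟩, rfl⟩
    rw [← ha, ← hb]
    rcases pair_cases a b with ⟨rfl, rfl⟩ | ⟨hne, rfl⟩ | ⟨rfl, hne⟩ | ⟨rfl, rfl⟩ | ⟨rfl, rfl⟩ | ⟨rfl, rfl⟩ |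
      ⟨rfl, rfl⟩
    · simp
    · have : a = 1 ∨ a = 2 := by omega
      rcases this with rfl | rfl
      · simpa using c2.1
      · simpa [← hz2] using c2.2
    · have : b = 1 ∨ b = 2 := by omega
      rcases this with rfl | rfl
      · simpa using c1.1
      · simpa [← hx2] using c1.2
    · simpa using c3.1
    · rw [show z ^ ((2 : Fin 3) : ℕ) * x ^ ((2 : Fin 3) : ℕ) = (z * x)⁻¹ by
        rw [mul_inv_rev, hx2, hz2]; exact (hzx.pow_pow 2 2).eq]
      simpa [mul_assoc] using c3.2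
    · rw [show z ^ ((1 : Fin 3) : ℕ) * x ^ ((2 : Fin 3) : ℕ) = z * x⁻¹ by rw [hx2]; simp]
      exact c4.1
    · rw [show z ^ ((2 : Fin 3) : ℕ) * x ^ ((1 : Fin 3) : ℕ) = (z * x⁻¹)⁻¹ by
        rw [mul_inv_rev, inv_inv, hz2]; simpa using (hzx.pow_left 2).eq]
      simpa [mul_assoc] using c4.2
  obtain ⟨S, hS⟩ : ∃ S : Set G, S = {a | ∃ i j : ℕ, a = z ^ i * x ^ j * e * (z ^ i * x ^ j)⁻¹} := ⟨_, rfl⟩
  have hmulQ : ∀ i j k l : ℕ, z ^ i * x ^ j * (z ^ k * x ^ l) = z ^ (i + k) * x ^ (j + l) := by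
    intro i j k l
    calc z ^ i * x ^ j * (z ^ k * x ^ l) = z ^ i * (x ^ j * z ^ k) * x ^ l := by group
      _ = z ^ i * (z ^ k * x ^ j) * x ^ l := by rw [(hzx.pow_pow k j).eq]
      _ = _ := by rw [pow_add, pow_add]; group
  have hcommS : ∀ a ∈ S, ∀ b ∈ S, a * b = b * a := by
    rw [hS]
    rintro _ ⟨i, j, rfl⟩ _ ⟨k, l, rfl⟩
    have e2 : z ^ k * x ^ l = z ^ i * x ^ j * (z ^ (2 * i + k) * x ^ (2 * j + l)) := by
      rw [hmulQ, show i + (2 * i + k) = 3 * i + k by ring, show j + (2 * j + l) = 3 * j + l by ring,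
        pow_add, pow_mul, D.H.z3, one_pow, one_mul, pow_add, pow_mul, D.H.x3, one_pow, one_mul]
    rw [e2]
    have := (hall (2 * i + k) (2 * j + l)).map (MulAut.conj (z ^ i * x ^ j)).toMonoidHom
    simp only [MulEquiv.coe_toMonoidHom, MulAut.conj_apply] at this
    refine Eq.trans ?_ (this.eq.trans ?_) <;> group
  obtain ⟨V, hVdef⟩ : ∃ V, V = closure S := ⟨_, rfl⟩
  haveI : IsMulCommutative V := hVdef ▸ isMulCommutative_closure hcommS
  have hVc : ∀ a ∈ V, ∀ b ∈ V, a * b = b * a := fun a ha b hb =>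
    congrArg Subtype.val (IsMulCommutative.is_comm.comm (⟨a, ha⟩ : V) ⟨b, hb⟩)
  have heV : e ∈ V := hVdef ▸ subset_closure (hS ▸ ⟨0, 0, by simp⟩)
  have hcl : ∀ c : G, (∀ i j : ℕ, ∃ k l : ℕ, c * (z ^ i * x ^ j) = z ^ k * x ^ l) →
      ∀ a ∈ V, c * a * c⁻¹ ∈ V := by
    intro c hc a ha
    have hle : V.map (MulAut.conj c).toMonoidHom ≤ V := by
      rw [hVdef, MonoidHom.map_closure, closure_le]
      rintro _ ⟨b, hb, rfl⟩
      rw [hS] at hb
      obtain ⟨i, j, rfl⟩ := hb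
      obtain ⟨k, l, hkl⟩ := hc i j
      refine subset_closure (hS ▸ ⟨k, l, ?_⟩)
      show c * (z ^ i * x ^ j * e * (z ^ i * x ^ j)⁻¹) * c⁻¹ = _
      rw [← hkl]; group
    exact hle ⟨a, ha, rfl⟩
  have h3V : ¬ 3 ∣ Nat.card V := by
    intro hd
    have : Fact (Nat.Prime 3) := ⟨Nat.prime_three⟩
    obtain ⟨⟨v, hv⟩, hvo⟩ := exists_prime_orderOf_dvd_card' 3 hd
    rw [orderOf_mk] at hvo
    have hn : v ^ orderOf e = 1 := by
      have hkey : ∀ a ∈ V, a ^ orderOf e = 1 := by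
        intro a ha
        rw [hVdef] at ha
        induction ha using closure_induction with
        | mem b hb =>
          rw [hS] at hb
          obtain ⟨i, j, rfl⟩ := hb
          rw [conj_pow, pow_orderOf_eq_one, mul_one, mul_inv_cancel]
        | one => exact one_pow _
        | mul a b ha hb iha ihb =>
          rw [(show Commute a b from hVc a (hVdef ▸ ha) b (hVdef ▸ hb)).mul_pow, iha, ihb, one_mul]
        | inv a _ iha => rw [inv_pow, iha, inv_one]
      exact hkey v hv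
    have h3o := orderOf_dvd_of_pow_eq_one hn
    rw [hvo] at h3o
    obtain ⟨h, rfl⟩ := isConj_iff.1 D.u_conj
    obtain ⟨M, -, -, hM3, heM⟩ := h2
    exact hM3 (h3o.trans (orderOf_mk e heM ▸ orderOf_dvd_natCard _))
  have hbot := D.noQ hVc h3V
    (hcl z fun i j => ⟨i + 1, j, by rw [pow_succ', mul_assoc]⟩)
    (hcl x fun i j => ⟨i, j + 1, by rw [← mul_assoc, (hzx.pow_left i).eq.symm, pow_succ', mul_assoc]⟩)
  rwa [hbot, mem_bot] at heV

end Ctx

end Cfsg.Agent.M12Amal
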