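import Cfsg.Agent.M12Amal.Setup

/-!
# The two halves are generated by elements of order three and one further involution
-/

set_option autoImplicit false
set_option maxRecDepth 4000

namespace Cfsg.Agent.M12Amal

open Subgroup

universe w

/-- Product of matrices given by their columns. -/
def mmul (p r : V3 × V3) : V3 × V3 := (lin p.1 p.2 r.1, lin p.1 p.2 r.2)

/-- Lower and upper transvections and the diagonal matrices fixing the first point. -/
def tE (i : ZMod 3) : V3 × V3 := ((1, 0), (i, 1))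

/-- The other transvections. -/
def tF (i : ZMod 3) : V3 × V3 := ((1, i), (0, 1))

/-- A diagonal matrix. -/
def tU (e : Bool) : V3 × V3 := if e then ((1, 0), (0, 2)) else ((1, 0), (0, 1))

theorem elem_decomp : ∀ a b : V3, det a b ≠ 0 → ∃ i k l m : ZMod 3, ∃ e : Bool,
    (a, b) = mmul (mmul (mmul (mmul (tE i) (tF k)) (tE l)) (tF m)) (tU e) := by
  decide +kernel

theorem elem_cube : ∀ i : ZMod 3, mmul (mmul (tE i) (tE i)) (tE i) = ((1, 0), (0, 1)) ∧
    mmul (mmul (tF i) (tF i)) (tF i) = ((1, 0), (0, 1)) := by decide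

theorem elem_det : ∀ i : ZMod 3, det (tE i).1 (tE i).2 ≠ 0 ∧ det (tF i).1 (tF i).2 ≠ 0 := by decide

theorem neg_decomp : ∃ i k l m : ZMod 3,
    ((((2, 0) : V3), ((0, 2) : V3))) = mmul (mmul (mmul (mmul (tE i) (tF k)) (tE l)) (tF m)) (tU false) := by
  decide +kernel

variable {G : Type w} [Group G] [Finite G]

namespace Crd

variable {A Q R : Subgroup G} {z x : G} (D : Crd A Q z x)

include D in
theorem three_mem (hR : ∀ g : G, g ^ 3 = 1 → g ∈ R) (p : V3 × V3) (hd : det p.1 p.2 ≠ 0)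
    (h3 : mmul (mmul p p) p = ((1, 0), (0, 1))) : ∃ g ∈ A, g ∈ R ∧ Act z x g p.1 p.2 := by
  obtain ⟨t, htA, ht2, htact⟩ := D.exists_t
  obtain ⟨g, hg, hgt, hact⟩ := D.exists_lift htA ht2 htact p.1 p.2 hd
  refine ⟨g, hg, hR g ?_, hact⟩
  have L : Lift A z x t g p.1 p.2 := ⟨hg, hgt, hact⟩
  rw [pow_succ, pow_two]
  exact D.lift_eq ht2 htact (D.lift_mul (D.lift_mul L L) L) D.lift_one
    (congrArg Prod.fst h3) (congrArg Prod.snd h3)

include D in
theorem word_mem (hR : ∀ g : G, g ^ 3 = 1 → g ∈ R) (i k l m : ZMod 3) (e : Bool) {v : G} (hvA : v ∈ A)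
    (hvR : v ∈ R) (hv : Act z x v (tU e).1 (tU e).2) :
    ∃ g ∈ A, g ∈ R ∧ Act z x g (mmul (mmul (mmul (mmul (tE i) (tF k)) (tE l)) (tF m)) (tU e)).1
      (mmul (mmul (mmul (mmul (tE i) (tF k)) (tE l)) (tF m)) (tU e)).2 := by
  obtain ⟨g1, a1, r1, c1⟩ := D.three_mem hR (tE i) (elem_det i).1 (elem_cube i).1
  obtain ⟨g2, a2, r2, c2⟩ := D.three_mem hR (tF k) (elem_det k).2 (elem_cube k).2
  obtain ⟨g3, a3, r3, c3⟩ := D.three_mem hR (tE l) (elem_det l).1 (elem_cube l).1
  obtain ⟨g4, a4, r4, c4⟩ := D.three_mem hR (tF m) (elem_det m).2 (elem_cube m).2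
  exact ⟨g1 * g2 * g3 * g4 * v, mul_mem (mul_mem (mul_mem (mul_mem a1 a2) a3) a4) hvA,
    mul_mem (mul_mem (mul_mem (mul_mem r1 r2) r3) r4) hvR,
    D.act_mul (D.act_mul (D.act_mul (D.act_mul c1 c2) c3) c4) hv⟩

include D in
theorem mem_of_act (hR : ∀ g : G, g ^ 3 = 1 → g ∈ R) {a b : V3} {g k : G} (hg : g ∈ A)
    (hact : Act z x g a b) (hk : k ∈ A) (hkR : k ∈ R) (hk' : Act z x k a b) : g ∈ R := by
  have h := D.eq_mul_of_act hg hk hact hk'
  have := mul_mem hkR (hR _ (D.cube _ h))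
  rwa [mul_inv_cancel_left] at this

include D in
/-- The inverting elements lie in a subgroup containing all elements of order three. -/
theorem neg_mem (hR : ∀ g : G, g ^ 3 = 1 → g ∈ R) {g : G} (hg : g ∈ A)
    (hact : Act z x g (2, 0) (0, 2)) : g ∈ R := by
  obtain ⟨i, k, l, m, he⟩ := neg_decomp
  obtain ⟨h, hh, hhR, hh'⟩ := D.word_mem hR i k l m false (one_mem A) (one_mem R)
    (D.act_one_of_mem (one_mem Q))
  rw [← he] at hh'
  exact D.mem_of_act hR hg hact hh hhR hh'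

include D in
/-- A subgroup with all elements of order three and one reflection contains the half. -/
theorem le_of_reflection (hR : ∀ g : G, g ^ 3 = 1 → g ∈ R) {v : G} (hvA : v ∈ A) (hvR : v ∈ R)
    (hv : Act z x v (1, 0) (0, 2)) : A ≤ R := by
  intro g hg
  obtain ⟨a, ha⟩ := D.exists_pt (D.norm g hg z D.hz)
  obtain ⟨b, hb⟩ := D.exists_pt (D.norm g hg x D.hx)
  have hd : det a b ≠ 0 := fun h0 => by
    obtain ⟨w, hw, hw0⟩ := det_zero a b h0
    have h := D.act_apply (g := g) ⟨ha, hb⟩ w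
    rw [hw0, pt_zero, conj_eq_one_iff] at h
    exact hw (D.pt_eq_one h)
  obtain ⟨i, k, l, m, e, he⟩ := elem_decomp a b hd
  obtain ⟨h, hh, hhR, hh'⟩ : ∃ h ∈ A, h ∈ R ∧ Act z x h a b := by
    have := D.word_mem hR i k l m e (v := if e then v else 1)
      (by cases e <;> simp [hvA, one_mem]) (by cases e <;> simp [hvR, one_mem])
      (by cases e
          · exact D.act_one_of_mem (one_mem Q)
          · exact hv)
    rwa [← he] at this
  exact D.mem_of_act hR hg ⟨ha, hb⟩ hh hhR hh'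

end Crd

end Cfsg.Agent.M12Amal
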