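import Mathlib

/-!
# Properties of the two possible quotients `S₃` and `A₅`
-/

set_option autoImplicit false
set_option synthInstance.maxSize 2000
set_option synthInstance.maxHeartbeats 200000

namespace Cfsg.Agent.M12Amal

/-- A representative involution. -/
def invA : alternatingGroup (Fin 5) :=
  ⟨Equiv.swap 0 1 * Equiv.swap 2 3, Equiv.Perm.mem_alternatingGroup.2 (by decide)⟩

/-- A representative three-cycle. -/
def cycA : alternatingGroup (Fin 5) :=
  ⟨Equiv.swap 0 1 * Equiv.swap 1 2, Equiv.Perm.mem_alternatingGroup.2 (by decide)⟩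

/-- The properties used of a quotient of an involution centraliser. -/
structure Good (F : Type*) [Group F] : Prop where
  conj : ∀ a b : F, a * a = 1 → a ≠ 1 → b * b = 1 → b ≠ 1 → ∃ k, k * a * k⁻¹ = b
  sqr : ∀ a b : F, a * a = 1 → a ≠ 1 → a * b = b * a → b * b = 1
  kill : ∀ a b c : F, a * a = 1 → a ≠ 1 → c * c * c = 1 → c ≠ 1 → a * c * a = c * c → b * b = 1 →
    a * b = b * a → b * (c * b * (c * c)) * (c * c * b * c) = 1 → b = 1

theorem good_perm_three : Good (Equiv.Perm (Fin 3)) :=
  ⟨by decide +kernel, by decide +kernel, by decide +kernel⟩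

theorem alt_inv_conj : ∀ a : alternatingGroup (Fin 5), a * a = 1 → a ≠ 1 →
    ∃ k, k * a * k⁻¹ = invA := by decide +kernel

theorem alt_three_conj : ∀ c : alternatingGroup (Fin 5), c * c * c = 1 → c ≠ 1 →
    ∃ k, k * c * k⁻¹ = cycA := by decide +kernel

theorem alt_sqr : ∀ b : alternatingGroup (Fin 5),
    b * invA = invA * b →
      b * b = 1 := by decide +kernel

theorem alt_kill : ∀ a : alternatingGroup (Fin 5), a * a = 1 → a ≠ 1 →
    a * cycA * a =
      cycA * cycA →
    ∀ b : alternatingGroup (Fin 5), b * b = 1 → a * b = b * a →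
    b * (cycA * b *
        (cycA * cycA)) *
      (cycA * cycA * b *
        cycA) = 1 → b = 1 := by decide +kernel

theorem good_alt_five : Good (alternatingGroup (Fin 5)) := by
  refine ⟨fun a b ha ha1 hb hb1 => ?_, fun a b ha ha1 hab => ?_, fun a b c ha ha1 hc hc1 hac hb hab h => ?_⟩
  · obtain ⟨k, hk⟩ := alt_inv_conj a ha ha1
    obtain ⟨l, hl⟩ := alt_inv_conj b hb hb1
    refine ⟨l⁻¹ * k, ?_⟩
    calc l⁻¹ * k * a * (l⁻¹ * k)⁻¹ = l⁻¹ * (k * a * k⁻¹) * l := by group
      _ = b := by rw [hk, ← hl]; group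
  · obtain ⟨k, hk⟩ := alt_inv_conj a ha ha1
    have h1 := alt_sqr (k * b * k⁻¹) (by
      rw [← hk]
      calc k * b * k⁻¹ * (k * a * k⁻¹) = k * (b * a) * k⁻¹ := by group
        _ = _ := by rw [← hab]; group)
    calc b * b = k⁻¹ * (k * b * k⁻¹ * (k * b * k⁻¹)) * k := by group
      _ = 1 := by rw [h1]; group
  · obtain ⟨k, hk⟩ := alt_three_conj c hc hc1
    obtain ⟨f, hf⟩ : ∃ f : alternatingGroup (Fin 5) ≃* alternatingGroup (Fin 5), f = MulAut.conj k := ⟨_, rfl⟩
    have hfc : f c = cycA := by rw [hf]; exact hk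
    have := alt_kill (f a) (by rw [← map_mul, ha, map_one]) (by simpa using ha1)
      (by rw [← hfc, ← map_mul, ← map_mul, hac, map_mul]) (f b) (by rw [← map_mul, hb, map_one])
      (by rw [← map_mul, ← map_mul, hab])
      (by rw [← hfc]; simp only [← map_mul]; rw [h, map_one])
    simpa using this

end Cfsg.Agent.M12Amal
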