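import Mathlib

/-!
# A group `3^2:GL(2,3)` inside a larger group, in coordinates

`Half A Q` : `Q` is a self-centralising elementary abelian normal subgroup of order nine of `A` and
`|A| = 432`.  Then every automorphism of `Q` is induced by `A`, and lifts uniquely to the
centraliser of an inverting involution.
-/

set_option autoImplicit false

namespace Cfsg.Agent.M12Amal

open Subgroup

variable {G : Type*} [Group G] [Finite G]

/-- `A` has the shape `3^2:GL(2,3)` over `Q`. -/
structure Half (A Q : Subgroup G) : Prop where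
  qa : Q ≤ A
  comm : ∀ a ∈ Q, ∀ b ∈ Q, a * b = b * a
  cube : ∀ a ∈ Q, a ^ 3 = 1
  card : Nat.card Q = 9
  norm : ∀ g ∈ A, ∀ a ∈ Q, g * a * g⁻¹ ∈ Q
  self : ∀ g ∈ A, (∀ a ∈ Q, g * a = a * g) → g ∈ Q
  cardA : Nat.card A = 432

/-- Coordinates on `Q`. -/
structure Crd (A Q : Subgroup G) (z x : G) : Prop extends Half A Q where
  hz : z ∈ Q
  hx : x ∈ Q
  z1 : z ≠ 1
  xz : x ∉ zpowers z

/-- Vectors over the field with three elements. -/
abbrev V3 := ZMod 3 × ZMod 3

/-- The image of `v` under the matrix with columns `a`, `b`. -/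
def lin (a b v : V3) : V3 := (v.1 * a.1 + v.2 * b.1, v.1 * a.2 + v.2 * b.2)

/-- The determinant of the matrix with columns `a`, `b`. -/
def det (a b : V3) : ZMod 3 := a.1 * b.2 - a.2 * b.1

/-- The point with coordinates `v`. -/
def pt (z x : G) (v : V3) : G := z ^ v.1.val * x ^ v.2.val

/-- `g` induces the matrix with columns `a`, `b`. -/
def Act (z x g : G) (a b : V3) : Prop := g * z * g⁻¹ = pt z x a ∧ g * x * g⁻¹ = pt z x b

theorem det_zero : ∀ a b : V3, det a b = 0 → ∃ v : V3, v ≠ 0 ∧ lin a b v = 0 := by decide +kernel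

theorem det_count : Nat.card {p : V3 × V3 // det p.1 p.2 ≠ 0} = 48 := by
  rw [Nat.card_eq_fintype_card]; decide +kernel

omit [Finite G] in
theorem zval_pow {z : G} (h : z ^ 3 = 1) (i j : ZMod 3) : z ^ (i + j).val = z ^ i.val * z ^ j.val := by
  rw [ZMod.val_add, ← pow_add, ← pow_mod_orderOf, ← pow_mod_orderOf (n := i.val + j.val)]
  have hd : orderOf z ∣ 3 := orderOf_dvd_of_pow_eq_one h
  rw [Nat.mod_mod_of_dvd _ hd]

omit [Finite G] in
theorem pt_zero {z x : G} : pt z x 0 = 1 := by simp [pt]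

omit [Finite G] in
theorem pt_z {z x : G} : pt z x (1, 0) = z := by simp [pt, ZMod.val_one]

omit [Finite G] in
theorem pt_x {z x : G} : pt z x (0, 1) = x := by simp [pt, ZMod.val_one]

namespace Crd

variable {A Q : Subgroup G} {z x : G} (D : Crd A Q z x)

omit [Finite G] in
include D in
theorem pt_mem (v : V3) : pt z x v ∈ Q := mul_mem (pow_mem D.hz _) (pow_mem D.hx _)

omit [Finite G] in
include D in
theorem pt_add (v w : V3) : pt z x (v + w) = pt z x v * pt z x w := by
  simp only [pt, Prod.fst_add, Prod.snd_add, zval_pow (D.cube z D.hz), zval_pow (D.cube x D.hx)]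
  have h := D.comm _ (pow_mem D.hz w.1.val) _ (pow_mem D.hx v.2.val)
  calc z ^ v.1.val * z ^ w.1.val * (x ^ v.2.val * x ^ w.2.val)
      = z ^ v.1.val * (z ^ w.1.val * x ^ v.2.val) * x ^ w.2.val := by group
    _ = z ^ v.1.val * (x ^ v.2.val * z ^ w.1.val) * x ^ w.2.val := by rw [h]
    _ = _ := by group

omit [Finite G] in
include D in
theorem pt_smul (v : V3) (i : ZMod 3) : pt z x (i * v.1, i * v.2) = pt z x v ^ i.val := by
  have key : ∀ n : ℕ, pt z x ((n : ZMod 3) * v.1, (n : ZMod 3) * v.2) = pt z x v ^ n := by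
    intro n
    induction n with
    | zero => simp [pt]
    | succ n ih =>
      rw [pow_succ, ← ih, ← D.pt_add]
      congr 1
      ext <;> simp [add_mul]
  have := key i.val
  rwa [ZMod.natCast_zmod_val] at this

omit [Finite G] in
include D in
theorem pt_eq_one {v : V3} (h : pt z x v = 1) : v = 0 := by
  rcases v with ⟨i, j⟩
  by_cases hj : j = 0
  · subst hj
    simp only [pt, ZMod.val_zero, pow_zero, mul_one] at h
    have ho : orderOf z = 3 := orderOf_eq_prime (D.cube z D.hz) D.z1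
    have h3 := orderOf_dvd_of_pow_eq_one h
    rw [ho] at h3
    have hlt : i.val < 3 := ZMod.val_lt i
    have hi : i.val = 0 := by omega
    rw [ZMod.val_eq_zero] at hi
    rw [hi]; rfl
  · exfalso
    refine D.xz ?_
    have h1 : x ^ j.val ∈ zpowers z := by
      rw [pt] at h
      rw [eq_inv_of_mul_eq_one_right h]
      exact inv_mem (pow_mem (mem_zpowers z) _)
    have h2 := pow_mem h1 j.val
    rw [← pow_mul] at h2
    have e : ∀ j : ZMod 3, j ≠ 0 → j.val * j.val % 3 = 1 := by decide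
    rw [← pow_mod_orderOf, orderOf_eq_prime (D.cube x D.hx)
      (fun e => D.xz (e ▸ one_mem _)), e j hj, pow_one] at h2
    exact h2

omit [Finite G] in
include D in
theorem pt_injective : Function.Injective (pt z x) := by
  intro v w h
  have h1 : pt z x (v - w) * pt z x w = pt z x v := by rw [← D.pt_add, sub_add_cancel]
  rw [← h] at h1
  exact sub_eq_zero.1 (D.pt_eq_one (mul_eq_right.1 h1))

include D in
theorem exists_pt {a : G} (ha : a ∈ Q) : ∃ v, a = pt z x v := by
  have hb : Function.Bijective (fun v : V3 => (⟨pt z x v, D.pt_mem v⟩ : Q)) :=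
    (Nat.bijective_iff_injective_and_card _).2
      ⟨fun v w h => D.pt_injective (congrArg Subtype.val h), by rw [D.card, Nat.card_prod, Nat.card_zmod]⟩
  obtain ⟨v, hv⟩ := hb.2 ⟨a, ha⟩
  exact ⟨v, (congrArg Subtype.val hv).symm⟩

omit [Finite G] in
include D in
theorem act_apply {g : G} {a b : V3} (h : Act z x g a b) (v : V3) :
    g * pt z x v * g⁻¹ = pt z x (lin a b v) := by
  have e : lin a b v = (v.1 * a.1, v.1 * a.2) + (v.2 * b.1, v.2 * b.2) := rfl
  rw [e, D.pt_add, D.pt_smul, D.pt_smul, ← h.1, ← h.2, conj_pow, conj_pow, pt]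
  group

omit [Finite G] in
include D in
theorem act_mul {g k : G} {a b c d : V3} (hg : Act z x g a b) (hk : Act z x k c d) :
    Act z x (g * k) (lin a b c) (lin a b d) := by
  constructor
  · rw [← D.act_apply hg, ← hk.1]; group
  · rw [← D.act_apply hg, ← hk.2]; group

include D in
theorem eq_mul_of_act {g k : G} {a b : V3} (hg : g ∈ A) (hk : k ∈ A) (h : Act z x g a b)
    (h' : Act z x k a b) : k⁻¹ * g ∈ Q := by
  refine D.self _ (mul_mem (inv_mem hk) hg) fun w hw => ?_
  obtain ⟨v, rfl⟩ := D.exists_pt hw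
  have e1 := D.act_apply h v
  rw [← D.act_apply h' v, mul_inv_eq_iff_eq_mul] at e1
  calc k⁻¹ * g * pt z x v = k⁻¹ * (g * pt z x v) := mul_assoc _ _ _
    _ = k⁻¹ * (k * pt z x v * k⁻¹ * g) := by rw [e1]
    _ = pt z x v * (k⁻¹ * g) := by group

include D in
theorem act_one_of_mem {g : G} (hg : g ∈ Q) : Act z x g (1, 0) (0, 1) := by
  constructor
  · rw [D.comm g hg z D.hz, mul_inv_cancel_right, pt_z]
  · rw [D.comm g hg x D.hx, mul_inv_cancel_right, pt_x]

include D in
/-- Every invertible matrix is induced. -/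
theorem exists_act (a b : V3) (hd : det a b ≠ 0) : ∃ g ∈ A, Act z x g a b := by
  have hn : (Q.subgroupOf A).index = 48 := by
    have h := (Q.subgroupOf A).card_mul_index
    rw [Nat.card_congr (subgroupOfEquivOfLe D.qa).toEquiv, D.card, D.cardA] at h
    omega
  have hex : ∀ c : A ⧸ Q.subgroupOf A, ∃ p : {p : V3 × V3 // det p.1 p.2 ≠ 0},
      Act z x (c.out : G) p.1.1 p.1.2 := by
    intro c
    obtain ⟨a, ha⟩ := D.exists_pt (D.norm _ c.out.2 z D.hz)
    obtain ⟨b, hb⟩ := D.exists_pt (D.norm _ c.out.2 x D.hx)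
    refine ⟨⟨(a, b), fun h0 => ?_⟩, ha, hb⟩
    obtain ⟨v, hv, hv0⟩ := det_zero a b h0
    have h := D.act_apply (g := (c.out : G)) ⟨ha, hb⟩ v
    rw [hv0, pt_zero, conj_eq_one_iff] at h
    exact hv (D.pt_eq_one h)
  choose f hf using hex
  have hinj : Function.Injective f := by
    intro c c' h
    have h1 := hf c
    rw [h] at h1
    have h2 := D.eq_mul_of_act c.out.2 c'.out.2 h1 (hf c')
    have h3 : ((c'.out : A) : A ⧸ Q.subgroupOf A) = ((c.out : A) : A ⧸ Q.subgroupOf A) := by
      rw [QuotientGroup.eq, mem_subgroupOf]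
      simpa using h2
    rw [QuotientGroup.out_eq', QuotientGroup.out_eq'] at h3
    exact h3.symm
  have hb : Function.Bijective f := (Nat.bijective_iff_injective_and_card f).2
    ⟨hinj, by rw [det_count, ← Subgroup.index]; exact hn⟩
  obtain ⟨c, hc⟩ := hb.2 ⟨(a, b), hd⟩
  refine ⟨_, c.out.2, ?_⟩
  have := hf c
  rwa [hc] at this

include D in
/-- There is an involution inverting `Q`. -/
theorem exists_t : ∃ t ∈ A, t * t = 1 ∧ Act z x t (2, 0) (0, 2) := by
  obtain ⟨g, hg, hact⟩ := D.exists_act (2, 0) (0, 2) (by decide)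
  have h2 : Act z x (g * g) (1, 0) (0, 1) := by
    have := D.act_mul hact hact
    rwa [show lin (2, 0) (0, 2) ((2, 0) : V3) = (1, 0) from rfl,
      show lin (2, 0) (0, 2) ((0, 2) : V3) = (0, 1) from rfl] at this
  have hQ : g * g ∈ Q := by
    have := D.eq_mul_of_act (mul_mem hg hg) (one_mem A) h2 (D.act_one_of_mem (one_mem Q))
    simpa using this
  refine ⟨g * g * g, mul_mem (mul_mem hg hg) hg, ?_, ?_⟩
  · calc g * g * g * (g * g * g) = (g * g) ^ 3 := by simp only [pow_succ, pow_zero, one_mul]; group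
      _ = 1 := D.cube _ hQ
  · have := D.act_mul h2 hact
    rwa [show lin (1, 0) (0, 1) ((2, 0) : V3) = (2, 0) from rfl,
      show lin (1, 0) (0, 1) ((0, 2) : V3) = (0, 2) from rfl] at this

omit [Finite G] in
include D in
/-- The inverting involution inverts every point. -/
theorem inverts {t : G} (ht : Act z x t (2, 0) (0, 2)) (v : V3) : t * pt z x v * t⁻¹ = (pt z x v)⁻¹ := by
  rw [D.act_apply ht v]
  refine eq_inv_of_mul_eq_one_left ?_
  rw [← D.pt_add, show lin (2, 0) (0, 2) v + v = 0 by revert v; decide, pt_zero]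

include D in
/-- Every invertible matrix lifts to the centraliser of the inverting involution. -/
theorem exists_lift {t : G} (htA : t ∈ A) (ht2 : t * t = 1) (ht : Act z x t (2, 0) (0, 2)) (a b : V3)
    (hd : det a b ≠ 0) : ∃ g ∈ A, g * t = t * g ∧ Act z x g a b := by
  obtain ⟨g, hg, hact⟩ := D.exists_act a b hd
  have htA' : g * t * g⁻¹ ∈ A := mul_mem (mul_mem hg htA) (inv_mem hg)
  have hw : t * (g * t * g⁻¹) ∈ Q := by
    refine D.self _ (mul_mem htA htA') fun y hy => ?_
    obtain ⟨v, rfl⟩ := D.exists_pt hy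
    have hy' : g⁻¹ * pt z x v * g ∈ Q := by simpa using D.norm _ (inv_mem hg) _ hy
    obtain ⟨v', hv'⟩ := D.exists_pt hy'
    have h1 := D.inverts ht v'
    rw [← hv'] at h1
    have h2 := D.inverts ht v
    have h3 : g * t * g⁻¹ * pt z x v * (g * t * g⁻¹)⁻¹ = (pt z x v)⁻¹ := by
      calc g * t * g⁻¹ * pt z x v * (g * t * g⁻¹)⁻¹
          = g * (t * (g⁻¹ * pt z x v * g) * t⁻¹) * g⁻¹ := by group
        _ = g * (g⁻¹ * pt z x v * g)⁻¹ * g⁻¹ := by rw [h1]
        _ = _ := by group
    have h4 : t * (g * t * g⁻¹) * pt z x v * (t * (g * t * g⁻¹))⁻¹ = pt z x v := by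
      calc t * (g * t * g⁻¹) * pt z x v * (t * (g * t * g⁻¹))⁻¹
          = t * (g * t * g⁻¹ * pt z x v * (g * t * g⁻¹)⁻¹) * t⁻¹ := by group
        _ = (t * pt z x v * t⁻¹)⁻¹ := by rw [h3]; group
        _ = pt z x v := by rw [h2, inv_inv]
    exact mul_inv_eq_iff_eq_mul.1 h4
  obtain ⟨v, hv⟩ := D.exists_pt hw
  have hinv := D.inverts ht v
  have hti : t⁻¹ = t := inv_eq_of_mul_eq_one_right ht2
  have hgt : g * t * g⁻¹ = t * pt z x v := by
    rw [← hv, ← mul_assoc t t, ht2, one_mul]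
  have hone := D.act_one_of_mem (inv_mem (D.pt_mem v))
  refine ⟨(pt z x v)⁻¹ * g, mul_mem (inv_mem (D.qa (D.pt_mem v))) hg, ?_, ?_⟩
  · have hsq : pt z x v * pt z x v = (pt z x v)⁻¹ := eq_inv_of_mul_eq_one_left (by
      rw [← D.cube _ (D.pt_mem v)]; simp only [pow_succ, pow_zero, one_mul])
    rw [← mul_inv_eq_iff_eq_mul]
    calc (pt z x v)⁻¹ * g * t * ((pt z x v)⁻¹ * g)⁻¹ = (pt z x v)⁻¹ * (g * t * g⁻¹) * pt z x v := by group
      _ = (pt z x v)⁻¹ * t * (pt z x v * pt z x v) := by rw [hgt]; group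
      _ = (pt z x v)⁻¹ * (t * (pt z x v)⁻¹ * t⁻¹) * t := by rw [hsq]; group
      _ = (pt z x v)⁻¹ * (t * pt z x v * t⁻¹)⁻¹ * t := by group
      _ = t := by rw [hinv, inv_inv, inv_mul_cancel, one_mul]
  · have := D.act_mul hone hact
    rwa [show ∀ c : V3, lin (1, 0) (0, 1) c = c by decide,
      show ∀ c : V3, lin (1, 0) (0, 1) c = c by decide] at this

include D in
/-- Lifts are unique. -/
theorem lift_unique {t : G} (ht2 : t * t = 1) (ht : Act z x t (2, 0) (0, 2)) {g k : G} {a b : V3}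
    (hg : g ∈ A) (hk : k ∈ A) (hgt : g * t = t * g) (hkt : k * t = t * k) (h : Act z x g a b)
    (h' : Act z x k a b) : g = k := by
  obtain ⟨v, hv⟩ := D.exists_pt (D.eq_mul_of_act hg hk h h')
  have hinv := D.inverts ht v
  have hkt' : k⁻¹ * t = t * k⁻¹ := (Commute.inv_left (show Commute k t from hkt)).eq
  have hc : t * pt z x v * t⁻¹ = pt z x v := by
    rw [← hv, mul_inv_eq_iff_eq_mul]
    calc t * (k⁻¹ * g) = k⁻¹ * t * g := by rw [hkt', mul_assoc]
      _ = k⁻¹ * g * t := by rw [mul_assoc, ← hgt, mul_assoc]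
  rw [hinv] at hc
  have hsq : pt z x v * pt z x v = 1 := by
    nth_rw 1 [← hc]
    exact inv_mul_cancel _
  have h1 : pt z x v = 1 := by
    have := D.cube _ (D.pt_mem v)
    rwa [pow_succ, pow_two, hsq, one_mul] at this
  rw [← hv, inv_mul_eq_one] at h1
  exact h1.symm

end Crd

end Cfsg.Agent.M12Amal
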