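import Cfsg.Agent.M12Amal.Setup
import Cfsg.Agent.M12Amal.Good
import Cfsg.Agent.PSp43Amalgam.Toolkit

/-!
# The centraliser of `t`

`C(t)/⟨t⟩` has a self-centralising element of order three, so its largest normal `3'`-subgroup has
quotient `S₃` or `A₅` (`PSL(2,7)` is impossible because `q` has order four).
-/

set_option autoImplicit false

namespace Cfsg.Agent.M12Amal

open Subgroup
open SelfCentThree (Sc Inv)

universe w

variable {G : Type w} [Group G] [Finite G]

/-- `e` lies in a normal subgroup of order prime to three of the centraliser of `a`. -/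
def InN (a e : G) : Prop :=
  ∃ M : Subgroup G, M ≤ centralizer ({a} : Set G) ∧ centralizer ({a} : Set G) ≤ normalizer (M : Set G) ∧
    ¬ 3 ∣ Nat.card M ∧ e ∈ M

theorem InN.conj {a e : G} (h : InN a e) (g : G) : InN (g * a * g⁻¹) (g * e * g⁻¹) := by
  obtain ⟨M, h1, h2, h3, h4⟩ := h
  refine ⟨M.map (MulAut.conj g).toMonoidHom, ?_, ?_, ?_, ⟨e, h4, rfl⟩⟩
  · rintro _ ⟨m, hm, rfl⟩
    have hc := mem_centralizer_singleton_iff.1 (h1 hm)
    rw [mem_centralizer_singleton_iff]
    show g * m * g⁻¹ * (g * a * g⁻¹) = g * a * g⁻¹ * (g * m * g⁻¹)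
    calc g * m * g⁻¹ * (g * a * g⁻¹) = g * (m * a) * g⁻¹ := by group
      _ = _ := by rw [hc]; group
  · intro k hk
    rw [mem_centralizer_singleton_iff] at hk
    have hk' : g⁻¹ * k * g ∈ normalizer (M : Set G) := h2 (by
      rw [mem_centralizer_singleton_iff]
      calc g⁻¹ * k * g * a = g⁻¹ * (k * (g * a * g⁻¹)) * g := by group
        _ = a * (g⁻¹ * k * g) := by rw [hk]; group)
    have := M.le_normalizer_map (MulAut.conj g).toMonoidHom ⟨_, hk', rfl⟩
    simpa [mul_assoc] using this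
  · rwa [card_map_of_injective (MulAut.conj g).injective]

theorem InN.mem_cent {a e : G} (h : InN a e) : e * a = a * e := by
  obtain ⟨M, h1, -, -, h4⟩ := h
  exact mem_centralizer_singleton_iff.1 (h1 h4)

instance zpowers_subgroupOf_normal (t : G) :
    ((zpowers t).subgroupOf (centralizer ({t} : Set G))).Normal where
  conj_mem n hn g := by
    rw [mem_subgroupOf] at hn ⊢
    obtain ⟨i, hi⟩ := mem_zpowers_iff.1 hn
    refine mem_zpowers_iff.2 ⟨i, ?_⟩
    have hc : Commute (g : G) t := mem_centralizer_singleton_iff.1 g.2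
    show t ^ i = (g : G) * n * (g : G)⁻¹
    rw [← hi, (hc.zpow_right i).eq, mul_inv_cancel_right]

/-- The centraliser of `t` modulo `t`. -/
abbrev Kb (t : G) := ↥(centralizer ({t} : Set G)) ⧸ (zpowers t).subgroupOf (centralizer ({t} : Set G))

omit [Finite G] in
theorem mem_zpowers_invol {t g : G} (ht : t * t = 1) (h : g ∈ zpowers t) : g = 1 ∨ g = t := by
  obtain ⟨i, rfl⟩ := mem_zpowers_iff.1 h
  have h2 : t ^ (2 : ℤ) = 1 := by rw [show (2 : ℤ) = 1 + 1 from rfl, zpow_add, zpow_one, ht]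
  rcases Int.even_or_odd i with ⟨k, hk⟩ | ⟨k, hk⟩
  · left; rw [hk, ← two_mul, zpow_mul, h2, one_zpow]
  · right; rw [hk, zpow_add, zpow_mul, h2, one_zpow, one_mul, zpow_one]

open SelfCentThree in
/-- The shape of a group with a self-centralising element of order three, with the elementary
abelian kernel in the `A₅` case. -/
theorem shape {Y : Type w} [Group Y] [Finite Y] {x : Y} (h : Sc x) :
    (∃ (N : Subgroup Y) (_ : N.Normal), ¬ 3 ∣ Nat.card N ∧
      (∀ N' : Subgroup Y, N'.Normal → ¬ 3 ∣ Nat.card N' → N' ≤ N) ∧ Group.IsNilpotent N ∧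
      (Nat.card (Y ⧸ N) = 3 ∨ Nonempty (Y ⧸ N ≃* Equiv.Perm (Fin 3)))) ∨
    (∃ (N : Subgroup Y) (_ : N.Normal), ¬ 3 ∣ Nat.card N ∧
      (∀ N' : Subgroup Y, N'.Normal → ¬ 3 ∣ Nat.card N' → N' ≤ N) ∧ (∀ a ∈ N, ∀ b ∈ N, a * b = b * a) ∧
      (∀ a ∈ N, a * a = 1) ∧ Nonempty (Y ⧸ N ≃* alternatingGroup (Fin 5))) ∨
    Nonempty (Y ≃* Matrix.ProjectiveSpecialLinearGroup (Fin 2) (ZMod 7)) := by
  have hmax : ∀ (N : Subgroup Y) (_ : N.Normal),
      (∀ M : Subgroup (Y ⧸ N), M.Normal → ¬ 3 ∣ Nat.card M → Nat.card M % 3 = 1 → M = ⊥) →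
      ∀ N' : Subgroup Y, N'.Normal → ¬ 3 ∣ Nat.card N' → N' ≤ N := by
    intro N hN hq N' hN' h3
    have := hq _ (hN'.map _ (QuotientGroup.mk'_surjective N)) (fun hd => h3 (hd.trans (card_map_dvd ..)))
      (Inv.map_card_mod h ⟨by rw [normalizer_eq_top]; trivial, h3⟩ (QuotientGroup.mk' N))
    rwa [Subgroup.map_eq_bot_iff, QuotientGroup.ker_mk'] at this
  rcases concl _ Y rfl x h with ⟨N, hN, hnil, hcop, hq⟩ | ⟨N, hN, hc, hsq, he⟩ | he
  · have h3 : ¬ 3 ∣ Nat.card N := fun hd =>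
      Nat.prime_three.one_lt.ne' (Nat.Coprime.eq_one_of_dvd hcop.symm hd)
    refine Or.inl ⟨N, hN, h3, hmax N hN (fun M _ hM3 hM1 => card_eq_one.1 ?_), hnil, hq⟩
    have hd := card_subgroup_dvd_card M
    rcases hq with e | ⟨⟨e⟩⟩
    · rw [e] at hd
      have := Nat.le_of_dvd (by norm_num) hd
      interval_cases hk : Nat.card M <;> omega
    · rw [Nat.card_congr e.toEquiv, Nat.card_perm, Nat.card_fin,
        show Nat.factorial 3 = 6 from rfl] at hd
      have := Nat.le_of_dvd (by norm_num) hd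
      interval_cases hk : Nat.card M <;> omega
  · have h3 : ¬ 3 ∣ Nat.card N := fun hd => by
      have : Fact (Nat.Prime 3) := ⟨Nat.prime_three⟩
      obtain ⟨⟨v, hv⟩, hvo⟩ := exists_prime_orderOf_dvd_card' 3 hd
      rw [orderOf_mk] at hvo
      have := orderOf_dvd_of_pow_eq_one (hsq v hv)
      rw [hvo] at this
      norm_num at this
    refine Or.inr (Or.inl ⟨N, hN, h3, hmax N hN (fun M hM hM3 _ => ?_), fun a ha b hb =>
      congrArg Subtype.val (hc.is_comm.comm ⟨a, ha⟩ ⟨b, hb⟩), fun a ha => by rw [← sq]; exact hsq a ha, he⟩)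
    obtain ⟨e⟩ := he
    have : IsSimpleGroup (alternatingGroup (Fin 5)) := alternatingGroup.isSimpleGroup (by rw [Nat.card_fin])
    have : Nontrivial (Y ⧸ N) := e.toEquiv.nontrivial
    have : IsSimpleGroup (Y ⧸ N) := e.isSimpleGroup
    exact hM.eq_bot_or_eq_top.resolve_right fun e1 => hM3 (by
      rw [e1, card_top, Nat.card_congr e.toEquiv, card_alt_five]; norm_num)
  · exact Or.inr (Or.inr he)

/-- The facts about the largest normal `3'`-subgroup `N` of the centraliser of `t`. -/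
structure Kn (y t q : G) (N : Subgroup G) : Prop where
  le : N ≤ centralizer ({t} : Set G)
  norm : centralizer ({t} : Set G) ≤ normalizer (N : Set G)
  mem_iff : ∀ e, InN t e ↔ e ∈ N
  fix : ∀ e ∈ N, e * y = y * e → e = 1 ∨ e = t
  tN : t ∈ N
  qN : q ∈ N
  invol : ∀ a b : G, a * t = t * a → b * t = t * b → a * a ∈ N → a ∉ N → b * b ∈ N → b ∉ N →
    ∃ k : G, k * t = t * k ∧ k * a * k⁻¹ * b⁻¹ ∈ N
  sqr : ∀ a b : G, a * t = t * a → b * t = t * b → a * a ∈ N → a ∉ N → a * b = b * a → b * b ∈ N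
  cases : (Group.IsNilpotent ((N.subgroupOf (centralizer ({t} : Set G))).map
        (QuotientGroup.mk' ((zpowers t).subgroupOf (centralizer ({t} : Set G))))) ∧
      Nat.card (centralizer ({t} : Set G)) = 6 * Nat.card N ∧
      ∀ a b : G, a * t = t * a → b * t = t * b → a * a ∈ N → a ∉ N → b ∉ N → a * b = b * a → a * b ∈ N) ∨
    ((∀ e ∈ N, e * e ∈ zpowers t) ∧ (∀ e ∈ N, ∀ f ∈ N, e * f * e⁻¹ * f⁻¹ ∈ zpowers t) ∧
      ∃ φ : centralizer ({t} : Set G) →* alternatingGroup (Fin 5),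
        Function.Surjective φ ∧ ∀ g, φ g = 1 ↔ (g : G) ∈ N)

theorem perm_three_outside : ∀ a b : Equiv.Perm (Fin 3),
    a * a = 1 → a ≠ 1 → b ≠ 1 → a * b = b * a → a * b = 1 := by decide +kernel

namespace Cfg

variable {z x y t u q : G} (H : Cfg z x y t u q)

include H in
/-- The common centraliser of `t` and `y`. -/
theorem cent_ty {g : G} (hgt : g * t = t * g) (hgy : g * y = y * g) : ∃ i j : ℕ, g = y ^ i * t ^ j := by
  obtain ⟨b, hbz, hbu⟩ := H.zy
  obtain ⟨i, j, hij⟩ := H.cent (b⁻¹ * g * b) (by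
      calc b⁻¹ * g * b * u = b⁻¹ * (g * (b * u * b⁻¹)) * b := by group
        _ = u * (b⁻¹ * g * b) := by rw [hbu, hgt, ← hbu]; group) (by
      calc b⁻¹ * g * b * z = b⁻¹ * (g * (b * z * b⁻¹)) * b := by group
        _ = z * (b⁻¹ * g * b) := by rw [hbz, hgy, ← hbz]; group)
  refine ⟨i, j, ?_⟩
  rw [← hbz, ← hbu, conj_pow, conj_pow]
  calc g = b * (b⁻¹ * g * b) * b⁻¹ := by group
    _ = _ := by rw [hij]; group

include H in
theorem y_ne : y ≠ t := fun e => H.y1 (by
  have h := H.y3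
  rwa [pow_succ, pow_two, e, H.tt, one_mul, ← e] at h)

include H in
/-- An element commuting with `y` up to `t` commutes with it. -/
theorem comm_y_of_mod {g : G} (hgt : g * t = t * g) (h : g * y * g⁻¹ * y⁻¹ ∈ zpowers t) :
    g * y = y * g := by
  rcases mem_zpowers_invol H.tt h with h | h
  · rwa [mul_inv_eq_one, mul_inv_eq_iff_eq_mul] at h
  · exfalso
    rw [mul_inv_eq_iff_eq_mul] at h
    have h3 : (g * y * g⁻¹) ^ 3 = 1 := by rw [conj_pow, H.y3]; group
    rw [h, (show Commute t y from H.yt.symm).mul_pow, H.y3, mul_one, pow_succ, pow_two, H.tt, one_mul] at h3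
    exact H.t1 h3

include H in
theorem sc : ∀ (hy : y ∈ centralizer ({t} : Set G)),
    Sc (QuotientGroup.mk' ((zpowers t).subgroupOf (centralizer ({t} : Set G))) ⟨y, hy⟩) := by
  intro hy
  refine ⟨?_, ?_, ?_⟩
  · rw [← map_pow, show (⟨y, hy⟩ : centralizer ({t} : Set G)) ^ 3 = 1 from Subtype.ext H.y3, map_one]
  · intro h
    rw [QuotientGroup.mk'_apply, QuotientGroup.eq_one_iff, mem_subgroupOf] at h
    rcases mem_zpowers_invol H.tt h with h | h
    · exact H.y1 h
    · exact H.y_ne h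
  · refine le_antisymm (fun c hc => ?_) (zpowers_le.2 (mem_centralizer_singleton_iff.2 rfl))
    obtain ⟨g, rfl⟩ := QuotientGroup.mk'_surjective _ c
    rw [mem_centralizer_singleton_iff, ← map_mul, ← map_mul] at hc
    have hgt := mem_centralizer_singleton_iff.1 g.2
    have h1 : (g : G) * y * (g : G)⁻¹ * y⁻¹ ∈ zpowers t := by
      have h2 : QuotientGroup.mk' ((zpowers t).subgroupOf (centralizer ({t} : Set G)))
          (g * ⟨y, hy⟩ * g⁻¹ * (⟨y, hy⟩ : centralizer ({t} : Set G))⁻¹) = 1 := by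
        rw [map_mul, map_mul, hc, map_inv, map_inv, map_mul]; group
      rw [QuotientGroup.mk'_apply, QuotientGroup.eq_one_iff, mem_subgroupOf] at h2
      exact h2
    obtain ⟨i, j, hij⟩ := H.cent_ty hgt (H.comm_y_of_mod hgt h1)
    refine mem_zpowers_iff.2 ⟨i, ?_⟩
    rw [zpow_natCast, ← map_pow, QuotientGroup.mk'_apply, QuotientGroup.mk'_apply, QuotientGroup.eq,
      mem_subgroupOf]
    show (y ^ i)⁻¹ * (g : G) ∈ zpowers t
    rw [hij, inv_mul_cancel_left]
    exact pow_mem (mem_zpowers t) j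

include H in
/-- The largest normal `3'`-subgroup of the centraliser of `t`. -/
theorem exists_kn : ∃ N : Subgroup G, Kn y t q N := by
  obtain ⟨C, hC⟩ : ∃ C, C = centralizer ({t} : Set G) := ⟨_, rfl⟩
  have hyC : y ∈ centralizer ({t} : Set G) := mem_centralizer_singleton_iff.2 H.yt
  have huC : u ∈ centralizer ({t} : Set G) := mem_centralizer_singleton_iff.2 H.ut
  have hqC : q ∈ centralizer ({t} : Set G) := mem_centralizer_singleton_iff.2 (by rw [← H.qq, mul_assoc])
  have hsc := H.sc hyC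
  obtain ⟨π, hπ⟩ : ∃ π, π = QuotientGroup.mk' ((zpowers t).subgroupOf (centralizer ({t} : Set G))) :=
    ⟨_, rfl⟩
  have hπs : Function.Surjective π := hπ ▸ QuotientGroup.mk'_surjective _
  have hπ1 : ∀ g, π g = 1 ↔ (g : G) ∈ zpowers t := fun g => by
    rw [hπ, QuotientGroup.mk'_apply, QuotientGroup.eq_one_iff, mem_subgroupOf]
  rw [← hπ] at hsc
  obtain ⟨Y, hY⟩ : ∃ Y : centralizer ({t} : Set G), (Y : G) = y := ⟨⟨y, hyC⟩, rfl⟩
  obtain ⟨U, hU⟩ : ∃ U : centralizer ({t} : Set G), (U : G) = u := ⟨⟨u, huC⟩, rfl⟩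
  obtain ⟨R, hR⟩ : ∃ R : centralizer ({t} : Set G), (R : G) = q := ⟨⟨q, hqC⟩, rfl⟩
  rw [show (⟨y, hyC⟩ : centralizer ({t} : Set G)) = Y from Subtype.ext hY.symm] at hsc
  have hqsq : π (R * R) = 1 := (hπ1 _).2 (by rw [coe_mul, hR, H.qq]; exact mem_zpowers t)
  -- general construction from a normal `3'`-subgroup with a good quotient
  have main : ∀ (N' : Subgroup (Kb t)) (_ : N'.Normal), ¬ 3 ∣ Nat.card N' →
      (∀ M : Subgroup (Kb t), M.Normal → ¬ 3 ∣ Nat.card M → M ≤ N') →
      ∀ (F : Type) [Group F] (e : Kb t ⧸ N' ≃* F), Good F →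
      ∃ N : Subgroup G, N ≤ centralizer ({t} : Set G) ∧
        N.subgroupOf (centralizer ({t} : Set G)) = N'.comap π ∧
        centralizer ({t} : Set G) ≤ normalizer (N : Set G) ∧ (∀ e, InN t e ↔ e ∈ N) ∧
        (∀ e ∈ N, e * y = y * e → e = 1 ∨ e = t) ∧ t ∈ N ∧ q ∈ N ∧
        (∀ a b : G, a * t = t * a → b * t = t * b → a * a ∈ N → a ∉ N → b * b ∈ N → b ∉ N →
          ∃ k : G, k * t = t * k ∧ k * a * k⁻¹ * b⁻¹ ∈ N) ∧
        (∀ a b : G, a * t = t * a → b * t = t * b → a * a ∈ N → a ∉ N → a * b = b * a → b * b ∈ N) ∧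
        ∃ φ : centralizer ({t} : Set G) →* F, Function.Surjective φ ∧ ∀ g, φ g = 1 ↔ (g : G) ∈ N := by
    intro N' hN' h3 hmax F _ e hF
    obtain ⟨φ, hφ⟩ : ∃ φ : centralizer ({t} : Set G) →* F,
        φ = e.toMonoidHom.comp ((QuotientGroup.mk' N').comp π) := ⟨_, rfl⟩
    have hφs : Function.Surjective φ := by
      rw [hφ]; exact e.surjective.comp ((QuotientGroup.mk'_surjective N').comp hπs)
    have hφ1 : ∀ g, φ g = 1 ↔ π g ∈ N' := fun g => by
      rw [hφ]
      simp only [MonoidHom.coe_comp, Function.comp_apply, MulEquiv.coe_toMonoidHom,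
        map_eq_one_iff e e.injective, QuotientGroup.mk'_apply, QuotientGroup.eq_one_iff]
    obtain ⟨N, hN⟩ : ∃ N, N = (N'.comap π).map (centralizer ({t} : Set G)).subtype := ⟨_, rfl⟩
    have hle : N ≤ centralizer ({t} : Set G) := hN ▸ map_subtype_le _
    have hsub : N.subgroupOf (centralizer ({t} : Set G)) = N'.comap π := by
      rw [hN, subgroupOf, comap_map_eq_self_of_injective (subtype_injective _)]
    have hmem : ∀ g : centralizer ({t} : Set G), (g : G) ∈ N ↔ φ g = 1 := fun g => by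
      rw [hφ1, ← mem_subgroupOf, hsub, mem_comap]
    have htN : t ∈ N := by
      have := (hmem ⟨t, mem_centralizer_singleton_iff.2 rfl⟩).2
        ((hφ1 _).2 (by rw [(hπ1 _).2 (mem_zpowers t)]; exact one_mem _))
      exact this
    have hnorm : centralizer ({t} : Set G) ≤ normalizer (N : Set G) := fun g hg => by
      rw [hN]
      have hn : (N'.comap π).Normal := hN'.comap π
      exact (N'.comap π).le_normalizer_map _ ⟨⟨g, hg⟩, by
        rw [normalizer_eq_top_iff.2 hn]; trivial, rfl⟩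
    have h3N : ¬ 3 ∣ Nat.card N := by
      have hc : Nat.card (N'.comap π) = 2 * Nat.card N' := by
        have hk : Nat.card π.ker = 2 := by
          rw [hπ, QuotientGroup.ker_mk', Nat.card_congr (subgroupOfEquivOfLe (zpowers_le.2
            (mem_centralizer_singleton_iff.2 rfl))).toEquiv, Nat.card_zpowers]
          exact orderOf_eq_prime (by rw [pow_two]; exact H.tt) H.t1
        rw [← card_mul_index ((π.ker).subgroupOf (N'.comap π)),
          Nat.card_congr (subgroupOfEquivOfLe (ker_le_comap π N')).toEquiv, hk, ← relIndex,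
          ← MonoidHom.comap_bot, relIndex_comap, map_comap_eq_self_of_surjective hπs, relIndex_bot_left]
      rw [hN, card_map_of_injective (subtype_injective _), hc]
      intro hd
      rcases Nat.prime_three.dvd_mul.1 hd with h | h
      · norm_num at h
      · exact h3 h
    have hinv : ∀ g, g ∈ N → g * t = t * g := fun g hg => mem_centralizer_singleton_iff.1 (hle hg)
    have hfix : ∀ g ∈ N, g * y = y * g → g = 1 ∨ g = t := by
      intro g hg hgy
      obtain ⟨i, j, hij⟩ := H.cent_ty (hinv g hg) hgy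
      have hyi : y ^ i ∈ N := by
        have := mul_mem hg (inv_mem (pow_mem htN j))
        rwa [hij, mul_inv_cancel_right] at this
      have h1 : y ^ i = 1 := by
        by_contra hne
        have ho : orderOf (y ^ i) = 3 := orderOf_eq_prime (hp := ⟨Nat.prime_three⟩)
          (by rw [← pow_mul, mul_comm, pow_mul, H.y3, one_pow]) hne
        exact h3N (ho ▸ (orderOf_mk _ hyi ▸ orderOf_dvd_natCard _))
      rw [hij, h1, one_mul]
      exact mem_zpowers_invol H.tt (pow_mem (mem_zpowers t) j)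
    have hyN : ¬ φ Y = 1 := fun h => by
      have := hfix y (by rw [← hY]; exact (hmem Y).2 h) rfl
      exact this.elim H.y1 H.y_ne
    have hy3 : φ Y * φ Y * φ Y = 1 := by
      rw [← map_mul, ← map_mul, show Y * Y * Y = 1 from Subtype.ext (by
        rw [coe_mul, coe_mul, hY, OneMemClass.coe_one, ← H.y3, pow_succ, pow_two]), map_one]
    have hyi : Y⁻¹ = Y * Y := inv_eq_of_mul_eq_one_right (Subtype.ext (by
      rw [coe_mul, coe_mul, hY, OneMemClass.coe_one, ← H.y3, pow_succ, pow_two, mul_assoc]))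
    have hUU : U * U = 1 := Subtype.ext (by rw [coe_mul, hU]; exact H.uu)
    have hU1 : φ U ≠ 1 := by
      intro h
      have e1 : U * Y * U⁻¹ = Y⁻¹ := Subtype.ext (by simp only [coe_mul, coe_inv, hU, hY]; exact H.uy)
      have e2 := congrArg φ e1
      simp only [map_mul, map_inv, h, one_mul, inv_one, mul_one] at e2
      refine hyN ?_
      have e3 : φ Y * φ Y = 1 := by nth_rw 1 [e2]; exact inv_mul_cancel _
      rwa [e3, one_mul] at hy3
    have hqN : q ∈ N := by
      rw [← hR, hmem]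
      have hRR : φ R * φ R = 1 := by rw [← map_mul, hφ1, hqsq]; exact one_mem _
      refine hF.kill (φ U) (φ R) (φ Y) (by rw [← map_mul, hUU, map_one]) hU1 hy3 hyN ?_ hRR ?_ ?_
      · rw [← map_mul, ← map_mul, ← map_mul, ← hyi]
        congr 1
        refine Subtype.ext ?_
        simp only [coe_mul, coe_inv, hU, hY]
        rw [← H.uy, show u⁻¹ = u from inv_eq_of_mul_eq_one_right H.uu]
      · have e1 : U * R * U = R⁻¹ := Subtype.ext (by simp only [coe_mul, coe_inv, hU, hR]; exact H.uq)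
        have e2 := congrArg φ e1
        rw [map_mul, map_mul, map_inv, inv_eq_of_mul_eq_one_right hRR] at e2
        calc φ U * φ R = φ U * φ R * (φ U * φ U) := by rw [← map_mul φ U U, hUU, map_one, mul_one]
          _ = φ R * φ U := by rw [← mul_assoc, e2]
      · rw [← map_mul, ← map_mul, ← map_mul, ← map_mul, ← map_mul, ← map_mul, ← map_mul, ← hmem]
        simp only [coe_mul, hR, hY]
        have hyinv : y⁻¹ = y * y := by rw [← hY, ← coe_mul, ← coe_inv, hyi]
        rw [show q * (y * q * (y * y)) * (y * y * q * y) = t by rw [← hyinv]; exact H.qyy]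
        exact htN
    refine ⟨N, hle, hsub, hnorm, fun g => ⟨?_, fun hg => ⟨N, hle, hnorm, h3N, hg⟩⟩, hfix, htN, hqN,
      ?_, ?_, φ, hφs, fun g => (hmem g).symm⟩
    · rintro ⟨M, hM1, hM2, hM3, hgM⟩
      have hn : ((M.subgroupOf (centralizer ({t} : Set G))).map π).Normal :=
        (normal_subgroupOf_of_le_normalizer hM2).map _ hπs
      have hle' := hmax _ hn fun hd => hM3 (hd.trans ((card_map_dvd ..).trans
        (by rw [Nat.card_congr (subgroupOfEquivOfLe hM1).toEquiv])))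
      have := hle' (x := π ⟨g, hM1 hgM⟩) ⟨⟨g, hM1 hgM⟩, hgM, rfl⟩
      exact (hmem ⟨g, hM1 hgM⟩).2 ((hφ1 _).2 this)
    · intro a b ha hb ha2 ha1 hb2 hb1
      obtain ⟨a', rfl⟩ : ∃ a' : centralizer ({t} : Set G), (a' : G) = a :=
        ⟨⟨a, mem_centralizer_singleton_iff.2 ha⟩, rfl⟩
      obtain ⟨b', rfl⟩ : ∃ b' : centralizer ({t} : Set G), (b' : G) = b :=
        ⟨⟨b, mem_centralizer_singleton_iff.2 hb⟩, rfl⟩
      rw [← coe_mul, hmem, map_mul] at ha2 hb2
      rw [hmem] at ha1 hb1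
      obtain ⟨k, hk⟩ := hF.conj _ _ ha2 ha1 hb2 hb1
      obtain ⟨k', rfl⟩ := hφs k
      refine ⟨k', mem_centralizer_singleton_iff.1 k'.2, ?_⟩
      rw [← coe_inv, ← coe_inv, ← coe_mul, ← coe_mul, ← coe_mul, hmem]
      simp only [map_mul, map_inv, hk, mul_inv_cancel]
    · intro a b ha hb ha2 ha1 hab
      obtain ⟨a', rfl⟩ : ∃ a' : centralizer ({t} : Set G), (a' : G) = a :=
        ⟨⟨a, mem_centralizer_singleton_iff.2 ha⟩, rfl⟩
      obtain ⟨b', rfl⟩ : ∃ b' : centralizer ({t} : Set G), (b' : G) = b :=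
        ⟨⟨b, mem_centralizer_singleton_iff.2 hb⟩, rfl⟩
      rw [← coe_mul, hmem, map_mul] at ha2
      rw [hmem] at ha1
      rw [← coe_mul, hmem, map_mul]
      exact hF.sqr _ _ ha2 ha1 (by rw [← map_mul, ← map_mul]; exact congrArg φ (Subtype.ext hab))
  rcases shape hsc with ⟨N', hN', h3, hmax, hnil, hq⟩ | ⟨N', hN', h3, hmax, hcomm, hsq, ⟨e⟩⟩ | he
  · have hU2 : ¬ Nat.card (Kb t ⧸ N') = 3 := by
      intro hc
      have hn : π Y ∉ N' := fun h => h3 (by
        have := orderOf_dvd_natCard (⟨π Y, h⟩ : N')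
        rwa [orderOf_mk, hsc.orderOf] at this)
      have hcop : ∀ c : Kb t ⧸ N', c * c = 1 → c = 1 := fun c hcc => by
        have h1 := orderOf_dvd_of_pow_eq_one (show c ^ 2 = 1 by rw [sq]; exact hcc)
        have h2 := orderOf_dvd_natCard c
        rw [hc] at h2
        exact orderOf_eq_one_iff.1 (Nat.dvd_one.1 (Nat.dvd_gcd h1 h2))
      have hUU : U * U = 1 := Subtype.ext (by rw [coe_mul, hU]; exact H.uu)
      have h1 := hcop (QuotientGroup.mk' N' (π U)) (by rw [← map_mul, ← map_mul, hUU, map_one, map_one])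
      have e1 : U * Y * U⁻¹ = Y⁻¹ := Subtype.ext (by simp only [coe_mul, coe_inv, hU, hY]; exact H.uy)
      have e2 := congrArg (fun g => QuotientGroup.mk' N' (π g)) e1
      simp only [map_mul, map_inv, h1, one_mul, inv_one, mul_one] at e2
      have h4 := hcop (QuotientGroup.mk' N' (π Y)) (by nth_rw 1 [e2]; exact inv_mul_cancel _)
      rw [QuotientGroup.mk'_apply, QuotientGroup.eq_one_iff] at h4
      exact hn h4
    obtain ⟨e⟩ := hq.resolve_left hU2
    obtain ⟨N, hle, hsub, hnorm, hiff, hfix, htN, hqN, hinv, hsqr, φ, hφs, hφk⟩ :=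
      main N' hN' h3 hmax _ e good_perm_three
    refine ⟨N, hle, hnorm, hiff, hfix, htN, hqN, hinv, hsqr, Or.inl ⟨?_, ?_, ?_⟩⟩
    · rw [hsub, ← hπ, map_comap_eq_self_of_surjective hπs]; exact hnil
    · have hk : φ.ker = N.subgroupOf (centralizer ({t} : Set G)) := by
        ext g; rw [MonoidHom.mem_ker, mem_subgroupOf, hφk]
      rw [← φ.ker.card_mul_index, index_ker, MonoidHom.range_eq_top.2 hφs, card_top, hk,
        Nat.card_congr (subgroupOfEquivOfLe hle).toEquiv, Nat.card_perm, Nat.card_fin,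
        show Nat.factorial 3 = 6 from rfl, mul_comm]
    · intro a b ha hb ha2 ha1 hb1 hab
      obtain ⟨a', rfl⟩ : ∃ a' : centralizer ({t} : Set G), (a' : G) = a :=
        ⟨⟨a, mem_centralizer_singleton_iff.2 ha⟩, rfl⟩
      obtain ⟨b', rfl⟩ : ∃ b' : centralizer ({t} : Set G), (b' : G) = b :=
        ⟨⟨b, mem_centralizer_singleton_iff.2 hb⟩, rfl⟩
      rw [← coe_mul, ← hφk, map_mul] at ha2
      rw [← hφk] at ha1 hb1
      rw [← coe_mul, ← hφk, map_mul]
      exact perm_three_outside _ _ ha2 ha1 hb1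
        (by rw [← map_mul, ← map_mul]; exact congrArg φ (Subtype.ext hab))
  · obtain ⟨N, hle, hsub, hnorm, hiff, hfix, htN, hqN, hinv, hsqr, φ, hφs, hφk⟩ :=
      main N' hN' h3 hmax _ e good_alt_five
    have hin : ∀ a (ha : a ∈ N), π ⟨a, hle ha⟩ ∈ N' := fun a ha => by
      rw [← mem_comap, ← hsub, mem_subgroupOf]; exact ha
    refine ⟨N, hle, hnorm, hiff, hfix, htN, hqN, hinv, hsqr, Or.inr ⟨fun a ha => ?_, fun a ha b hb => ?_,
      φ, hφs, hφk⟩⟩
    · exact (hπ1 (⟨a, hle ha⟩ * ⟨a, hle ha⟩)).1 (by rw [map_mul]; exact hsq _ (hin a ha))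
    · have := (hπ1 (⟨a, hle ha⟩ * ⟨b, hle hb⟩ * (⟨a, hle ha⟩ : centralizer ({t} : Set G))⁻¹ *
        (⟨b, hle hb⟩ : centralizer ({t} : Set G))⁻¹)).1 (by
          simp only [map_mul, map_inv, hcomm _ (hin a ha) _ (hin b hb)]; group)
      exact this
  · exfalso
    obtain ⟨e⟩ := he
    have hne : ∀ g : centralizer ({t} : Set G), (g : G) ≠ 1 → (g : G) ≠ t → π g ≠ 1 := fun g h1 h2 h =>
      (mem_zpowers_invol H.tt ((hπ1 g).1 h)).elim h1 h2
    have hqt : q * q = 1 → False := fun h => H.t1 (H.qq.symm.trans h)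
    have hu' := hne U (by rw [hU]; exact H.u1) (by rw [hU]; intro h; exact H.tu1 (by rw [h, H.tt]))
    have hr' := hne R (by rw [hR]; intro h; exact hqt (by rw [h, one_mul]))
      (by rw [hR]; intro h; exact hqt (by rw [h, H.tt]))
    obtain ⟨c, hc⟩ := isConj_iff.1 (M11ThreeLocal.invol_isConj (q := e (π U)) (q' := e (π R))
      (by rw [← map_mul, ← map_mul, show U * U = 1 from Subtype.ext (by rw [coe_mul, hU]; exact H.uu),
        map_one, map_one]) (by simpa using hu')
      (by rw [← map_mul, ← map_mul, hqsq, map_one]) (by simpa using hr'))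
    obtain ⟨c', rfl⟩ := e.surjective c
    obtain ⟨k, rfl⟩ := hπs c'
    rw [← map_inv, ← map_inv, ← map_mul, ← map_mul, ← map_mul, ← map_mul, e.injective.eq_iff,
      ← mul_inv_eq_one, ← map_inv, ← map_mul, hπ1] at hc
    simp only [coe_mul, coe_inv, hU, hR] at hc
    have hkt := mem_centralizer_singleton_iff.1 k.2
    rcases mem_zpowers_invol H.tt hc with h | h
    · rw [mul_inv_eq_one] at h
      refine hqt ?_
      rw [← h]
      calc (k : G) * u * (k : G)⁻¹ * ((k : G) * u * (k : G)⁻¹) = (k : G) * (u * u) * (k : G)⁻¹ := by group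
        _ = 1 := by rw [H.uu]; group
    · rw [mul_inv_eq_iff_eq_mul] at h
      refine hqt ?_
      have h2 : t * q * (t * q) = 1 := by
        rw [← h]
        calc (k : G) * u * (k : G)⁻¹ * ((k : G) * u * (k : G)⁻¹) = (k : G) * (u * u) * (k : G)⁻¹ := by group
          _ = 1 := by rw [H.uu]; group
      have hqt' : q * t = t * q := by rw [← H.qq, mul_assoc]
      rwa [show t * q * (t * q) = t * (q * t) * q by group, hqt', ← mul_assoc, H.tt, one_mul] at h2

end Cfg

end Cfsg.Agent.M12Amal
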