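import Cfsg.Agent.M12Amal.SThree
import Cfsg.Agent.M12Amal.Five
import Cfsg.Agent.M12Amal.Gen
import Cfsg.Agent.Core.PCore
import Cfsg.Agent.S2916
import Cfsg.Agent.S3344
import Cfsg.Agent.Compute.Mathieu
import Cfsg.Agent.Classical.SmallSimple

/-!
# The `3²:GL(2,3)` amalgam characterisation of `M₁₂` and `PSL(3,3)`
-/

set_option autoImplicit false

namespace Cfsg.Agent.M12Amal

open Subgroup

universe w

variable {G : Type w} [Group G] [Finite G]

theorem card_gl_two_three : Nat.card (GL (Fin 2) (ZMod 3)) = 48 := by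
  haveI : Fact (Nat.Prime 3) := ⟨Nat.prime_three⟩
  rw [Matrix.card_GL_field, ZMod.card]
  decide

theorem half_of {A : Subgroup G} (e : A ⧸ pCore 3 A ≃* GL (Fin 2) (ZMod 3))
    (hO : IsMulCommutative (pCore 3 A) ∧ (∀ x ∈ pCore 3 A, x ^ 3 = 1) ∧ Nat.card (pCore 3 A) = 9 ∧
      centralizer ((pCore 3 A : Subgroup A) : Set A) = pCore 3 A) :
    Half A ((pCore 3 A).map A.subtype) := by
  obtain ⟨hc, h3, h9, hs⟩ := hO
  refine
    { qa := map_subtype_le _
      comm := ?_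
      cube := ?_
      card := by rw [card_map_of_injective A.subtype_injective, h9]
      norm := ?_
      self := ?_
      cardA := ?_ }
  · rintro _ ⟨a, ha, rfl⟩ _ ⟨b, hb, rfl⟩
    exact congrArg (fun c : pCore 3 A => ((c : A) : G)) (hc.is_comm.comm ⟨a, ha⟩ ⟨b, hb⟩)
  · rintro _ ⟨a, ha, rfl⟩
    rw [← map_pow, h3 a ha, map_one]
  · rintro g hg _ ⟨a, ha, rfl⟩
    exact ⟨⟨g, hg⟩ * a * (⟨g, hg⟩ : A)⁻¹, (Core.pCore_normal (p := 3) (G := A)).conj_mem a ha _, rfl⟩
  · intro g hg h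
    refine ⟨⟨g, hg⟩, ?_, rfl⟩
    rw [SetLike.mem_coe, ← hs, mem_centralizer_iff]
    exact fun a ha => Subtype.ext (h a ⟨a, ha, rfl⟩).symm
  · rw [← (pCore 3 A).card_mul_index, h9, index_eq_card, Nat.card_congr e.toEquiv, card_gl_two_three]

/-- A subgroup containing a Sylow three-subgroup of a half. -/
theorem half_sylow {A Q C : Subgroup G} (H : Half A Q) (hCA : C ≤ A) (hidx : ¬ 3 ∣ (C.subgroupOf A).index)
    (S : Sylow 3 C) : Nat.card S = 27 ∧ Q ≤ (S : Subgroup C).map C.subtype := by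
  haveI : Fact (Nat.Prime 3) := ⟨Nat.prime_three⟩
  have hC : Nat.card C * (C.subgroupOf A).index = 432 := by
    rw [← H.cardA, ← (C.subgroupOf A).card_mul_index, Nat.card_congr (subgroupOfEquivOfLe hCA).toEquiv]
  have h27 : 3 ^ 3 ∣ Nat.card C :=
    (Nat.Coprime.pow_left 3 (Nat.prime_three.coprime_iff_not_dvd.2 hidx)).dvd_of_dvd_mul_right
      (by rw [hC]; norm_num)
  obtain ⟨k, hk⟩ := S.2.exists_card_eq
  have hdvd : Nat.card S ∣ 432 := (card_subgroup_dvd_card _).trans (hC ▸ dvd_mul_right _ _)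
  have hge := S.pow_dvd_card_of_pow_dvd_card h27
  rw [hk, Nat.pow_dvd_pow_iff_le_right (by norm_num)] at hge
  have hle : k ≤ 3 := by
    by_contra h
    have h81 : 3 ^ 4 ∣ 432 := (pow_dvd_pow 3 (by omega : 4 ≤ k)).trans (hk ▸ hdvd)
    norm_num at h81
  have hk3 : k = 3 := le_antisymm hle hge
  subst hk3
  refine ⟨hk, ?_⟩
  obtain ⟨T, hT⟩ : ∃ T, T = ((S : Subgroup C).map C.subtype).subgroupOf A := ⟨_, rfl⟩
  obtain ⟨P, hP⟩ : ∃ P, P = Q.subgroupOf A := ⟨_, rfl⟩
  have hTle : (S : Subgroup C).map C.subtype ≤ A := (map_subtype_le _).trans hCA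
  have hT3 : IsPGroup 3 T := hT ▸ (S.2.map C.subtype).of_equiv (subgroupOfEquivOfLe hTle).symm
  have hP3 : IsPGroup 3 P := IsPGroup.of_card (n := 2) (by
    rw [hP, Nat.card_congr (subgroupOfEquivOfLe H.qa).toEquiv, H.card]; norm_num)
  haveI hPn : P.Normal := hP ▸ normal_subgroupOf_of_le_normalizer (fun a ha => by
    rw [mem_normalizer_iff]
    refine fun b => ⟨H.norm a ha b, fun hb => ?_⟩
    have := H.norm a⁻¹ (inv_mem ha) _ hb
    rwa [show a⁻¹ * (a * b * a⁻¹) * a⁻¹⁻¹ = b by group] at this)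
  have hsup : IsPGroup 3 (T ⊔ P : Subgroup A) := hT3.to_sup_of_normal_right hP3
  obtain ⟨j, hj⟩ := hsup.exists_card_eq
  have hjd : 3 ^ j ∣ 432 := by rw [← hj, ← H.cardA]; exact card_subgroup_dvd_card _
  have hj3 : j ≤ 3 := by
    by_contra h
    have h81 : 3 ^ 4 ∣ 432 := (pow_dvd_pow 3 (by omega : 4 ≤ j)).trans hjd
    norm_num at h81
  have hTc : Nat.card T = 3 ^ 3 := by
    rw [hT, Nat.card_congr (subgroupOfEquivOfLe hTle).toEquiv,
      card_map_of_injective C.subtype_injective, hk]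
  have heq : T = T ⊔ P := eq_of_le_of_card_ge le_sup_left (by
    rw [hj, hTc]; exact Nat.pow_le_pow_right (by norm_num) hj3)
  intro a ha
  have : (⟨a, H.qa ha⟩ : A) ∈ T := heq ▸ le_sup_right (a := T) (hP ▸ ha)
  rw [hT] at this
  exact this

/-- The characterisation. -/
theorem recog (A B : Subgroup G) (hgen : A ⊔ B = ⊤)
    (hSylA : ¬ 3 ∣ ((A ⊓ B).subgroupOf A).index) (hSylB : ¬ 3 ∣ ((A ⊓ B).subgroupOf B).index)
    (hcore : ∀ N : Subgroup G, N ≤ A ⊓ B → (∀ a ∈ A, N.map (MulAut.conj a).toMonoidHom = N) →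
      (∀ b ∈ B, N.map (MulAut.conj b).toMonoidHom = N) → N = ⊥)
    (eA : A ⧸ pCore 3 A ≃* GL (Fin 2) (ZMod 3)) (eB : B ⧸ pCore 3 B ≃* GL (Fin 2) (ZMod 3))
    (hOA : IsMulCommutative (pCore 3 A) ∧ (∀ x ∈ pCore 3 A, x ^ 3 = 1) ∧ Nat.card (pCore 3 A) = 9 ∧
      centralizer ((pCore 3 A : Subgroup A) : Set A) = pCore 3 A)
    (hOB : IsMulCommutative (pCore 3 B) ∧ (∀ x ∈ pCore 3 B, x ^ 3 = 1) ∧ Nat.card (pCore 3 B) = 9 ∧
      centralizer ((pCore 3 B : Subgroup B) : Set B) = pCore 3 B)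
    (S : Sylow 3 ↥(A ⊓ B)) (Z : Subgroup G)
    (hZ : Z = ((S : Subgroup ↥(A ⊓ B)) ⊓ centralizer ((S : Subgroup ↥(A ⊓ B)) : Set ↥(A ⊓ B))).map
      (A ⊓ B).subtype)
    (hNZ : normalizer (Z : Set G) ≤ A ⊓ B) :
    Cfsg.Spor.IsoM12 G ∨ Nonempty (G ≃* Matrix.ProjectiveSpecialLinearGroup (Fin 3) (ZMod 3)) := by
  haveI h3F : Fact (Nat.Prime 3) := ⟨Nat.prime_three⟩
  obtain ⟨QA, hQA⟩ : ∃ QA, QA = (pCore 3 A).map A.subtype := ⟨_, rfl⟩
  obtain ⟨QB, hQB⟩ : ∃ QB, QB = (pCore 3 B).map B.subtype := ⟨_, rfl⟩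
  have hA : Half A QA := hQA ▸ half_of eA hOA
  have hB : Half B QB := hQB ▸ half_of eB hOB
  obtain ⟨hS27, hQAS⟩ := half_sylow hA inf_le_left hSylA S
  obtain ⟨-, hQBS⟩ := half_sylow hB inf_le_right hSylB S
  obtain ⟨S', hS'⟩ : ∃ S', S' = (S : Subgroup ↥(A ⊓ B)).map (A ⊓ B).subtype := ⟨_, rfl⟩
  rw [← hS'] at hQAS hQBS
  have hS'27 : Nat.card S' = 3 ^ 3 := by
    rw [hS', card_map_of_injective (A ⊓ B).subtype_injective]; exact hS27
  have hS'le : S' ≤ A ⊓ B := hS' ▸ map_subtype_le _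
  have hmemZ : ∀ a, a ∈ Z ↔ a ∈ S' ∧ ∀ b ∈ S', b * a = a * b := by
    intro a
    rw [hZ, hS']
    constructor
    · rintro ⟨c, hc, rfl⟩
      obtain ⟨hc1, hc2⟩ := mem_inf.1 hc
      refine ⟨⟨c, hc1, rfl⟩, ?_⟩
      rintro _ ⟨b, hb, rfl⟩
      exact congrArg Subtype.val (mem_centralizer_iff.1 hc2 b hb)
    · rintro ⟨⟨c, hc, rfl⟩, h⟩
      exact ⟨c, mem_inf.2 ⟨hc, mem_centralizer_iff.2 fun b hb => Subtype.ext (h _ ⟨b, hb, rfl⟩)⟩, rfl⟩
  have hZQA : Z ≤ QA := fun a ha => hA.self a (mem_inf.1 (hS'le ((hmemZ a).1 ha).1)).1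
    fun b hb => (((hmemZ a).1 ha).2 b (hQAS hb)).symm
  have hZQB : Z ≤ QB := fun a ha => hB.self a (mem_inf.1 (hS'le ((hmemZ a).1 ha).1)).2
    fun b hb => (((hmemZ a).1 ha).2 b (hQBS hb)).symm
  have hne : QA ≠ QB := by
    intro h
    have hm : ∀ {X Q : Subgroup G}, Half X Q → ∀ a ∈ X, Q.map (MulAut.conj a).toMonoidHom = Q := by
      intro X Q hX a ha
      refine eq_of_le_of_card_ge ?_ (by rw [card_map_of_injective (MulAut.conj a).injective])
      rintro _ ⟨b, hb, rfl⟩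
      exact hX.norm a ha b hb
    have := hcore QA (hQAS.trans hS'le) (hm hA) (h ▸ hm hB)
    have h9 := hA.card
    rw [this, card_bot] at h9
    norm_num at h9
  obtain ⟨z, hzZ, hz1⟩ : ∃ z ∈ Z, z ≠ 1 := by
    have hS'3 : IsPGroup 3 S' := IsPGroup.of_card hS'27
    haveI : Nontrivial S' := Finite.one_lt_card_iff_nontrivial.1 (by rw [hS'27]; norm_num)
    haveI := hS'3.center_nontrivial
    obtain ⟨⟨c, hc⟩, hc1⟩ := exists_ne (1 : center S')
    refine ⟨c, (hmemZ _).2 ⟨c.2, fun b hb => congrArg Subtype.val (mem_center_iff.1 hc ⟨b, hb⟩)⟩,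
      fun e => hc1 (Subtype.ext (Subtype.ext e))⟩
  have hzA := hZQA hzZ
  have hzB := hZQB hzZ
  have hZeq : Z = zpowers z := by
    refine (eq_of_le_of_card_ge (zpowers_le.2 hzZ) ?_).symm
    rw [Nat.card_zpowers, orderOf_eq_prime (hA.cube z hzA) hz1]
    have hd : Nat.card (QA ⊓ QB : Subgroup G) ∣ 3 ^ 2 := by
      have := card_dvd_of_le (inf_le_left : QA ⊓ QB ≤ QA)
      rwa [hA.card] at this
    obtain ⟨i, hi, hi'⟩ := (Nat.dvd_prime_pow Nat.prime_three).1 hd
    have hi1 : i ≤ 1 := by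
      by_contra h
      have hcard : Nat.card (QA ⊓ QB : Subgroup G) = 9 := by
        rw [hi', show i = 2 by omega]; norm_num
      exact hne ((eq_of_le_of_card_ge inf_le_left (by rw [hA.card, hcard])).symm.trans
        (eq_of_le_of_card_ge inf_le_right (by rw [hB.card, hcard])))
    exact (card_le_of_le (le_inf hZQA hZQB)).trans (hi' ▸ Nat.pow_le_pow_right (by norm_num) hi1)
  obtain ⟨x, y, t, u, q, H, DA, DB, htA, htact, huA, huact, htuB, htuact⟩ :=
    exists_cfg hA hB hzA hzB hz1 hne (hZeq ▸ hNZ)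
  have hgcd : 3 ^ 3 ∣ Nat.card G := hS'27 ▸ card_subgroup_dvd_card S'
  have h81 : ¬ 3 ^ 4 ∣ Nat.card G := by
    intro h
    have h1 := Sylow.prime_pow_dvd_card_normalizer h hS'27
    have hle : normalizer (S' : Set G) ≤ A ⊓ B := by
      intro g hg
      have hconj : ∀ k ∈ normalizer (S' : Set G), ∀ a ∈ Z, k * a * k⁻¹ ∈ Z := by
        intro k hk a ha
        obtain ⟨ha1, ha2⟩ := (hmemZ a).1 ha
        refine (hmemZ _).2 ⟨(mem_normalizer_iff.1 hk a).1 ha1, fun b hb => ?_⟩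
        have hb' : k⁻¹ * b * k ∈ S' := (mem_normalizer_iff.1 hk _).2 (by
          rwa [show k * (k⁻¹ * b * k) * k⁻¹ = b by group])
        calc b * (k * a * k⁻¹) = k * ((k⁻¹ * b * k) * a) * k⁻¹ := by group
          _ = k * a * k⁻¹ * b := by rw [ha2 _ hb']; group
      refine hNZ (mem_normalizer_iff.2 fun a => ⟨hconj g hg a, fun ha => ?_⟩)
      have := hconj g⁻¹ (inv_mem hg) _ ha
      rwa [show g⁻¹ * (g * a * g⁻¹) * g⁻¹⁻¹ = a by group] at this
    have h2 := (h1.trans (card_dvd_of_le hle)).trans (card_dvd_of_le (inf_le_left : A ⊓ B ≤ A))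
    rw [hA.cardA] at h2
    norm_num at h2
  obtain ⟨R, hR⟩ : ∃ R, R = pResidual 2 G := ⟨_, rfl⟩
  have hR3 : ∀ g : G, g ^ 3 = 1 → g ∈ R := fun g hg => by
    rw [hR, pResidual]
    exact subset_closure ((show Nat.Coprime 3 2 by norm_num).coprime_dvd_left (orderOf_dvd_of_pow_eq_one hg))
  have hnzp : ∀ g : G, g * z * g⁻¹ = z ∨ g * z * g⁻¹ = z⁻¹ → g ∈ A ⊓ B := fun g h =>
    hNZ (hZeq.symm ▸ mem_normalizer_zpowers_of_pm h)
  have huB : u ∈ B := (mem_inf.1 (hnzp u (Or.inl (by rw [H.uz, mul_inv_cancel_right])))).2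
  have hRtop : R = ⊤ := by
    have htR : t ∈ R := DA.neg_mem hR3 htA htact
    have htuR : t * u ∈ R := DB.neg_mem hR3 htuB htuact
    have huR : u ∈ R := by simpa using mul_mem (inv_mem htR) htuR
    rw [eq_top_iff, ← hgen, sup_le_iff]
    refine ⟨DA.le_of_reflection hR3 huA huR huact, DB.le_of_reflection hR3 huB huR ?_⟩
    have hzi : z⁻¹ = z ^ 2 := inv_eq_of_mul_eq_one_right (by rw [← pow_succ', H.z3])
    have hyi : y⁻¹ = y ^ 2 := inv_eq_of_mul_eq_one_right (by rw [← pow_succ', H.y3])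
    constructor
    · rw [H.uz, mul_inv_cancel_right, pt_z]
    · rw [H.uy, hyi, pt, show ((2 : ZMod 3)).val = 2 from rfl, show ((0 : ZMod 3)).val = 0 from rfl,
        pow_zero, one_mul]
  obtain ⟨N, hK⟩ := H.exists_kn
  have D : Ctx z x y t u q N := ⟨H, hK⟩
  rcases hK.cases with ⟨hnil, hcard, hout⟩ | ⟨hsq, hcomm, φ, hφs, hφ⟩
  swap
  · exact (D.five hsq hcomm φ hφs hφ).elim
  have hto : orderOf t = 2 := orderOf_eq_prime (by rw [pow_two]; exact H.tt) H.t1
  rcases D.left hnil hcard hout with h8 | ⟨h32, hex, e, heN, het, hte⟩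
  · right
    have h48 : Nat.card (centralizer ({t} : Set G)) = 48 := by rw [hcard, h8]
    have hCA : centralizer ({t} : Set G) ≤ A := by
      have hex : ∀ p : {p : V3 × V3 // det p.1 p.2 ≠ 0},
          ∃ g : (centralizer ({t} : Set G) ⊓ A : Subgroup G), Act z x (g : G) p.1.1 p.1.2 := by
        intro p
        obtain ⟨g, hg, hgt, hact⟩ := DA.exists_lift htA H.tt htact p.1.1 p.1.2 p.2
        exact ⟨⟨g, mem_inf.2 ⟨mem_centralizer_singleton_iff.2 hgt, hg⟩⟩, hact⟩
      choose f hf using hex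
      have hle := Nat.card_le_card_of_injective f (fun p r h => by
        have h1 := hf p
        rw [h] at h1
        exact Subtype.ext (Prod.ext (DA.pt_injective (h1.1.symm.trans (hf r).1))
          (DA.pt_injective (h1.2.symm.trans (hf r).2))))
      rw [det_count] at hle
      exact inf_eq_left.1 (eq_of_le_of_card_ge inf_le_left (by rw [h48]; exact hle))
    obtain ⟨ψ, hψ⟩ : ∃ ψ, ψ = eA.toMonoidHom.comp ((QuotientGroup.mk' (pCore 3 A)).comp (inclusion hCA)) :=
      ⟨_, rfl⟩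
    have hinj : Function.Injective ψ := by
      rw [← MonoidHom.ker_eq_bot_iff, eq_bot_iff]
      intro g hg
      rw [MonoidHom.mem_ker, hψ] at hg
      simp only [MonoidHom.coe_comp, Function.comp_apply, MulEquiv.coe_toMonoidHom,
        map_eq_one_iff eA eA.injective, QuotientGroup.mk'_apply, QuotientGroup.eq_one_iff] at hg
      have hgQ : (g : G) ∈ QA := hQA ▸ ⟨_, hg, rfl⟩
      obtain ⟨v, hv⟩ := DA.exists_pt hgQ
      have hinv := DA.inverts htact v
      rw [← hv, ← (mem_centralizer_singleton_iff.1 g.2), mul_inv_cancel_right] at hinv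
      refine mem_bot.2 (Subtype.ext ?_)
      have h3 := hA.cube _ hgQ
      have h2 : (g : G) * g = 1 := by nth_rw 1 [hinv]; exact inv_mul_cancel _
      rwa [pow_succ, pow_two, h2, one_mul] at h3
    have hbij : Function.Bijective ψ :=
      (Nat.bijective_iff_injective_and_card ψ).2 ⟨hinj, by rw [h48, card_gl_two_three]⟩
    rcases S2916.result (hR ▸ hRtop) t hto ⟨MulEquiv.ofBijective ψ hbij⟩ with ⟨F, _, _, hF, ⟨e⟩⟩ | ⟨⟨e⟩⟩
    · obtain ⟨E⟩ := Classical.Small.psl_congr (n := 3) (ZMod.ringEquivOfPrime F Nat.prime_three hF)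
      exact ⟨e.trans E.symm⟩
    · exfalso
      rw [Nat.card_congr e.toEquiv, Compute.card_m11] at hgcd
      norm_num at hgcd
  · left
    obtain ⟨L, hL⟩ : ∃ L, L = centralizer ({t} : Set G) := ⟨_, rfl⟩
    have hNL : N ≤ L := hL ▸ hK.le
    have hNn : (N.subgroupOf L).Normal := normal_subgroupOf_of_le_normalizer (hL ▸ hK.norm)
    have hN2 : IsPGroup 2 (N.subgroupOf L) := IsPGroup.of_card (n := 5) (by
      rw [Nat.card_congr (subgroupOfEquivOfLe hNL).toEquiv, h32]; norm_num)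
    have hp : pCore 2 L = N.subgroupOf L := by
      refine le_antisymm ?_ (Core.le_pCore hN2)
      intro m hm
      rw [mem_subgroupOf, ← hK.mem_iff]
      refine ⟨(pCore 2 L).map L.subtype, hL ▸ map_subtype_le _, ?_, fun h3 => ?_, ⟨m, hm, rfl⟩⟩
      · intro k hk
        rw [← hL] at hk
        exact (pCore 2 L).le_normalizer_map L.subtype ⟨⟨k, hk⟩, by
          rw [normalizer_eq_top_iff.2 Core.pCore_normal]; trivial, rfl⟩
      · rw [card_map_of_injective L.subtype_injective] at h3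
        obtain ⟨k, hk⟩ := (Core.pCore_isPGroup (p := 2) (G := L)).exists_card_eq
        rw [hk] at h3
        exact absurd (Nat.prime_three.dvd_of_dvd_pow h3) (by norm_num)
    have hQ : N = (pCore 2 L).map L.subtype := by rw [hp, map_subgroupOf_eq_of_le hNL]
    have hLcard : Nat.card L = 192 := by rw [hL, hcard, h32]
    have hidx : Nat.card (L ⧸ pCore 2 L) = 6 := by
      have := (pCore 2 L).card_mul_index
      rw [hp, Nat.card_congr (subgroupOfEquivOfLe hNL).toEquiv, h32, hLcard] at this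
      rw [hp, ← index_eq_card]
      omega
    obtain ⟨e6⟩ : Nonempty (L ⧸ pCore 2 L ≃* Equiv.Perm (Fin 3)) := by
      obtain ⟨U, hU⟩ : ∃ U : L, (U : G) = u :=
        ⟨⟨u, hL ▸ mem_centralizer_singleton_iff.2 H.ut⟩, rfl⟩
      obtain ⟨Y, hY⟩ : ∃ Y : L, (Y : G) = y := ⟨⟨y, hL ▸ mem_centralizer_singleton_iff.2 H.yt⟩, rfl⟩
      have hmk : ∀ g : L, QuotientGroup.mk' (pCore 2 L) g = 1 ↔ (g : G) ∈ N := fun g => by
        rw [QuotientGroup.mk'_apply, QuotientGroup.eq_one_iff, hp, mem_subgroupOf]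
      refine S4006.equiv_perm_three hidx (t := QuotientGroup.mk' (pCore 2 L) U)
        (r := QuotientGroup.mk' (pCore 2 L) Y) (orderOf_eq_prime ?_ fun h => D.u_not_mem (hU ▸ (hmk U).1 h)) ?_
      · rw [← map_pow, hmk, SubmonoidClass.coe_pow, hU, pow_two, H.uu]; exact one_mem N
      · intro hc
        have h1 : QuotientGroup.mk' (pCore 2 L) (U * Y * U⁻¹ * Y⁻¹) = 1 := by
          simp only [map_mul, map_inv, hc.eq, mul_inv_cancel_right, mul_inv_cancel]
        rw [hmk, coe_mul, coe_mul, coe_mul, coe_inv, coe_inv, hU, hY, H.uy] at h1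
        rw [show y⁻¹ * y⁻¹ = y by
          rw [← mul_inv_rev, inv_eq_iff_eq_inv]; exact eq_inv_of_mul_eq_one_left (by
            rw [← H.y3, pow_succ, pow_two])] at h1
        exact (hK.fix y h1 rfl).elim H.y1 H.y_ne
    obtain ⟨X⟩ : Nonempty (Sylow 3 L) := inferInstance
    have hcent : N ⊓ centralizer (((X : Subgroup L).map L.subtype : Subgroup G) : Set G) = zpowers t := by
      refine le_antisymm ?_ (zpowers_le.2 (mem_inf.2 ⟨hK.tN, mem_centralizer_iff.2 ?_⟩))
      · intro n hn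
        obtain ⟨hn1, hn2⟩ := mem_inf.1 hn
        obtain ⟨⟨c, hc⟩, hco⟩ := exists_prime_orderOf_dvd_card' (G := (X : Subgroup L)) 3
          (X.dvd_card_of_dvd_card (by rw [hLcard]; norm_num))
        rw [orderOf_mk] at hco
        have hc3 : (c : G) ^ 3 = 1 := by
          rw [← SubmonoidClass.coe_pow, ← hco, pow_orderOf_eq_one]; rfl
        have hct : (c : G) * t = t * c := mem_centralizer_singleton_iff.1 (hL.le c.2)
        obtain ⟨k, hkt, hk⟩ := D.three_conj hct hc3 (fun e1 => by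
          rw [show c = 1 from Subtype.ext e1, orderOf_one] at hco; norm_num at hco)
        have hcn : Commute (c : G) n := mem_centralizer_iff.1 hn2 c ⟨c, hc, rfl⟩
        have hkn : Commute (k * c * k⁻¹) (k * n * k⁻¹) := by
          simpa using hcn.map (MulAut.conj k).toMonoidHom
        have hky : Commute (k * n * k⁻¹) y := by
          rcases hk with e1 | e1 <;> rw [e1] at hkn
          · exact hkn.symm
          · simpa using hkn.inv_left.symm
        have hkN : k * n * k⁻¹ ∈ N := D.conj_mem hn1 hkt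
        rcases hK.fix _ hkN hky.eq with e1 | e1
        · rw [conj_eq_one_iff] at e1; rw [e1]; exact one_mem _
        · have : n = t := by
            calc n = k⁻¹ * (k * n * k⁻¹) * k := by group
              _ = k⁻¹ * (t * k) := by rw [e1, mul_assoc]
              _ = t := by rw [← hkt, inv_mul_cancel_left]
          rw [this]; exact mem_zpowers t
      · rintro _ ⟨c, -, rfl⟩
        exact mem_centralizer_singleton_iff.1 (hL.le c.2)
    obtain ⟨k, hk⟩ := isConj_iff.1 hte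
    rcases S3344.result t hto L hL N hQ hex h32 e6 X hcent ⟨k, hk ▸ heN, hk ▸ het⟩ with
      ⟨M, hM, -, -, hM8, ⟨f⟩⟩ | ⟨⟨f⟩⟩ | ⟨⟨f⟩⟩ | h
    · exfalso
      haveI : Fact (Nat.Prime 2) := ⟨Nat.prime_two⟩
      have h168 : Nat.card (Matrix.SpecialLinearGroup (Fin 3) (ZMod 2)) = 168 := by
        have h2 := Classical.card_sl_mul (F := ZMod 2) (ZMod.card 2) 3 (by norm_num)
        rw [show (∏ i : Fin 3, (2 ^ 3 - 2 ^ (i : ℕ))) = 168 from by decide, show 2 - 1 = 1 from rfl,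
          one_mul] at h2
        exact h2
      have hd : Nat.card G ∣ 8 * 168 := by
        rw [← M.card_mul_index, hM8, index_eq_card, Nat.card_congr f.toEquiv, ← h168]
        exact mul_dvd_mul_left 8 (card_quotient_dvd_card _)
      have := hgcd.trans hd
      norm_num at this
    · exfalso
      rw [Nat.card_congr f.toEquiv, nat_card_alternatingGroup, Nat.card_fin] at hgcd
      norm_num [Nat.factorial] at hgcd
    · exfalso
      rw [Nat.card_congr f.toEquiv, nat_card_alternatingGroup, Nat.card_fin] at h81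
      exact h81 (by norm_num [Nat.factorial])
    · exact h

end Cfsg.Agent.M12Amal
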