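import Cfsg.Agent.M12Amal.Bound
import Cfsg.Agent.LargeExtra.Quotient
import Mathlib.GroupTheory.FixedPointFree

/-!
# The case of quotient `S₃`

`N` is either quaternion of order eight or extraspecial of order 32 with a conjugate of `t`.
-/

set_option autoImplicit false

namespace Cfsg.Agent.M12Amal

open Subgroup
open scoped commutatorElement
open SelfCentThree (Sc Inv)

universe w

variable {G : Type w} [Group G] [Finite G]

/-- The outside product property of a quotient `S₃`. -/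
def Outside (N : Subgroup G) (t : G) : Prop :=
  ∀ a b : G, a * t = t * a → b * t = t * b → a * a ∈ N → a ∉ N → b ∉ N → a * b = b * a → a * b ∈ N

namespace Ctx

variable {z x y t u q : G} {N : Subgroup G} (D : Ctx z x y t u q N)

include D in
theorem cop_card : ¬ 3 ∣ Nat.card N := by
  intro h
  have : Fact (Nat.Prime 3) := ⟨Nat.prime_three⟩
  obtain ⟨⟨v, hv⟩, hvo⟩ := exists_prime_orderOf_dvd_card' 3 h
  rw [orderOf_mk] at hvo
  obtain ⟨M, -, -, hM, hvM⟩ := (D.K.mem_iff v).2 hv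
  exact hM (hvo ▸ orderOf_mk v hvM ▸ orderOf_dvd_natCard _)

include D in
theorem cop_mem (hcard : Nat.card (centralizer ({t} : Set G)) = 6 * Nat.card N) {c : G}
    (hc : c * t = t * c) (ho : Odd (orderOf c)) (h3 : ¬ 3 ∣ orderOf c) : c ∈ N := by
  obtain ⟨C, rfl⟩ : ∃ C : centralizer ({t} : Set G), (C : G) = c :=
    ⟨⟨c, mem_centralizer_singleton_iff.2 hc⟩, rfl⟩
  have hn : (N.subgroupOf (centralizer ({t} : Set G))).Normal := normal_subgroupOf_of_le_normalizer D.K.norm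
  have hi : (N.subgroupOf (centralizer ({t} : Set G))).index = 6 := by
    have := (N.subgroupOf (centralizer ({t} : Set G))).card_mul_index
    rw [Nat.card_congr (subgroupOfEquivOfLe D.K.le).toEquiv, hcard, mul_comm 6] at this
    exact Nat.eq_of_mul_eq_mul_left Nat.card_pos this
  have h6 : C ^ 6 ∈ N.subgroupOf (centralizer ({t} : Set G)) := hi ▸ pow_index_mem _ C
  have hco : Nat.Coprime 6 (orderOf C) := by
    rw [← orderOf_coe C, show (6 : ℕ) = 2 * 3 from rfl]
    exact Nat.Coprime.mul_left (Nat.coprime_two_left.2 ho) (Nat.prime_three.coprime_iff_not_dvd.2 h3)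
  obtain ⟨m, hm⟩ := exists_pow_eq_self_of_coprime hco
  have := pow_mem h6 m
  rw [hm, mem_subgroupOf] at this
  exact this

include D in
theorem cop_inN (hcard : Nat.card (centralizer ({t} : Set G)) = 6 * Nat.card N) {a c : G}
    (ha : IsConj t a) (hc : c * a = a * c) (ho : Odd (orderOf c)) (h3 : ¬ 3 ∣ orderOf c) : InN a c := by
  obtain ⟨h, rfl⟩ := isConj_iff.1 ha
  have e : orderOf (h⁻¹ * c * h) = orderOf c := by
    have h1 := MulEquiv.orderOf_eq (MulAut.conj h⁻¹) c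
    rwa [MulAut.conj_apply, inv_inv] at h1
  have hm := D.cop_mem hcard (c := h⁻¹ * c * h)
    (by calc h⁻¹ * c * h * t = h⁻¹ * (c * (h * t * h⁻¹)) * h := by group
          _ = t * (h⁻¹ * c * h) := by rw [hc]; group) (e ▸ ho) (e ▸ h3)
  simpa [mul_assoc] using ((D.K.mem_iff _).2 hm).conj h

include D in
/-- No element of odd order of `N` commutes with `u`. -/
theorem odd_fix (hcard : Nat.card (centralizer ({t} : Set G)) = 6 * Nat.card N) {r : G} (hr : r ∈ N)
    (hru : r * u = u * r) (ho : Odd (orderOf r)) : r = 1 := by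
  have h3 : ¬ 3 ∣ orderOf r := fun h =>
    D.cop_card (h.trans (orderOf_mk r hr ▸ orderOf_dvd_natCard _))
  have hrtu : r * (t * u) = t * u * r :=
    ((show Commute r t from D.cent_of_mem hr).mul_right (show Commute r u from hru)).eq
  have h2 := D.w0_sq ⟨hr, D.cop_inN hcard D.u_conj hru ho h3, D.cop_inN hcard D.tu_conj hrtu ho h3⟩
  rw [← pow_two] at h2
  exact orderOf_eq_one_iff.1 (Nat.Coprime.eq_one_of_dvd (Nat.coprime_two_right.2 ho)
    (orderOf_dvd_of_pow_eq_one h2))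

include D in
theorem out_prod (hout : Outside N t) {a b c : G} (ha : IsConj t a) (hb : b * a = a * b)
    (hc : c * a = a * c) (hb2 : b * b = 1) (hnb : ¬ InN a b) (hnc : ¬ InN a c) (hbc : b * c = c * b) :
    InN a (b * c) := by
  obtain ⟨h, rfl⟩ := isConj_iff.1 ha
  have e : ∀ d, d * (h * t * h⁻¹) = h * t * h⁻¹ * d → h⁻¹ * d * h * t = t * (h⁻¹ * d * h) := fun d hd => by
    calc h⁻¹ * d * h * t = h⁻¹ * (d * (h * t * h⁻¹)) * h := by group
      _ = _ := by rw [hd]; group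
  have hmem := hout (h⁻¹ * b * h) (h⁻¹ * c * h) (e b hb) (e c hc)
    (by rw [show h⁻¹ * b * h * (h⁻¹ * b * h) = h⁻¹ * (b * b) * h by group, hb2,
          mul_one, inv_mul_cancel]; exact one_mem N)
    (fun hm => hnb (by simpa [mul_assoc] using ((D.K.mem_iff _).2 hm).conj h))
    (fun hm => hnc (by simpa [mul_assoc] using ((D.K.mem_iff _).2 hm).conj h))
    (by calc h⁻¹ * b * h * (h⁻¹ * c * h) = h⁻¹ * (b * c) * h := by group
          _ = _ := by rw [hbc]; group)
  simpa [mul_assoc] using ((D.K.mem_iff _).2 hmem).conj h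

include D in
/-- The elements of `N` in the kernel attached to `u` lie in the three kernels. -/
theorem x_one (hout : Outside N t) {n : G} (hn : n ∈ N) (hnu : n * u = u * n) (h1 : InN u n) :
    W0 N t u n := by
  have hnt : Commute n t := D.cent_of_mem hn
  have hntu : n * (t * u) = t * u * n := (hnt.mul_right (show Commute n u from hnu)).eq
  have htu : t * (t * u) = t * u * t :=
    ((Commute.refl t).mul_right (show Commute t u from D.H.ut.symm)).eq
  have he : W0 N t u (n * n) := ⟨mul_mem hn hn, D.inN_mul D.u_conj h1 h1,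
    D.sq_inN D.tu_conj D.H.tt htu D.t_not_inN_tu hntu hnt.eq⟩
  refine ⟨hn, h1, ?_⟩
  by_contra hnot
  have hpar : ∀ c : G, c ∈ N → c * c = 1 → InN u c → InN (t * u) c := fun c hc hc2 hcu =>
    D.par (IsConj.refl t) D.u_conj D.tu_conj hc2 ((D.K.mem_iff c).2 hc) hcu
  have hne : n * n ≠ 1 := fun h => hnot (hpar n hn h h1)
  obtain ⟨hcN, hcu, hc2, hcg⟩ := D.comm_q hn hnu
  obtain ⟨c, hc⟩ : ∃ c, c = n * q * n⁻¹ * q⁻¹ := ⟨_, rfl⟩
  rw [← hc] at hcN hcu hc2 hcg
  have hct : Commute c t := D.cent_of_mem hcN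
  have hcases : c ∈ zpowers t := by
    by_cases h : InN u c
    · rw [D.w0_kill ⟨hcN, h, hpar c hcN hc2 h⟩ (Or.inl hc2) hcg]
      exact one_mem _
    · have h' := D.out_prod hout D.u_conj D.H.ut.symm hcu D.H.tt D.t_not_inN_u h hct.symm.eq
      have hsq : t * c * (t * c) = 1 := by
        calc t * c * (t * c) = t * (c * t) * c := by group
          _ = t * t * (c * c) := by rw [hct.eq]; group
          _ = 1 := by rw [D.H.tt, hc2, one_mul]
      have := D.w0_kill ⟨mul_mem D.K.tN hcN, h', hpar _ (mul_mem D.K.tN hcN) hsq h'⟩ (Or.inl hsq)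
        ((show Commute t (y * q * y⁻¹) from D.gt.symm).mul_left hcg)
      rw [eq_inv_of_mul_eq_one_right this]
      exact inv_mem (mem_zpowers t)
  have hyc : y⁻¹ * c * y ∈ zpowers t := by
    obtain ⟨i, hi⟩ := mem_zpowers_iff.1 hcases
    rw [← hi, (((show Commute y t from D.H.yt).inv_left).zpow_right i).eq, inv_mul_cancel_right]
    exact zpow_mem (mem_zpowers t) i
  have hsh := D.shift_mod hn D.K.qN
  rw [← hc] at hsh
  have hg := mul_mem hsh hyc
  rw [inv_mul_cancel_right] at hg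
  obtain ⟨g, hgdef⟩ : ∃ g, g = y * q * y⁻¹ := ⟨_, rfl⟩
  rw [← hgdef] at hg
  have hcom : Commute (n * n) g := by
    rcases mem_zpowers_invol D.H.tt hg with h | h
    · rw [mul_inv_eq_one, mul_inv_eq_iff_eq_mul] at h
      exact (show Commute n g from h).mul_left h
    · rw [mul_inv_eq_iff_eq_mul] at h
      show n * n * g = g * (n * n)
      refine mul_inv_eq_iff_eq_mul.1 ?_
      calc n * n * g * (n * n)⁻¹ = n * (n * g * n⁻¹) * n⁻¹ := by group
        _ = (n * t) * g * n⁻¹ := by rw [h]; group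
        _ = t * (n * g * n⁻¹) := by rw [hnt.eq]; group
        _ = g := by rw [h, ← mul_assoc, D.H.tt, one_mul]
  have := D.w0_g he hne
  rw [← hgdef, hcom.eq, mul_inv_cancel_right, mul_inv_cancel] at this
  exact D.H.t1 this.symm

include D in
/-- The fixed points of `u` on `N`. -/
theorem exists_e (hout : Outside N t) : ∃ e, W0 N t u e ∧
    ∀ k ∈ N, k * u = u * k → k = 1 ∨ k = t ∨ k = e ∨ k = t * e := by
  have hW : ∀ k ∈ N, k * u = u * k → W0 N t u k ∨ W0 N t u (t * k) := by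
    intro k hk hku
    by_cases h : InN u k
    · exact Or.inl (D.x_one hout hk hku h)
    · have hkt : Commute k t := D.cent_of_mem hk
      exact Or.inr (D.x_one hout (mul_mem D.K.tN hk)
        ((show Commute t u from D.H.ut.symm).mul_left (show Commute k u from hku)).eq
        (D.out_prod hout D.u_conj D.H.ut.symm hku D.H.tt D.t_not_inN_u h hkt.symm.eq))
  have hone : ∀ k, t * k = 1 → k = t := fun k h => by rw [eq_inv_of_mul_eq_one_right h, D.ti]
  by_cases he : ∃ e, W0 N t u e ∧ e ≠ 1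
  · obtain ⟨e, he, he1⟩ := he
    refine ⟨e, he, fun k hk hku => ?_⟩
    rcases hW k hk hku with h | h
    · exact (em (k = 1)).imp_right fun h1 => Or.inr (Or.inl (D.w0_unique h he h1 he1))
    · by_cases h1 : t * k = 1
      · exact Or.inr (Or.inl (hone k h1))
      · exact Or.inr (Or.inr (Or.inr (by rw [← D.w0_unique h he h1 he1, ← mul_assoc, D.H.tt, one_mul])))
  · push Not at he
    refine ⟨1, ⟨one_mem N, InN.one _, InN.one _⟩, fun k hk hku => ?_⟩
    rcases hW k hk hku with h | h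
    · exact Or.inl (he k h)
    · exact Or.inr (Or.inl (hone k (he _ h)))

include D in
theorem fixed_lift {m : G} (hm : m ∈ N) (h : u * m * u⁻¹ * m⁻¹ ∈ zpowers t) :
    ∃ k ∈ N, k * u = u * k ∧ (m = k ∨ m = k * q⁻¹) := by
  rcases mem_zpowers_invol D.H.tt h with e | e <;> rw [mul_inv_eq_iff_eq_mul] at e
  · rw [one_mul, mul_inv_eq_iff_eq_mul] at e
    exact ⟨m, hm, e.symm, Or.inl rfl⟩
  · refine ⟨m * q, mul_mem hm D.K.qN, ?_, Or.inr (mul_inv_cancel_right m q).symm⟩
    have hq : u * q * u⁻¹ = q⁻¹ := by rw [D.ui, D.H.uq]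
    have hqi : t * q⁻¹ = q := by rw [← D.H.qq, mul_inv_cancel_right]
    refine (mul_inv_eq_iff_eq_mul.1 ?_).symm
    calc u * (m * q) * u⁻¹ = (u * m * u⁻¹) * (u * q * u⁻¹) := by group
      _ = (m * t) * q⁻¹ := by rw [e, hq, D.cent_of_mem hm]
      _ = m * q := by rw [mul_assoc, hqi]

set_option maxHeartbeats 3200000 in
include D in
/-- The image of `N` is elementary abelian of order at most sixteen. -/
theorem left_struct (hnil : Group.IsNilpotent ((N.subgroupOf (centralizer ({t} : Set G))).map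
      (QuotientGroup.mk' ((zpowers t).subgroupOf (centralizer ({t} : Set G))))))
    (hcard : Nat.card (centralizer ({t} : Set G)) = 6 * Nat.card N) (hout : Outside N t) :
    (∀ a ∈ N, a * a ∈ zpowers t) ∧ (∀ a ∈ N, ∀ b ∈ N, a * b * a⁻¹ * b⁻¹ ∈ zpowers t) ∧
      (Nat.card N = 8 ∨ (Nat.card N = 32 ∧ (∃ e, W0 N t u e ∧ e ≠ 1) ∧
        ∀ c ∈ N, (∀ n ∈ N, c * n = n * c) → c = 1 ∨ c = t)) := by
  obtain ⟨π, Nb, hNb, Y, hY, hπs, hπ1, hsc, hmem, hfix, hNbdef⟩ := D.quot_data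
  rw [← hNbdef] at hnil
  have h3 := D.card_image_cop hmem hπs
  obtain ⟨U, hU⟩ : ∃ U : centralizer ({t} : Set G), (U : G) = u :=
    ⟨⟨u, mem_centralizer_singleton_iff.2 D.H.ut⟩, rfl⟩
  obtain ⟨ν, hν⟩ : ∃ ν, ν = π U := ⟨_, rfl⟩
  obtain ⟨ρ, hρ⟩ : ∃ ρ, ρ = π Y := ⟨_, rfl⟩
  rw [← hρ] at hsc hfix
  have hν2 : ν * ν = 1 := by
    rw [hν, ← map_mul, show U * U = 1 from Subtype.ext (by rw [coe_mul, hU]; exact D.H.uu), map_one]
  have hνρ : ν * ρ * ν⁻¹ = ρ⁻¹ := by
    rw [hν, hρ, ← map_inv, ← map_inv, ← map_mul, ← map_mul]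
    congr 1
    exact Subtype.ext (by simp only [coe_mul, coe_inv, hU, hY]; exact D.H.uy)
  have hνi : ν⁻¹ = ν := inv_eq_of_mul_eq_one_right hν2
  have hlift : ∀ M : centralizer ({t} : Set G), Commute ν (π M) →
      u * (M : G) * u⁻¹ * (M : G)⁻¹ ∈ zpowers t := by
    intro M hM
    have h1 : π (U * M * U⁻¹ * M⁻¹) = 1 := by
      simp only [map_mul, map_inv, ← hν, hM.eq, mul_inv_cancel_right, mul_inv_cancel]
    simpa only [coe_mul, coe_inv, hU] using (hπ1 _).1 h1
  -- no odd fixed points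
  have hfixodd : ∀ c ∈ Nb, Commute ν c → Odd (orderOf c) → c = 1 := by
    intro c hc hcν ho
    obtain ⟨M, rfl⟩ := hπs c
    have hm := (hmem M).1 hc
    have hmt : Commute (M : G) t := D.cent_of_mem hm
    have h2 : u * ((M : G) * M) * u⁻¹ = (M : G) * M := by
      rw [show u * ((M : G) * M) * u⁻¹ = (u * M * u⁻¹) * (u * M * u⁻¹) by group]
      rcases mem_zpowers_invol D.H.tt (hlift M hcν) with e | e <;> rw [mul_inv_eq_iff_eq_mul] at e <;> rw [e]
      · rw [one_mul]
      · calc t * (M : G) * (t * M) = t * ((M : G) * t) * M := by group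
          _ = t * t * ((M : G) * M) := by rw [hmt.eq]; group
          _ = _ := by rw [D.H.tt, one_mul]
    obtain ⟨a, k, hk, hak⟩ := Nat.exists_eq_two_pow_mul_odd (orderOf_pos ((M : G) * M)).ne'
    have hr : orderOf (((M : G) * M) ^ 2 ^ a) = k := by
      rw [orderOf_pow_of_dvd (by positivity) (hak ▸ Dvd.intro k rfl), hak,
        Nat.mul_div_cancel_left _ (by positivity)]
    have h1 := D.odd_fix hcard (pow_mem (mul_mem hm hm) (2 ^ a))
      ((show Commute ((M : G) * M) u from (mul_inv_eq_iff_eq_mul.1 h2).symm).pow_left _).eq (hr ▸ hk)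
    have h4 : π M ^ (2 ^ (a + 1)) = 1 := by
      rw [← map_pow, show M ^ 2 ^ (a + 1) = 1 from Subtype.ext (by
        rw [SubmonoidClass.coe_pow, pow_succ', pow_mul, pow_two, h1]; rfl), map_one]
    exact orderOf_eq_one_iff.1 (Nat.Coprime.eq_one_of_dvd
      ((Nat.coprime_two_right.2 ho).pow_right _) (orderOf_dvd_of_pow_eq_one h4))
  -- a two-group
  have h2p : ∀ p, p.Prime → p ∣ Nat.card Nb → p = 2 := by
    intro p hp hd
    by_contra hp2
    haveI : Fact p.Prime := ⟨hp⟩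
    obtain ⟨P⟩ : Nonempty (Sylow p Nb) := inferInstance
    haveI : (P : Subgroup Nb).Characteristic := P.characteristic_of_normal inferInstance
    obtain ⟨R, hR⟩ : ∃ R, R = (P : Subgroup Nb).map Nb.subtype := ⟨_, rfl⟩
    haveI : R.Normal := hR ▸ inferInstance
    have hodd : ∀ c ∈ R, c ∈ Nb ∧ Odd (orderOf c) := by
      rw [hR]
      rintro _ ⟨c, hc, rfl⟩
      obtain ⟨k, hk⟩ := IsPGroup.iff_orderOf.1 P.2 ⟨c, hc⟩
      refine ⟨c.2, ?_⟩
      rw [orderOf_mk] at hk
      rw [subtype_apply, orderOf_coe, hk]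
      exact (hp.odd_of_ne_two hp2).pow
    have hinvert : ∀ μ : Kb t, μ * μ = 1 → (∀ c ∈ R, μ * c * μ⁻¹ = c → c = 1) →
        ∀ c ∈ R, μ * c * μ⁻¹ = c⁻¹ := by
      intro μ hμ hf c hc
      obtain ⟨φ, hφ⟩ : ∃ φ : MulAut R, φ = MulAut.conjNormal μ := ⟨_, rfl⟩
      have hfp : MonoidHom.FixedPointFree φ := fun g hg => Subtype.ext (hf g g.2 (by
        have := congrArg Subtype.val hg
        rwa [hφ, MulAut.conjNormal_apply] at this))
      have hinv : Function.Involutive φ := fun g => Subtype.ext (by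
        rw [hφ, MulAut.conjNormal_apply, MulAut.conjNormal_apply]
        calc μ * (μ * g * μ⁻¹) * μ⁻¹ = μ * μ * g * (μ * μ)⁻¹ := by group
          _ = g := by rw [hμ, one_mul, inv_one, mul_one])
      have := congrArg Subtype.val (congrFun (hfp.coe_eq_inv_of_involutive hinv) ⟨c, hc⟩)
      rwa [hφ, MulAut.conjNormal_apply] at this
    have hbot : R = ⊥ := by
      refine eq_bot_iff.2 fun c hc => mem_bot.2 (hfix c (hodd c hc).1 ?_)
      have i1 := hinvert ν hν2 (fun d hd he =>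
        hfixodd d (hodd d hd).1 (mul_inv_eq_iff_eq_mul.1 he) (hodd d hd).2) c hc
      have i2 := hinvert (ρ * ν * ρ⁻¹) (by
          calc ρ * ν * ρ⁻¹ * (ρ * ν * ρ⁻¹) = ρ * (ν * ν) * ρ⁻¹ := by group
            _ = 1 := by rw [hν2, mul_one, mul_inv_cancel]) (fun d hd he => by
        have hd' : ρ⁻¹ * d * ρ ∈ R := by simpa using Subgroup.Normal.conj_mem inferInstance d hd ρ⁻¹
        have h0 := hfixodd _ (hodd _ hd').1 (mul_inv_eq_iff_eq_mul.1 (by
            calc ν * (ρ⁻¹ * d * ρ) * ν⁻¹ = ρ⁻¹ * (ρ * ν * ρ⁻¹ * d * (ρ * ν * ρ⁻¹)⁻¹) * ρ := by group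
              _ = _ := by rw [he])) (hodd _ hd').2
        calc d = ρ * (ρ⁻¹ * d * ρ) * ρ⁻¹ := by group
          _ = 1 := by rw [h0, mul_one, mul_inv_cancel]) c hc
      have h5 : ρ * ρ * c * (ρ * ρ)⁻¹ = c := by
        have e : ρ * ν * ρ⁻¹ * ν = ρ * ρ := by
          calc ρ * ν * ρ⁻¹ * ν = ρ * (ν * ρ * ν⁻¹)⁻¹ * (ν * ν) := by group
            _ = ρ * ρ := by rw [hνρ, inv_inv, hν2, mul_one]
        rw [← e]
        calc ρ * ν * ρ⁻¹ * ν * c * (ρ * ν * ρ⁻¹ * ν)⁻¹
            = ρ * ν * ρ⁻¹ * (ν * c * ν⁻¹) * (ρ * ν * ρ⁻¹)⁻¹ := by group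
          _ = (ρ * ν * ρ⁻¹ * c * (ρ * ν * ρ⁻¹)⁻¹)⁻¹ := by rw [i1]; group
          _ = c := by rw [i2, inv_inv]
      have h6 : Commute (ρ * ρ) c := mul_inv_eq_iff_eq_mul.1 h5
      have h7 := h6.mul_left h6
      rwa [show ρ * ρ * (ρ * ρ) = ρ ^ 3 * ρ by simp only [pow_succ, pow_zero, one_mul, mul_assoc], hsc.cube,
        one_mul] at h7
    exact P.ne_bot_of_dvd_card hd
      ((map_eq_bot_iff_of_injective _ Nb.subtype_injective).1 (hR ▸ hbot))
  have hp2 : IsPGroup 2 Nb := IsPGroup.of_card (n := (Nat.card Nb).primeFactorsList.length)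
    (Nat.eq_prime_pow_of_unique_prime_dvd Nat.card_pos.ne' fun hp hd => h2p _ hp hd)
  -- the fixed points
  obtain ⟨e, he, hX⟩ := D.exists_e hout
  obtain ⟨E, hE⟩ : ∃ E : centralizer ({t} : Set G), (E : G) = e := ⟨⟨e, D.K.le he.1⟩, rfl⟩
  obtain ⟨Q, hQ⟩ : ∃ Q : centralizer ({t} : Set G), (Q : G) = q := ⟨⟨q, D.K.le D.K.qN⟩, rfl⟩
  obtain ⟨ε, hε⟩ : ∃ ε, ε = π E := ⟨_, rfl⟩
  obtain ⟨κ, hκ⟩ : ∃ κ, κ = π Q := ⟨_, rfl⟩
  have hεN : ε ∈ Nb := by rw [hε]; exact (hmem E).2 (by rw [hE]; exact he.1)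
  have hκN : κ ∈ Nb := by rw [hκ]; exact (hmem Q).2 (by rw [hQ]; exact D.K.qN)
  have hε2 : ε * ε = 1 := by
    rw [hε, ← map_mul, show E * E = 1 from Subtype.ext (by rw [coe_mul, hE]; exact D.w0_sq he), map_one]
  have hκ2 : κ * κ = 1 := by
    rw [hκ, ← map_mul, hπ1, coe_mul, hQ, D.H.qq]; exact mem_zpowers t
  have hεκ : Commute ε κ := by
    rw [hε, hκ]
    exact (show Commute E Q from Subtype.ext (by simp only [coe_mul, hE, hQ]; exact (D.w0_q he).eq)).map π
  have hform : ∀ c ∈ Nb, Commute ν c → c = 1 ∨ c = ε ∨ c = κ ∨ c = ε * κ := by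
    intro c hc hcν
    obtain ⟨M, rfl⟩ := hπs c
    obtain ⟨k, hk, hku, hmk⟩ := D.fixed_lift ((hmem M).1 hc) (hlift M hcν)
    obtain ⟨K, hK⟩ : ∃ K : centralizer ({t} : Set G), (K : G) = k := ⟨⟨k, D.K.le hk⟩, rfl⟩
    have hπt : ∀ K : centralizer ({t} : Set G), (K : G) = t → π K = 1 := fun K h =>
      (hπ1 K).2 (by rw [h]; exact mem_zpowers t)
    have hk2 : π K = 1 ∨ π K = ε := by
      rcases hX k hk hku with h | h | h | h
      · left; rw [show K = 1 from Subtype.ext (hK.trans h), map_one]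
      · left; exact hπt K (hK.trans h)
      · right; rw [hε, show K = E from Subtype.ext (hK.trans (h.trans hE.symm))]
      · right
        rw [hε, show K = ⟨t, mem_centralizer_singleton_iff.2 rfl⟩ * E from
          Subtype.ext (by rw [coe_mul, hK, hE]; exact h), map_mul, hπt _ rfl, one_mul]
    rcases hmk with h | h
    · rw [show M = K from Subtype.ext (h.trans hK.symm)]
      exact hk2.imp_right Or.inl
    · have : π M = π K * κ := by
        rw [show M = K * Q⁻¹ from Subtype.ext (by rw [coe_mul, coe_inv, hK, hQ]; exact h), map_mul,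
          map_inv, ← hκ, inv_eq_of_mul_eq_one_right hκ2]
      rcases hk2 with h' | h' <;> rw [this, h']
      · exact Or.inr (Or.inr (Or.inl (one_mul κ)))
      · exact Or.inr (Or.inr (Or.inr rfl))
  have hexp : ∀ c ∈ Nb, Commute ν c → c * c = 1 := by
    intro c hc hcν
    rcases hform c hc hcν with rfl | rfl | rfl | rfl
    · exact one_mul 1
    · exact hε2
    · exact hκ2
    · calc ε * κ * (ε * κ) = ε * (κ * ε) * κ := by group
        _ = ε * ε * (κ * κ) := by rw [← hεκ.eq]; group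
        _ = 1 := by rw [hε2, hκ2, one_mul]
  have hFc : ∀ a ∈ Nb, ∀ b ∈ Nb, Commute ν a → Commute ν b → Commute a b := by
    intro a ha b hb h1 h2
    have e1 := (Commute.refl ε).mul_right hεκ
    have e2 := hεκ.symm.mul_right (Commute.refl κ)
    rcases hform a ha h1 with rfl | rfl | rfl | rfl <;> rcases hform b hb h2 with rfl | rfl | rfl | rfl <;>
      first
        | exact Commute.one_left _
        | exact Commute.one_right _
        | exact Commute.refl _
        | exact hεκ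
        | exact hεκ.symm
        | exact e1
        | exact e1.symm
        | exact e2
        | exact e2.symm
  have hprod := fun n (hn : n ∈ Nb) => prod_fixed Nb hsc.cube hfix hp2 hν2 hνρ hexp hn
  have hcmN : ∀ c ∈ Nb, ∀ g : Kb t, g * c * g⁻¹ ∈ Nb := fun c hc g => Subgroup.Normal.conj_mem hNb c hc g
  have hac : ∀ a ∈ Nb, ∀ b ∈ Nb, Commute ν a → Commute ν b → Commute a (ρ * b * ρ⁻¹) := by
    intro a ha b hb h1 h2
    have h := comm_shift Nb hsc.cube hfix h3 ha hb
    rw [commutatorElement_eq_one_iff_commute.2 (hFc a ha b hb h1 h2), mul_one, inv_mul_cancel] at h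
    exact commutatorElement_eq_one_iff_commute.1 h
  have habel : ∀ c ∈ Nb, ∀ d ∈ Nb, Commute c d := by
    intro c hc d hd
    obtain ⟨a, b, ha, hb, h1, h2, rfl⟩ := hprod c hc
    obtain ⟨a', b', ha', hb', h1', h2', rfl⟩ := hprod d hd
    exact (((hFc a ha a' ha' h1 h1').mul_right (hac a ha b' hb' h1 h2')).mul_left
      (((hac a' ha' b hb h1' h2).symm).mul_right (by
        simpa using (hFc b hb b' hb' h2 h2').map (MulAut.conj ρ).toMonoidHom)))
  have hsq : ∀ c ∈ Nb, c * c = 1 := by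
    intro c hc
    obtain ⟨a, b, ha, hb, h1, h2, rfl⟩ := hprod c hc
    calc a * (ρ * b * ρ⁻¹) * (a * (ρ * b * ρ⁻¹)) = a * (ρ * b * ρ⁻¹ * a) * (ρ * b * ρ⁻¹) := by group
      _ = a * a * (ρ * (b * b) * ρ⁻¹) := by rw [← (hac a ha b hb h1 h2).eq]; group
      _ = 1 := by rw [hexp a ha h1, hexp b hb h2]; group
  refine ⟨fun a ha => ?_, fun a ha b hb => ?_, ?_⟩
  · obtain ⟨A, rfl⟩ : ∃ A : centralizer ({t} : Set G), (A : G) = a := ⟨⟨a, D.K.le ha⟩, rfl⟩
    have := hsq _ ((hmem A).2 ha)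
    rwa [← map_mul, hπ1, coe_mul] at this
  · obtain ⟨A, rfl⟩ : ∃ A : centralizer ({t} : Set G), (A : G) = a := ⟨⟨a, D.K.le ha⟩, rfl⟩
    obtain ⟨B, rfl⟩ : ∃ B : centralizer ({t} : Set G), (B : G) = b := ⟨⟨b, D.K.le hb⟩, rfl⟩
    have h1 : π (A * B * A⁻¹ * B⁻¹) = 1 := by
      simp only [map_mul, map_inv, (habel _ ((hmem A).2 ha) _ ((hmem B).2 hb)).eq, mul_inv_cancel_right,
        mul_inv_cancel]
    simpa only [coe_mul, coe_inv] using (hπ1 _).1 h1
  -- the order
  obtain ⟨F4, hF4⟩ : ∃ F4 : Fin 2 × Fin 2 → Nb, ∀ p, (F4 p : Kb t) = ε ^ (p.1 : ℕ) * κ ^ (p.2 : ℕ) :=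
    ⟨fun p => ⟨_, mul_mem (pow_mem hεN _) (pow_mem hκN _)⟩, fun p => rfl⟩
  have hF4s : ∀ c ∈ Nb, Commute ν c → ∃ p, (F4 p : Kb t) = c ∧ (ε = 1 → p.1 = 0) := by
    intro c hc hcν
    by_cases h1 : ε = 1
    · rcases hform c hc hcν with rfl | rfl | rfl | rfl
      · exact ⟨(0, 0), by simp [hF4], fun _ => rfl⟩
      · exact ⟨(0, 0), by simp [hF4, h1], fun _ => rfl⟩
      · exact ⟨(0, 1), by simp [hF4], fun _ => rfl⟩
      · exact ⟨(0, 1), by simp [hF4, h1], fun _ => rfl⟩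
    · rcases hform c hc hcν with rfl | rfl | rfl | rfl
      · exact ⟨(0, 0), by simp [hF4], fun h => absurd h h1⟩
      · exact ⟨(1, 0), by simp [hF4], fun h => absurd h h1⟩
      · exact ⟨(0, 1), by simp [hF4], fun h => absurd h h1⟩
      · exact ⟨(1, 1), by simp [hF4], fun h => absurd h h1⟩
  have h16 : Nat.card Nb ≤ 16 ∧ (ε = 1 → Nat.card Nb ≤ 4) := by
    constructor
    · refine (Nat.card_le_card_of_surjective (fun p : (Fin 2 × Fin 2) × (Fin 2 × Fin 2) =>
        (⟨F4 p.1 * (ρ * F4 p.2 * ρ⁻¹), mul_mem (F4 p.1).2 (hcmN _ (F4 p.2).2 ρ)⟩ : Nb)) ?_).trans (by simp)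
      rintro ⟨c, hc⟩
      obtain ⟨a, b, ha, hb, h1, h2, rfl⟩ := hprod c hc
      obtain ⟨p, hp, -⟩ := hF4s a ha h1
      obtain ⟨r, hr, -⟩ := hF4s b hb h2
      exact ⟨(p, r), Subtype.ext (by show (F4 p : Kb t) * _ = _; rw [hp, hr])⟩
    · intro hone
      refine (Nat.card_le_card_of_surjective (fun p : Fin 2 × Fin 2 =>
        (⟨F4 (0, p.1) * (ρ * F4 (0, p.2) * ρ⁻¹),
          mul_mem (F4 (0, p.1)).2 (hcmN _ (F4 (0, p.2)).2 ρ)⟩ : Nb)) ?_).trans (by simp)
      rintro ⟨c, hc⟩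
      obtain ⟨a, b, ha, hb, h1, h2, rfl⟩ := hprod c hc
      obtain ⟨⟨p1, p2⟩, hp, hp0⟩ := hF4s a ha h1
      obtain ⟨⟨r1, r2⟩, hr, hr0⟩ := hF4s b hb h2
      obtain rfl : p1 = 0 := hp0 hone
      obtain rfl : r1 = 0 := hr0 hone
      exact ⟨(p2, r2), Subtype.ext (by show (F4 _ : Kb t) * _ = _; rw [hp, hr])⟩
  have hN2 : Nat.card N = 2 * Nat.card Nb := by
    have hcm : N.subgroupOf (centralizer ({t} : Set G)) = Nb.comap π := by
      ext g; rw [mem_subgroupOf, mem_comap, hmem]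
    have hk : Nat.card π.ker = 2 := by
      rw [show π.ker = (zpowers t).subgroupOf (centralizer ({t} : Set G)) by
          ext g; rw [MonoidHom.mem_ker, hπ1, mem_subgroupOf],
        Nat.card_congr (subgroupOfEquivOfLe (zpowers_le.2 (D.K.le D.K.tN))).toEquiv, Nat.card_zpowers]
      exact orderOf_eq_prime (by rw [pow_two]; exact D.H.tt) D.H.t1
    rw [← Nat.card_congr (subgroupOfEquivOfLe D.K.le).toEquiv, hcm,
      ← card_mul_index ((π.ker).subgroupOf (Nb.comap π)),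
      Nat.card_congr (subgroupOfEquivOfLe (ker_le_comap π Nb)).toEquiv, hk, ← relIndex,
      ← MonoidHom.comap_bot, relIndex_comap, map_comap_eq_self_of_surjective hπs, relIndex_bot_left]
  have hκ1 : κ ≠ 1 := fun h => by
    rw [hκ, hπ1, hQ] at h
    rcases mem_zpowers_invol D.H.tt h with e' | e'
    · exact D.H.t1 (by rw [← D.H.qq, e', one_mul])
    · exact D.H.t1 (by have := D.H.qq; rw [e', D.H.tt] at this; exact this.symm)
  have hmod : Nat.card Nb % 3 = 1 :=
    Inv.card_mod hsc ⟨by rw [normalizer_eq_top]; trivial, h3⟩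
  obtain ⟨n, hn⟩ := (IsPGroup.iff_card (p := 2)).1 hp2
  have hn4 : n ≤ 4 := (Nat.pow_le_pow_iff_right (by norm_num : 1 < 2)).1 (hn ▸ h16.1)
  have hn0 : n ≠ 0 := fun h0 => hκ1 (by
    rw [h0, pow_zero, card_eq_one] at hn
    rwa [hn, mem_bot] at hκN)
  have hn24 : n = 2 ∨ n = 4 := by
    rw [hn] at hmod
    interval_cases n <;> first | (left; rfl) | (right; rfl) | exact absurd rfl hn0 | norm_num at hmod
  rcases hn24 with rfl | rfl
  · exact Or.inl (by rw [hN2, hn]; norm_num)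
  refine Or.inr ⟨by rw [hN2, hn]; norm_num, ?_⟩
  have he1 : e ≠ 1 := fun h => by
    have := h16.2 (by rw [hε, show E = 1 from Subtype.ext (hE.trans h), map_one])
    rw [hn] at this; norm_num at this
  refine ⟨⟨e, he, he1⟩, ?_⟩
  -- the centre
  obtain ⟨g, hg⟩ : ∃ g, g = y * q * y⁻¹ := ⟨_, rfl⟩
  have hgN : g ∈ N := hg ▸ D.conj_mem D.K.qN D.H.yt
  have heg : e * g * e⁻¹ * g⁻¹ = t := hg ▸ D.w0_g he he1
  have ne : ¬ Commute e g := fun h => D.H.t1 (by
    rw [← heg, h.eq, mul_inv_cancel_right, mul_inv_cancel])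
  have hyy : y * y = y⁻¹ := eq_inv_of_mul_eq_one_left (by rw [← D.H.y3, pow_succ, pow_two])
  have hq' : ∀ k : G, k * t = t * k → ∀ c, (∀ m ∈ N, c * m = m * c) →
      ∀ m ∈ N, k * c * k⁻¹ * m = m * (k * c * k⁻¹) := by
    intro k hk c hc m hm
    have hm' : k⁻¹ * m * k ∈ N := by
      simpa using D.conj_mem hm (g := k⁻¹) (Commute.inv_left (show Commute k t from hk)).eq
    calc k * c * k⁻¹ * m = k * (c * (k⁻¹ * m * k)) * k⁻¹ := by group
      _ = m * (k * c * k⁻¹) := by rw [hc _ hm']; group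
  have hkill : ∀ M : centralizer ({t} : Set G), (M : G) ∈ N → (∀ m ∈ N, (M : G) * m = m * M) →
      Commute ν (π M) → π M = 1 := by
    intro M hM hMc hMν
    have htr : ∀ K : centralizer ({t} : Set G), π M = π K → ∀ m ∈ N, (K : G) * m = m * K := by
      intro K hK m hm
      have hk : π (M⁻¹ * K) = 1 := by rw [map_mul, map_inv, hK, inv_mul_cancel]
      have hk' := (hπ1 _).1 hk
      obtain ⟨i, hi⟩ := mem_zpowers_iff.1 hk'
      rw [show (K : G) = M * t ^ i by rw [hi, coe_mul, coe_inv, mul_inv_cancel_left]]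
      exact ((show Commute (M : G) m from hMc m hm).mul_left
        ((show Commute t m from (D.cent_of_mem hm).symm).zpow_left i)).eq
    rcases hform _ ((hmem M).2 hM) hMν with h | h | h | h
    · exact h
    · exact absurd (htr E (h.trans hε) g hgN) (by rw [hE]; exact ne)
    · refine absurd (show e * g = g * e from ?_) ne
      have := hq' y D.H.yt q (fun m hm => by
        have := htr Q (h.trans hκ) m hm
        rwa [hQ] at this) e he.1
      rw [← hg] at this
      exact this.symm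
    · exfalso
      obtain ⟨f, hf⟩ : ∃ f, f = y * e * y⁻¹ := ⟨_, rfl⟩
      have hfN : f ∈ N := hf ▸ D.conj_mem he.1 D.H.yt
      have hef : Commute e f := hf ▸ D.comm_y he.1 (Or.inl (D.w0_sq he))
      have heqf : Commute (e * q) f := by
        have := htr (E * Q) (h.trans (by rw [map_mul, hε, hκ])) f hfN
        rw [coe_mul, hE, hQ] at this
        exact this
      have hqf : Commute q f := by
        have := (hef.inv_left).mul_left heqf
        rwa [inv_mul_cancel_left] at this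
      have hgf : Commute g f := by
        rw [hg, hf]
        simpa using (D.w0_q he).symm.map (MulAut.conj y).toMonoidHom
      have hft : Commute f t := D.cent_of_mem hfN
      obtain ⟨d, hd⟩ : ∃ d, d = y⁻¹ * q * y := ⟨_, rfl⟩
      have hd1 : d = g⁻¹ * q⁻¹ * t := by
        have := D.H.qyy
        rw [← hg, ← hd] at this
        rw [← this]; group
      have hfd : Commute f d := by
        rw [hd1]
        exact ((hgf.symm.inv_right).mul_right hqf.symm.inv_right).mul_right hft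
      refine D.H.t1 ?_
      have h8 : f * d * f⁻¹ * d⁻¹ = y * (e * g * e⁻¹ * g⁻¹) * y⁻¹ := by
        rw [hd, show y⁻¹ * q * y = (y * y) * q * (y * y)⁻¹ by rw [hyy, inv_inv], hf, hg]; group
      rw [heg, hfd.eq, mul_inv_cancel_right, mul_inv_cancel, D.H.yt, mul_inv_cancel_right] at h8
      exact h8.symm
  intro c hc hcc
  obtain ⟨M, rfl⟩ : ∃ M : centralizer ({t} : Set G), (M : G) = c := ⟨⟨c, D.K.le hc⟩, rfl⟩
  obtain ⟨a, b, ha, hb, h1, h2, hab⟩ := hprod _ ((hmem M).2 hc)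
  have hM'N : ((U * M * U⁻¹ : centralizer ({t} : Set G)) : G) ∈ N := by
    simp only [coe_mul, coe_inv, hU]; exact D.conj_mem hc D.H.ut
  have hb' : π (M * (U * M * U⁻¹)) = b := by
    have htri : b * (ρ * b * ρ⁻¹) * (ρ⁻¹ * b * ρ) = 1 := by
      have := S4006.triple Nb hsc.cube hfix hb
      rwa [show ρ ^ 2 = ρ⁻¹ from eq_inv_of_mul_eq_one_left (by rw [← pow_succ, hsc.cube]), inv_inv] at this
    have hbi : b⁻¹ = b := inv_eq_of_mul_eq_one_right (hexp b hb h2)
    rw [mul_assoc] at htri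
    simp only [map_mul, map_inv, ← hν, hab]
    calc a * (ρ * b * ρ⁻¹) * (ν * (a * (ρ * b * ρ⁻¹)) * ν⁻¹)
        = a * (ρ * b * ρ⁻¹) * ((ν * a * ν⁻¹) * ((ν * ρ * ν⁻¹) * (ν * b * ν⁻¹) * (ν * ρ * ν⁻¹)⁻¹)) := by
          group
      _ = a * (ρ * b * ρ⁻¹ * a) * (ρ⁻¹ * b * ρ) := by
          rw [h1.eq, h2.eq, mul_inv_cancel_right, mul_inv_cancel_right, hνρ]; group
      _ = a * a * (ρ * b * ρ⁻¹ * (ρ⁻¹ * b * ρ)) := by rw [← (hac a ha b hb h1 h2).eq]; group
      _ = b := by rw [hexp a ha h1, one_mul, eq_inv_of_mul_eq_one_right htri, hbi]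
  have hb1 : b = 1 := by
    rw [← hb']
    refine hkill _ (by rw [coe_mul]; exact mul_mem hc hM'N) (fun m hm => ?_) (hb' ▸ h2)
    simp only [coe_mul, coe_inv, hU]
    exact ((show Commute (M : G) m from hcc m hm).mul_left (hq' u D.H.ut _ hcc m hm)).eq
  rw [hb1, mul_one, mul_inv_cancel, mul_one] at hab
  have := hkill M hc hcc (hab ▸ h1)
  exact mem_zpowers_invol D.H.tt ((hπ1 M).1 this)

include D in
/-- The case of quotient `S₃`. -/
theorem left (hnil : Group.IsNilpotent ((N.subgroupOf (centralizer ({t} : Set G))).map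
      (QuotientGroup.mk' ((zpowers t).subgroupOf (centralizer ({t} : Set G))))))
    (hcard : Nat.card (centralizer ({t} : Set G)) = 6 * Nat.card N) (hout : Outside N t) :
    Nat.card N = 8 ∨ (Nat.card N = 32 ∧ IsExtraspecial 2 N ∧ ∃ e ∈ N, e ≠ t ∧ IsConj t e) := by
  obtain ⟨hsq, hcomm, h8 | ⟨h32, ⟨e, he, he1⟩, hcen⟩⟩ := D.left_struct hnil hcard hout
  · exact Or.inl h8
  refine Or.inr ⟨h32, ?_, e, he.1, fun h => D.t_not_inN_u (h ▸ he.2.1), ?_⟩
  · have hcoe : ∀ v : N, (v : G) ∈ zpowers t → v = 1 ∨ v = ⟨t, D.K.tN⟩ := fun v hv =>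
      (mem_zpowers_invol D.H.tt hv).imp (fun h => Subtype.ext h) (fun h => Subtype.ext h)
    refine LargeExtra.extraspecial_of (IsPGroup.of_card (n := 5) (by rw [h32]; norm_num))
      (w := ⟨t, D.K.tN⟩) (fun h => D.H.t1 (congrArg Subtype.val h)) (Subtype.ext D.H.tt)
      (mem_center_iff.2 fun v => Subtype.ext (D.cent_of_mem v.2)) (fun c hc => ?_)
      (fun a b => hcoe _ (by simpa [commutatorElement_def] using hcomm a a.2 b b.2))
      (fun a => hcoe _ (by simpa using hsq a a.2)) ?_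
    · exact (hcen c c.2 fun n hn => (congrArg Subtype.val (mem_center_iff.1 hc ⟨n, hn⟩)).symm).imp
        (fun h => Subtype.ext h) (fun h => Subtype.ext h)
    · refine ⟨⟨e, he.1⟩, ⟨y * q * y⁻¹, D.conj_mem D.K.qN D.H.yt⟩, fun h => D.H.t1 ?_⟩
      have h' : e * (y * q * y⁻¹) = y * q * y⁻¹ * e := congrArg Subtype.val h
      rw [← D.w0_g he he1, h', mul_inv_cancel_right, mul_inv_cancel]
  · have he2 := D.w0_sq he
    refine D.out_conj D.qu_conj he2
      ((D.w0_q he).mul_right (show Commute e u from he.2.1.mem_cent)).eq fun hin => ?_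
    have h := he.2.1.conj (y * q * y⁻¹)
    rw [D.H.gu] at h
    obtain ⟨g, hg⟩ : ∃ g, g = y * q * y⁻¹ := ⟨_, rfl⟩
    rw [← hg] at h
    have heg := D.w0_g he he1
    rw [← hg, mul_inv_eq_iff_eq_mul, mul_inv_eq_iff_eq_mul] at heg
    have hte : g * e * g⁻¹ = t * e := by
      rw [mul_inv_eq_iff_eq_mul, mul_assoc, heg]
      rw [show t * (t * g * e) = t * t * (g * e) by group, D.H.tt, one_mul]
    rw [hte] at h
    have ht : InN (q * u) t := by
      have := D.inN_mul D.qu_conj h hin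
      rwa [mul_assoc, he2, mul_one] at this
    have := ht.conj g⁻¹
    have hgu : g⁻¹ * (q * u) * g⁻¹⁻¹ = u := by rw [← D.H.gu, ← hg]; group
    have hgt : g⁻¹ * t * g⁻¹⁻¹ = t := by
      rw [inv_inv, mul_assoc, ← (show g * t = t * g from hg ▸ D.gt), inv_mul_cancel_left]
    rw [hgu, hgt] at this
    exact D.t_not_inN_u this

end Ctx

end Cfsg.Agent.M12Amal
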