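import Cfsg.Agent.M12Amal.Half

/-!
# The elements `z, x, y, t, u, q` of the amalgam

`Cfg z x y t u q` collects what the rest of the proof uses: `Q = ⟨z, x⟩`, `t` inverts `Q`, `y` and
`u = diag(1,-1)` lift matrices to the centraliser of `t`, `q * q = t`, and `g = y q y⁻¹`.
-/

set_option autoImplicit false

namespace Cfsg.Agent.M12Amal

open Subgroup

variable {G : Type*} [Group G] [Finite G]

/-- The configuration. -/
structure Cfg (z x y t u q : G) : Prop where
  z3 : z ^ 3 = 1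
  x3 : x ^ 3 = 1
  y3 : y ^ 3 = 1
  z1 : z ≠ 1
  x1 : x ≠ 1
  y1 : y ≠ 1
  zx : z * x = x * z
  t1 : t ≠ 1
  u1 : u ≠ 1
  tt : t * t = 1
  uu : u * u = 1
  ut : u * t = t * u
  tu1 : t * u ≠ 1
  qq : q * q = t
  uq : u * q * u = q⁻¹
  qyy : q * (y * q * y⁻¹) * (y⁻¹ * q * y) = t
  yt : y * t = t * y
  uy : u * y * u⁻¹ = y⁻¹
  tz : t * z * t⁻¹ = z⁻¹
  uz : u * z = z * u
  tx : t * x * t⁻¹ = x⁻¹
  ux : u * x * u⁻¹ = x⁻¹
  sz : q * u * z * (q * u)⁻¹ = x
  sx : q * u * x * (q * u)⁻¹ = z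
  gz : y * q * y⁻¹ * z * (y * q * y⁻¹)⁻¹ = z * x
  gx : y * q * y⁻¹ * x * (y * q * y⁻¹)⁻¹ = z * x⁻¹
  gu : y * q * y⁻¹ * u * (y * q * y⁻¹)⁻¹ = q * u
  cent : ∀ g : G, g * u = u * g → g * z = z * g → ∃ i j : ℕ, g = z ^ i * u ^ j
  cent_z : ∀ g : G, g * z = z * g → g ^ 18 = 1
  invol_z : ∀ w : G, w * w = 1 → w ≠ 1 → w * z = z * w → ∃ k : G, k * z = z * k ∧ w = k * u * k⁻¹
  invol_x : ∀ w : G, w * w = 1 → w * z = z * w → w * (x * w * x⁻¹) = x * w * x⁻¹ * w → w = 1
  zy : ∃ b : G, b * z * b⁻¹ = y ∧ b * u * b⁻¹ = t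

omit [Finite G] in
theorem mem_normalizer_zpowers_of_pm [Finite G] {z g : G} (h : g * z * g⁻¹ = z ∨ g * z * g⁻¹ = z⁻¹) :
    g ∈ normalizer (zpowers z : Set G) := by
  have h' : g⁻¹ * z * g = z ∨ g⁻¹ * z * g = z⁻¹ := by
    rcases h with h | h
    · left; nth_rw 1 [← h]; group
    · right
      have e : (g * z * g⁻¹)⁻¹ = z := by rw [h, inv_inv]
      calc g⁻¹ * z * g = g⁻¹ * (g * z * g⁻¹)⁻¹ * g := by rw [e]
        _ = z⁻¹ := by group
  have key : ∀ k : G, k * z * k⁻¹ = z ∨ k * z * k⁻¹ = z⁻¹ → ∀ w ∈ zpowers z, k * w * k⁻¹ ∈ zpowers z := by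
    intro k hk w hw
    obtain ⟨i, rfl⟩ := mem_zpowers_iff.1 hw
    rw [← conj_zpow]
    rcases hk with hk | hk <;> rw [hk]
    · exact zpow_mem (mem_zpowers z) i
    · exact zpow_mem (inv_mem (mem_zpowers z)) i
  rw [mem_normalizer_iff]
  refine fun w => ⟨key g h w, fun hw => ?_⟩
  have := key g⁻¹ (by rwa [inv_inv]) _ hw
  rwa [show g⁻¹ * (g * w * g⁻¹) * g⁻¹⁻¹ = w by group] at this

/-- The facts about one matrix lift. -/
def Lift (A : Subgroup G) (z x t g : G) (a b : V3) : Prop := g ∈ A ∧ g * t = t * g ∧ Act z x g a b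

namespace Crd

variable {A Q : Subgroup G} {z x t : G} (D : Crd A Q z x)

omit [Finite G] in
include D in
theorem lift_mul {g k : G} {a b c d : V3} (hg : Lift A z x t g a b) (hk : Lift A z x t k c d) :
    Lift A z x t (g * k) (lin a b c) (lin a b d) :=
  ⟨mul_mem hg.1 hk.1, (Commute.mul_left (show Commute g t from hg.2.1) (show Commute k t from hk.2.1)).eq,
    D.act_mul hg.2.2 hk.2.2⟩

include D in
theorem lift_one : Lift A z x t 1 (1, 0) (0, 1) :=
  ⟨one_mem A, by rw [one_mul, mul_one], D.act_one_of_mem (one_mem Q)⟩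

include D in
theorem lift_eq (ht2 : t * t = 1) (ht : Act z x t (2, 0) (0, 2)) {g k : G} {a b c d : V3}
    (hg : Lift A z x t g a b) (hk : Lift A z x t k c d) (h1 : a = c) (h2 : b = d) : g = k := by
  subst h1; subst h2
  exact D.lift_unique ht2 ht hg.1 hk.1 hg.2.1 hk.2.1 hg.2.2 hk.2.2

include D in
/-- Involutions with the same action are conjugate under `Q`. -/
theorem invol_conj {v w : G} {a b : V3} (hv : v ∈ A) (hw : w ∈ A) (hv2 : v * v = 1) (hw2 : w * w = 1)
    (h : Act z x v a b) (h' : Act z x w a b) : ∃ r ∈ Q, w = r * v * r⁻¹ := by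
  have hr : v⁻¹ * w ∈ Q := D.eq_mul_of_act hw hv h' h
  have hvi : v⁻¹ = v := inv_eq_of_mul_eq_one_right hv2
  rw [hvi] at hr
  refine ⟨v * w, hr, ?_⟩
  have hc : (v * w) * (v * w) * (v * w) = 1 := by
    rw [← D.cube _ hr]; simp only [pow_succ, pow_zero, one_mul]
  have hwi : w⁻¹ = w := inv_eq_of_mul_eq_one_right hw2
  calc w = (v * w * (v * w) * (v * w)) * w := by rw [hc, one_mul]
    _ = v * w * v * w * v * (w * w) := by group
    _ = v * w * v * (v * w)⁻¹ := by rw [hw2, mul_inv_rev, hwi, hvi]; group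

include D in
/-- The elements of `A` fixing `z`. -/
theorem act_of_fix {g : G} (hg : g ∈ A) (h : g * z = z * g) :
    ∃ b : V3, b.2 ≠ 0 ∧ Act z x g (1, 0) b := by
  obtain ⟨b, hb⟩ := D.exists_pt (D.norm g hg x D.hx)
  have ha : g * z * g⁻¹ = pt z x (1, 0) := by rw [h, mul_inv_cancel_right, pt_z]
  refine ⟨b, fun h0 => ?_, ha, hb⟩
  obtain ⟨v, hv, hv0⟩ := det_zero (1, 0) b (by simp [det, h0])
  have h1 := D.act_apply (g := g) ⟨ha, hb⟩ v
  rw [hv0, pt_zero, conj_eq_one_iff] at h1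
  exact hv (D.pt_eq_one h1)

end Crd

theorem fix_cases : ∀ b : V3, b.2 ≠ 0 →
    lin (1, 0) b (lin (1, 0) b (lin (1, 0) b (lin (1, 0) b (lin (1, 0) b b)))) = ((0, 1) : V3) := by
  decide

theorem fix_cube : ∀ b : V3, b.2 ≠ 0 → lin (1, 0) b (lin (1, 0) b b) = ((0, 1) : V3) → b.2 = 1 := by
  decide

theorem fix_square : ∀ b : V3, b.2 ≠ 0 → lin (1, 0) b b = ((0, 1) : V3) → b = (0, 1) ∨ b.2 = 2 := by
  decide

theorem fix_diag : ∀ v : V3, lin (1, 0) (0, 2) v = v → v.2 = 0 := by decide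

theorem fix_det : ∀ i : ZMod 3, det (1, 0) (i, 1) ≠ 0 := by decide

theorem fix_invl : ∀ i : ZMod 3, lin (1, 0) (-i, 1) (1, 0) = (1, 0) ∧ lin (1, 0) (-i, 1) (i, 1) = (0, 1) ∧
    lin (lin (1, 0) (i, 1) (1, 0)) (lin (1, 0) (i, 1) (0, 2)) (1, 0) = (1, 0) ∧
    lin (lin (1, 0) (i, 1) (1, 0)) (lin (1, 0) (i, 1) (0, 2)) (-i, 1) = (i, 2) := by decide

theorem fix_comm : ∀ b : V3, b.2 ≠ 0 →
    lin (1, 0) (0, 2) b = lin (1, 0) b ((0, 2) : V3) → b = (0, 1) ∨ b = (0, 2) := by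
  decide

/-- The configuration exists. -/
theorem exists_cfg {A B QA QB : Subgroup G} {z : G} (hA : Half A QA) (hB : Half B QB)
    (hzA : z ∈ QA) (hzB : z ∈ QB) (hz1 : z ≠ 1) (hne : QA ≠ QB)
    (hN : normalizer (zpowers z : Set G) ≤ A ⊓ B) :
    ∃ x y t u q : G, Cfg z x y t u q ∧ Crd A QA z x ∧ Crd B QB z y ∧ t ∈ A ∧ Act z x t (2, 0) (0, 2) ∧
      u ∈ A ∧ Act z x u (1, 0) (0, 2) ∧ t * u ∈ B ∧ Act z y (t * u) (2, 0) (0, 2) := by
  have hz3 : z ^ 3 = 1 := hA.cube z hzA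
  have hcz : Nat.card (zpowers z) = 3 := by rw [Nat.card_zpowers, orderOf_eq_prime hz3 hz1]
  obtain ⟨x, hx, hxz⟩ : ∃ x ∈ QA, x ∉ zpowers z := by
    by_contra hcon
    push Not at hcon
    have := card_dvd_of_le (show QA ≤ zpowers z from hcon)
    rw [hA.card, hcz] at this
    omega
  have DA : Crd A QA z x := { toHalf := hA, hz := hzA, hx := hx, z1 := hz1, xz := hxz }
  obtain ⟨t, htA, ht2, htact⟩ := DA.exists_t
  have Lt : Lift A z x t t (2, 0) (0, 2) := ⟨htA, rfl, htact⟩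
  obtain ⟨u, hu⟩ := DA.exists_lift htA ht2 htact (1, 0) (0, 2) (by decide)
  obtain ⟨y, hy⟩ := DA.exists_lift htA ht2 htact (1, 0) (1, 1) (by decide)
  obtain ⟨q, hq⟩ := DA.exists_lift htA ht2 htact (0, 1) (2, 0) (by decide)
  have Lu : Lift A z x t u (1, 0) (0, 2) := hu
  have Ly : Lift A z x t y (1, 0) (1, 1) := hy
  have Lq : Lift A z x t q (0, 1) (2, 0) := hq
  have L1 := DA.lift_one (t := t)
  have eq := @Crd.lift_eq G _ _ A QA z x t DA ht2 htact
  have uu : u * u = 1 := eq (DA.lift_mul Lu Lu) L1 (by decide) (by decide)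
  have qq : q * q = t := eq (DA.lift_mul Lq Lq) Lt (by decide) (by decide)
  have y3 : y ^ 3 = 1 := by
    rw [pow_succ, pow_two]
    exact eq (DA.lift_mul (DA.lift_mul Ly Ly) Ly) L1 (by decide) (by decide)
  have uquq : u * q * u * q = 1 :=
    eq (DA.lift_mul (DA.lift_mul (DA.lift_mul Lu Lq) Lu) Lq) L1 (by decide) (by decide)
  have uyuy : u * y * u * y = 1 :=
    eq (DA.lift_mul (DA.lift_mul (DA.lift_mul Lu Ly) Lu) Ly) L1 (by decide) (by decide)
  have hui : u⁻¹ = u := inv_eq_of_mul_eq_one_right uu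
  have hyi : y⁻¹ = y * y := inv_eq_of_mul_eq_one_right (by rw [← y3, pow_succ, pow_two]; group)
  have qyy : q * (y * q * (y * y)) * (y * y * q * y) = t :=
    eq (DA.lift_mul (DA.lift_mul Lq (DA.lift_mul (DA.lift_mul Ly Lq) (DA.lift_mul Ly Ly)))
      (DA.lift_mul (DA.lift_mul (DA.lift_mul Ly Ly) Lq) Ly)) Lt (by decide) (by decide)
  obtain ⟨g, hgdef⟩ : ∃ g, g = y * q * (y * y) := ⟨_, rfl⟩
  have Lg : Lift A z x t g (1, 1) (1, 2) := by
    have := DA.lift_mul (DA.lift_mul Ly Lq) (DA.lift_mul Ly Ly)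
    rw [hgdef]
    convert this using 1 <;> decide
  have hgu : g * u = q * u * g :=
    eq (DA.lift_mul Lg Lu) (DA.lift_mul (DA.lift_mul Lq Lu) Lg) (by decide) (by decide)
  have hge : y * q * y⁻¹ = g := by rw [hgdef, hyi]
  have hp : ∀ (i j : ZMod 3), pt z x (i, j) = z ^ i.val * x ^ j.val := fun _ _ => rfl
  have hxi : x⁻¹ = x ^ 2 := inv_eq_of_mul_eq_one_right (by rw [← pow_succ', DA.cube x hx])
  have hzi : z⁻¹ = z ^ 2 := inv_eq_of_mul_eq_one_right (by rw [← pow_succ', hz3])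
  have v1 : ((1 : ZMod 3)).val = 1 := rfl
  have v2 : ((2 : ZMod 3)).val = 2 := rfl
  have htz : t * z * t⁻¹ = z⁻¹ := by rw [htact.1, hp, v2, hzi]; simp
  have htx : t * x * t⁻¹ = x⁻¹ := by rw [htact.2, hp, v2, hxi]; simp
  have huz : u * z = z * u := by
    rw [← mul_inv_eq_iff_eq_mul, Lu.2.2.1, pt_z]
  have hux : u * x * u⁻¹ = x⁻¹ := by rw [Lu.2.2.2, hp, v2, hxi]; simp
  have Ls : Lift A z x t (q * u) (0, 1) (1, 0) := by
    have := DA.lift_mul Lq Lu
    convert this using 1 <;> decide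
  have hne2 : ∀ {w : G} {a b : V3}, Act z x w a b → (a, b) ≠ (((1, 0) : V3), ((0, 1) : V3)) → w ≠ 1 := by
    intro w a b hw hab e
    subst e
    have h1 : a = (1, 0) := DA.pt_injective (hw.1.symm.trans (by simp [pt_z]))
    have h2 : b = (0, 1) := DA.pt_injective (hw.2.symm.trans (by simp [pt_x]))
    exact hab (by rw [h1, h2])
  -- everything fixing or inverting `z` lies in both parabolics
  have hNA : ∀ g : G, g * z * g⁻¹ = z ∨ g * z * g⁻¹ = z⁻¹ → g ∈ A ∧ g ∈ B := fun g h =>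
    mem_inf.1 (hN (mem_normalizer_zpowers_of_pm h))
  have hfix : ∀ g : G, g * z = z * g → g ∈ A ∧ g ∈ B := fun g h =>
    hNA g (Or.inl (by rw [h, mul_inv_cancel_right]))
  -- `y ∈ QB`
  have hyz : y * z = z * y := by rw [← mul_inv_eq_iff_eq_mul, Ly.2.2.1, pt_z]
  obtain ⟨w, hwB, hwA⟩ : ∃ w ∈ QB, w ∉ QA := by
    by_contra hcon
    push Not at hcon
    exact hne (eq_of_le_of_card_ge (show QB ≤ QA from hcon) (by rw [hA.card, hB.card])).symm
  have hwz : ∀ w ∈ QB, w * z = z * w := fun w hw => hB.comm w hw z hzB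
  obtain ⟨w, hwB, hwy⟩ : ∃ w ∈ QB, w * y⁻¹ ∈ QA := by
    obtain ⟨hwA', -⟩ := hfix w (hwz w hwB)
    obtain ⟨b, hb2, hbact⟩ := DA.act_of_fix hwA' (hwz w hwB)
    have h3 := DA.act_mul (DA.act_mul hbact hbact) hbact
    have hid : Act z x (w * w * w) (1, 0) (0, 1) := by
      rw [show w * w * w = 1 by rw [← hB.cube w hwB, pow_succ, pow_two]]
      exact DA.act_one_of_mem (one_mem _)
    have hb3 : lin (1, 0) b (lin (1, 0) b b) = (0, 1) := by
      have h := h3.2.symm.trans hid.2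
      have := DA.pt_injective h
      revert this
      have e : ∀ b : V3, lin (lin (1, 0) b (1, 0)) (lin (1, 0) b b) b = lin (1, 0) b (lin (1, 0) b b) := by
        decide
      rw [e b]; exact id
    have hb1 := fix_cube b hb2 hb3
    have hb : b = (1, 1) ∨ b = (2, 1) := by
      have e : ∀ b : V3, b.2 = 1 → b = (0, 1) ∨ b = (1, 1) ∨ b = (2, 1) := by decide
      rcases e b hb1 with h | h | h
      · exfalso
        refine hwA ?_
        have := DA.eq_mul_of_act hwA' (one_mem A) (h ▸ hbact) (DA.act_one_of_mem (one_mem _))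
        simpa using this
      · exact Or.inl h
      · exact Or.inr h
    have key : ∀ v : G, v ∈ QB → Act z x v (1, 0) (1, 1) → ∃ w ∈ QB, w * y⁻¹ ∈ QA := by
      intro v hv hact
      have hvA := (hfix v (hwz v hv)).1
      have h := DA.eq_mul_of_act hvA Ly.1 hact Ly.2.2
      refine ⟨v, hv, ?_⟩
      have := DA.norm y Ly.1 _ h
      rwa [show y * (y⁻¹ * v) * y⁻¹ = v * y⁻¹ by group] at this
    rcases hb with h | h
    · exact key w hwB (h ▸ hbact)
    · refine key (w * w) (mul_mem hwB hwB) ?_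
      have := DA.act_mul (h ▸ hbact) (h ▸ hbact)
      convert this using 1 <;> decide
  have htB : t ∈ B := (hNA t (Or.inr htz)).2
  have huB : u ∈ B := (hfix u huz).2
  have hyB : y ∈ QB := by
    have hti : t⁻¹ = t := inv_eq_of_mul_eq_one_right ht2
    obtain ⟨a, ha⟩ : ∃ a, a = w * y⁻¹ := ⟨_, rfl⟩
    obtain ⟨v, hv⟩ := DA.exists_pt (ha ▸ hwy)
    have h1 : t * w * t⁻¹ = a⁻¹ * y := by
      have h2 := DA.inverts htact v
      rw [← hv] at h2
      calc t * w * t⁻¹ = (t * a * t⁻¹) * (t * y * t⁻¹) := by rw [ha]; group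
        _ = a⁻¹ * y := by rw [h2, ← Ly.2.1, mul_inv_cancel_right]
    have h3 : a * a ∈ QB := by
      have := mul_mem hwB (inv_mem (hB.norm t htB w hwB))
      rw [h1] at this
      rwa [show w * (a⁻¹ * y)⁻¹ = a * a by rw [ha]; group] at this
    have h4 : a ∈ QB := by
      have := mul_mem h3 h3
      rwa [show a * a * (a * a) = a ^ 3 * a by simp only [pow_succ, pow_zero, one_mul, mul_assoc],
        DA.cube a (ha ▸ hwy), one_mul] at this
    have := mul_mem (inv_mem h4) hwB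
    rwa [ha, show (w * y⁻¹)⁻¹ * w = y by group] at this
  have hyzp : y ∉ zpowers z := fun h => by
    obtain ⟨i, hi⟩ := mem_zpowers_iff.1 h
    have hyx : y * x * y⁻¹ = x := by
      rw [← hi, mul_inv_eq_iff_eq_mul]
      exact ((show Commute z x from hA.comm z hzA x hx).zpow_left i).eq
    have := DA.pt_injective (Ly.2.2.2.symm.trans (hyx.trans pt_x.symm))
    exact absurd this (by decide)
  have DB : Crd B QB z y := { toHalf := hB, hz := hzB, hx := hyB, z1 := hz1, xz := hyzp }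
  have hyinv : y⁻¹ = pt z y (0, 2) := by
    rw [pt, hyi]; simp [v2, pow_two]
  have hzinv : z⁻¹ = pt z y (2, 0) := by
    rw [pt, hzi]; simp [v2]
  have hty : t * y * t⁻¹ = y := by rw [← Ly.2.1, mul_inv_cancel_right]
  have huyi : u * y * u⁻¹ = y⁻¹ := by
    rw [hui]; exact eq_inv_of_mul_eq_one_left uyuy
  have htu : u * t = t * u := Lu.2.1
  have hActtu : Act z y (t * u) (2, 0) (0, 2) := by
    constructor
    · rw [← hzinv, ← htz, mul_inv_rev, hui]
      calc t * u * z * (u * t⁻¹) = t * (u * z * u) * t⁻¹ := by group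
        _ = t * z * t⁻¹ := by rw [huz, mul_assoc z, uu, mul_one]
    · rw [← hyinv, mul_inv_rev]
      calc t * u * y * (u⁻¹ * t⁻¹) = t * (u * y * u⁻¹) * t⁻¹ := by group
        _ = (t * y * t⁻¹)⁻¹ := by rw [huyi]; group
        _ = y⁻¹ := by rw [hty]
  refine ⟨x, y, t, u, q, ?_, DA, DB, htA, htact, Lu.1, Lu.2.2, mul_mem htB huB, hActtu⟩
  refine
    { z3 := hz3, x3 := hA.cube x hx, y3 := y3, z1 := hz1, x1 := fun e => hxz (e ▸ one_mem _),
      y1 := hne2 Ly.2.2 (by decide), zx := hA.comm z hzA x hx,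
      t1 := hne2 htact (by decide), u1 := hne2 Lu.2.2 (by decide), tt := ht2, uu := uu, ut := htu,
      tu1 := hne2 (DA.act_mul htact Lu.2.2) (by decide),
      qq := qq, qyy := by rw [hyi]; exact qyy, uq := eq_inv_of_mul_eq_one_left uquq, yt := Ly.2.1, uy := huyi, tz := htz, uz := huz,
      tx := htx, ux := hux,
      sz := by rw [Ls.2.2.1, pt_x], sx := by rw [Ls.2.2.2, pt_z],
      gz := by rw [hge, Lg.2.2.1, hp, v1, pow_one, pow_one],
      gx := by rw [hge, Lg.2.2.2, hp, v1, v2, pow_one, hxi],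
      gu := by rw [hge, hgu, mul_inv_cancel_right],
      cent := ?_, cent_z := ?_, invol_z := ?_, invol_x := ?_, zy := ?_ }
  · intro k hku hkz
    obtain ⟨hkA, -⟩ := hfix k hkz
    obtain ⟨b, hb2, hact⟩ := DA.act_of_fix hkA hkz
    have hb : b = (0, 1) ∨ b = (0, 2) := by
      have h1 := DA.act_mul hact Lu.2.2
      have h2 := DA.act_mul Lu.2.2 hact
      rw [hku] at h1
      exact fix_comm b hb2 (DA.pt_injective (h2.2.symm.trans h1.2))
    obtain ⟨e, he⟩ : ∃ e : ℕ, k * u ^ e ∈ QA := by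
      rcases hb with h | h
      · exact ⟨0, by
          have := DA.eq_mul_of_act hkA (one_mem A) (h ▸ hact) (DA.act_one_of_mem (one_mem _))
          simpa using this⟩
      · refine ⟨1, ?_⟩
        have := DA.eq_mul_of_act hkA Lu.1 (h ▸ hact) Lu.2.2
        rw [hui] at this
        rw [pow_one, hku]
        exact this
    obtain ⟨v, hv⟩ := DA.exists_pt he
    have hfixu : u * pt z x v * u⁻¹ = pt z x v := by
      rw [← hv, mul_inv_eq_iff_eq_mul]
      exact ((show Commute u k from hku.symm).mul_right ((Commute.refl u).pow_right e)).eq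
    rw [DA.act_apply Lu.2.2] at hfixu
    have hv2 : v.2 = 0 := by
      exact fix_diag v (DA.pt_injective hfixu)
    refine ⟨v.1.val, e, ?_⟩
    have hpv : pt z x v = z ^ v.1.val := by simp [pt, hv2]
    rw [← hpv, ← hv, mul_assoc, ← pow_add, ← two_mul, pow_mul, pow_two, uu, one_pow, mul_one]
  · intro k hkz
    obtain ⟨hkA, -⟩ := hfix k hkz
    obtain ⟨b, hb2, hact⟩ := DA.act_of_fix hkA hkz
    have h6 := DA.act_mul hact (DA.act_mul hact (DA.act_mul hact (DA.act_mul hact (DA.act_mul hact hact))))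
    have hQ : k * (k * (k * (k * (k * k)))) ∈ QA := by
      have := DA.eq_mul_of_act (g := k * (k * (k * (k * (k * k))))) (k := 1)
        (mul_mem hkA (mul_mem hkA (mul_mem hkA (mul_mem hkA (mul_mem hkA hkA))))) (one_mem A) h6
      rw [inv_one, one_mul] at this
      refine this ?_
      have e : ∀ b : V3, lin (1, 0) b (1, 0) = (1, 0) := by decide
      simp only [e, fix_cases b hb2]
      exact DA.act_one_of_mem (one_mem _)
    have e : k * (k * (k * (k * (k * k)))) = k ^ 6 := by simp only [pow_succ, pow_zero, one_mul, mul_assoc]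
    rw [e] at hQ
    rw [show 18 = 6 * 3 from rfl, pow_mul]
    exact DA.cube _ hQ
  · intro w hw2 hw1 hwz'
    obtain ⟨hwA', -⟩ := hfix w hwz'
    obtain ⟨b, hb2, hact⟩ := DA.act_of_fix hwA' hwz'
    have hsq : lin (1, 0) b b = (0, 1) := by
      have h := DA.act_mul hact hact
      rw [hw2] at h
      exact DA.pt_injective (h.2.symm.trans (by simp [pt_x]))
    rcases fix_square b hb2 hsq with h | h
    · exfalso
      have hmem := DA.eq_mul_of_act hwA' (one_mem A) (h ▸ hact) (DA.act_one_of_mem (one_mem _))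
      rw [inv_one, one_mul] at hmem
      have := DA.cube w hmem
      rw [pow_succ, pow_two, hw2, one_mul] at this
      exact hw1 this
    · obtain ⟨m, hm⟩ : ∃ m : G, Lift A z x t m (1, 0) (-b.1, 1) :=
        DA.exists_lift htA ht2 htact _ _ (fix_det _)
      obtain ⟨m', hm'⟩ : ∃ m' : G, Lift A z x t m' (1, 0) (b.1, 1) :=
        DA.exists_lift htA ht2 htact _ _ (fix_det _)
      have e1 : m * m' = 1 := eq (DA.lift_mul hm hm') L1
        (fix_invl b.1).1 (fix_invl b.1).2.1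
      have hconjL := DA.lift_mul (DA.lift_mul hm' Lu) hm
      have hact' : Act z x (m' * u * m) (1, 0) b := by
        convert hconjL.2.2 using 1
        · exact (fix_invl b.1).2.2.1.symm
        · rw [(fix_invl b.1).2.2.2, ← h]
      have hmi : m = m'⁻¹ := eq_inv_of_mul_eq_one_left e1
      obtain ⟨r, hr, hre⟩ := DA.invol_conj (mul_mem (mul_mem hm'.1 Lu.1) hm.1) hwA'
        (by calc m' * u * m * (m' * u * m) = m' * u * (m * m') * u * m := by group
              _ = m' * (u * u) * m := by rw [e1]; group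
              _ = 1 := by rw [uu, hmi]; group) hw2 hact' hact
      refine ⟨r * m', ?_, ?_⟩
      · have h1 : m' * z = z * m' := by rw [← mul_inv_eq_iff_eq_mul, hm'.2.2.1, pt_z]
        calc r * m' * z = r * (m' * z) := mul_assoc _ _ _
          _ = r * z * m' := by rw [h1, ← mul_assoc]
          _ = z * r * m' := by rw [DA.comm r hr z DA.hz]
          _ = z * (r * m') := mul_assoc _ _ _
      · rw [hre, hmi]; group
  · intro w hw2 hwz' hcomm
    obtain ⟨hwA', -⟩ := hfix w hwz'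
    by_contra hw1
    have hr : x * w * x⁻¹ * w⁻¹ ∈ QA := by
      have h := mul_mem hx (DA.norm w hwA' x⁻¹ (inv_mem hx))
      rwa [show x * (w * x⁻¹ * w⁻¹) = x * w * x⁻¹ * w⁻¹ by group] at h
    have hwi : w⁻¹ = w := inv_eq_of_mul_eq_one_right hw2
    have hsq : x * w * x⁻¹ * w⁻¹ * (x * w * x⁻¹ * w⁻¹) = 1 := by
      rw [hwi]
      calc x * w * x⁻¹ * w * (x * w * x⁻¹ * w)
          = x * w * x⁻¹ * (w * (x * w * x⁻¹)) * w := by group
        _ = x * w * x⁻¹ * (x * w * x⁻¹ * w) * w := by rw [hcomm]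
        _ = x * (w * w) * x⁻¹ * (w * w) := by group
        _ = 1 := by rw [hw2]; group
    have h1 : x * w * x⁻¹ * w⁻¹ = 1 := by
      have := DA.cube _ hr
      rwa [pow_succ, pow_two, hsq, one_mul] at this
    rw [mul_inv_eq_one, mul_inv_eq_iff_eq_mul] at h1
    obtain ⟨b, -, hact⟩ := DA.act_of_fix hwA' hwz'
    have h2 : b = (0, 1) := DA.pt_injective (hact.2.symm.trans (by rw [← h1, mul_inv_cancel_right, pt_x]))
    have hmem := DA.eq_mul_of_act hwA' (one_mem A) (h2 ▸ hact) (DA.act_one_of_mem (one_mem _))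
    rw [inv_one, one_mul] at hmem
    have := DA.cube w hmem
    rw [pow_succ, pow_two, hw2, one_mul] at this
    exact hw1 this
  · obtain ⟨b, hbB, hb⟩ := DB.exists_act (0, 1) (1, 0) (by decide)
    rw [Act, pt_x, pt_z] at hb
    have hbu : Act z y (b * u * b⁻¹) (2, 0) (0, 1) := by
      have h1 : b⁻¹ * z * b = y := by nth_rw 1 [← hb.2]; group
      have h2 : b⁻¹ * y * b = z := by nth_rw 1 [← hb.1]; group
      constructor
      · rw [← hzinv]
        calc b * u * b⁻¹ * z * (b * u * b⁻¹)⁻¹ = b * (u * (b⁻¹ * z * b) * u⁻¹) * b⁻¹ := by group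
          _ = (b * y * b⁻¹)⁻¹ := by rw [h1, huyi]; group
          _ = z⁻¹ := by rw [hb.2]
      · rw [pt_x]
        calc b * u * b⁻¹ * y * (b * u * b⁻¹)⁻¹ = b * (u * (b⁻¹ * y * b) * u⁻¹) * b⁻¹ := by group
          _ = y := by rw [h2, huz, mul_inv_cancel_right, hb.1]
    have htB' : Act z y t (2, 0) (0, 1) := ⟨by rw [← hzinv, htz], by rw [pt_x, hty]⟩
    obtain ⟨r, hr, hre⟩ := DB.invol_conj (mul_mem (mul_mem hbB huB) (inv_mem hbB)) htB
      (by calc b * u * b⁻¹ * (b * u * b⁻¹) = b * (u * u) * b⁻¹ := by group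
            _ = 1 := by rw [uu]; group) ht2 hbu htB'
    refine ⟨r * b, ?_, ?_⟩
    · calc r * b * z * (r * b)⁻¹ = r * (b * z * b⁻¹) * r⁻¹ := by group
        _ = y := by rw [hb.1, DB.comm r hr y DB.hx, mul_inv_cancel_right]
    · rw [hre]; group

end Cfsg.Agent.M12Amal
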